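import Groth.Prelude.Def_CoactBr
import Mathlib.AlgebraicGeometry.Group.Affine
import Mathlib.AlgebraicGeometry.Morphisms.Flat
import Mathlib.AlgebraicGeometry.Limits

/-!
# Affine charts over `Spec k` in the spelling `CoactBr.sp`

* `exists_iso_sp`, `exists_pt`, `isPullback_of_left`, `isPullback_pt`.
* `exists_chart`: an affine morphism `φ : X ⟶ Y` over `k` near a point of `Y` is `Spec` of an algebra
  map, on an open neighbourhood.
* `isPullback_tensor`: base change of a chart.
-/

set_option autoImplicit false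

universe u

open CategoryTheory CategoryTheory.Limits MonoidalCategory CartesianMonoidalCategory MonObj
  AlgebraicGeometry TensorProduct

namespace K690.Chart

open CoactBr

variable {k : Type u} [CommRing k]

lemma exists_iso_sp (X : Over (Spec (CommRingCat.of k))) [IsAffine X.left] :
    ∃ (A : Type u) (_ : CommRing A) (_ : Algebra k A), Nonempty (sp k A ≅ X) := by
  obtain ⟨A, ⟨e⟩⟩ := essImage_algSpec.mpr (inferInstance : IsAffine X.left)
  exact ⟨A.unop, inferInstance, inferInstance, ⟨e⟩⟩

variable {A B C P : Type u} [CommRing A] [CommRing B] [CommRing C] [CommRing P]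
    [Algebra k A] [Algebra k B] [Algebra k C] [Algebra k P]

lemma exists_pt (g : sp k B ⟶ sp k A) : ∃ f : A →ₐ[k] B, pt f = g := by
  refine ⟨⟨(Spec.preimage g.left).hom, ?_⟩, ?_⟩
  · have h : CommRingCat.ofHom (algebraMap k A) ≫ Spec.preimage g.left =
        CommRingCat.ofHom (algebraMap k B) := by
      apply Spec.map_injective
      rw [Spec.map_comp, Spec.map_preimage]
      exact Over.w g
    intro r
    exact congrArg (fun q => q.hom r) h
  · ext1
    rw [pt_left]
    exact Spec.map_preimage _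

lemma isPullback_of_left {S : Scheme.{u}} {P X Y Z : Over S} {fst : P ⟶ X} {snd : P ⟶ Y}
    {f : X ⟶ Z} {g : Y ⟶ Z} (h : IsPullback fst.left snd.left f.left g.left) :
    IsPullback fst snd f g :=
  IsPullback.of_map (Over.forget S) (by ext1; simpa using h.w) h

/-- A pushout square of algebras gives a pullback square of schemes over `Spec k`. -/
lemma isPullback_pt (f : A →ₐ[k] B) (g : A →ₐ[k] C) (inl : B →ₐ[k] P) (inr : C →ₐ[k] P)
    (h : IsPushout (CommRingCat.ofHom f.toRingHom) (CommRingCat.ofHom g.toRingHom)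
      (CommRingCat.ofHom inl.toRingHom) (CommRingCat.ofHom inr.toRingHom)) :
    IsPullback (pt inl) (pt inr) (pt f) (pt g) :=
  isPullback_of_left (isPullback_SpecMap_of_isPushout _ _ _ _ h)

/-- An affine open neighbourhood. -/
lemma exists_nbhd (Y : Over (Spec (CommRingCat.of k))) (y : Y.left) :
    ∃ (B : Type u) (_ : CommRing B) (_ : Algebra k B) (j : sp k B ⟶ Y),
      IsOpenImmersion j.left ∧ y ∈ Set.range j.left := by
  obtain ⟨_, ⟨V₀, hV₀, rfl⟩, hyV, -⟩ :=
    Y.left.isBasis_affineOpens.exists_subset_of_mem_open (Set.mem_univ y) isOpen_univ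
  let V : Y.left.Opens := V₀
  have : IsAffine (Over.mk (V.ι ≫ Y.hom)).left := hV₀
  obtain ⟨B, _, _, ⟨e⟩⟩ := exists_iso_sp (Over.mk (V.ι ≫ Y.hom))
  refine ⟨B, inferInstance, inferInstance, e.hom ≫ Over.homMk V.ι, ?_, ?_⟩
  · rw [Over.comp_left]
    have h1 : IsOpenImmersion (Over.homMk V.ι : Over.mk (V.ι ≫ Y.hom) ⟶ Y).left :=
      inferInstanceAs (IsOpenImmersion V.ι)
    infer_instance
  · refine ⟨e.inv.left ⟨y, hyV⟩, ?_⟩
    rw [← Scheme.Hom.comp_apply, ← Over.comp_left, e.inv_hom_id_assoc]
    rfl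

/-- An affine morphism near a point of the target. -/
lemma exists_chart {X Y : Over (Spec (CommRingCat.of k))} (φ : X ⟶ Y) [IsAffineHom φ.left]
    (y : Y.left) :
    ∃ (B : Type u) (_ : CommRing B) (_ : Algebra k B) (R : Type u) (_ : CommRing R)
      (_ : Algebra k R) (β : B →ₐ[k] R) (j : sp k B ⟶ Y) (jX : sp k R ⟶ X),
      IsOpenImmersion j.left ∧ y ∈ Set.range j.left ∧ IsPullback jX (pt β) φ j := by
  obtain ⟨B, _, _, j, hj, hy⟩ := exists_nbhd Y y
  have hp := IsPullback.of_hasPullback φ j
  have h1 : IsAffineHom (pullback.snd φ j).left :=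
    MorphismProperty.of_isPullback (P := @IsAffineHom) (hp.map (Over.forget _)) ‹_›
  have hB : IsAffine (sp k B).left := inferInstanceAs (IsAffine (Spec (CommRingCat.of B)))
  have h2 : IsAffine (pullback φ j).left := isAffine_of_isAffineHom (pullback.snd φ j).left
  obtain ⟨R, _, _, ⟨e⟩⟩ := exists_iso_sp (pullback φ j)
  obtain ⟨β, hβ⟩ := exists_pt (e.hom ≫ pullback.snd φ j)
  refine ⟨B, inferInstance, inferInstance, R, inferInstance, inferInstance, β, j,
    e.hom ≫ pullback.fst φ j, hj, hy, ?_⟩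
  rw [hβ]
  exact hp.of_iso e.symm (Iso.refl _) (Iso.refl _) (Iso.refl _) (by simp) (by simp) (by simp)
    (by simp)

/-- Base change of affine charts. -/
lemma isPullback_tensor (f : A →ₐ[k] B) (g : A →ₐ[k] C) :
    ∃ (D : Type u) (_ : CommRing D) (_ : Algebra k D) (l : B →ₐ[k] D) (r : C →ₐ[k] D),
      IsPullback (pt l) (pt r) (pt f) (pt g) := by
  have hp := IsPullback.of_hasPullback (pt f) (pt g)
  have h1 : IsAffineHom (pt g).left :=
    inferInstanceAs (IsAffineHom (Spec.map (CommRingCat.ofHom g.toRingHom)))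
  have hB : IsAffine (sp k B).left := inferInstanceAs (IsAffine (Spec (CommRingCat.of B)))
  have h1 : IsAffineHom (pullback.fst (pt f) (pt g)).left :=
    MorphismProperty.of_isPullback (P := @IsAffineHom) ((hp.map (Over.forget _)).flip) ‹_›
  have h2 : IsAffine (pullback (pt f) (pt g)).left :=
    isAffine_of_isAffineHom (pullback.fst (pt f) (pt g)).left
  obtain ⟨D, _, _, ⟨e⟩⟩ := exists_iso_sp (pullback (pt f) (pt g))
  obtain ⟨l, hl⟩ := exists_pt (e.hom ≫ pullback.fst (pt f) (pt g))
  obtain ⟨r, hr⟩ := exists_pt (e.hom ≫ pullback.snd (pt f) (pt g))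
  refine ⟨D, inferInstance, inferInstance, l, r, ?_⟩
  rw [hl, hr]
  exact hp.of_iso e.symm (Iso.refl _) (Iso.refl _) (Iso.refl _) (by simp) (by simp) (by simp)
    (by simp)

/-- Morphisms out of `A` are determined by the affine points of `A`. -/
lemma hom_ext_sp {T X : Over (Spec (CommRingCat.of k))} {f g : T ⟶ X}
    (h : ∀ (C : Type u) [CommRing C] [Algebra k C] (t : sp k C ⟶ T), t ≫ f = t ≫ g) : f = g := by
  ext1
  refine Scheme.Cover.hom_ext T.left.affineCover _ _ fun i => ?_
  have : IsAffine (Over.mk (T.left.affineCover.f i ≫ T.hom)).left :=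
    inferInstanceAs (IsAffine (T.left.affineCover.X i))
  obtain ⟨C, _, _, ⟨e⟩⟩ := exists_iso_sp (Over.mk (T.left.affineCover.f i ≫ T.hom))
  have h1 := h C (e.hom ≫ Over.homMk (T.left.affineCover.f i))
  rw [Category.assoc, Category.assoc, cancel_epi] at h1
  exact congrArg CommaMorphism.left h1

end K690.Chart
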