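import Groth.Agent.GIT.K690.GeomQuot
import Groth.Agent.GIT.K686.Whisk
import Groth.Prelude.Def_GLinSh

/-!
# Orbit maps and stabilisers along a torsor under a normal subgroup

* `LS.of_comp`, `LS.of_flat`, `isIso_of_mono_LS`.
* `isPullback_psi`: if `1 → N → G → H → 1` is exact, `φ : X ⟶ Y` an `N`-torsor, equivariant along
  `G ⟶ H`, then for every point `x` of `X` the orbit map `ψ_x` of `G` is the base change of the
  orbit map `ψ_{φ x}` of `H` along `φ`.
* `stab_iso`, `isClosed_range_iff`: consequences for stabilisers and orbits.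
-/

set_option autoImplicit false

universe u

open CategoryTheory CategoryTheory.Limits MonoidalCategory CartesianMonoidalCategory MonObj
  AlgebraicGeometry

namespace K690.NormalTors

open K690.LocSec K690.Torsor AlgGrp.Action

section LS

variable {X Y Z : Scheme.{u}}

lemma ls_of_comp {f : X ⟶ Y} {g : Y ⟶ Z} (h : LS (f ≫ g)) : LS g := by
  obtain ⟨R, hR, hRs⟩ := h
  refine ⟨R, hR, fun S' v hv => ?_⟩
  obtain ⟨s, hs⟩ := hRs v hv
  exact ⟨s ≫ f, by rw [Category.assoc]; exact hs⟩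

lemma ls_of_flat (f : X ⟶ Y) [Flat f] [Surjective f] [QuasiCompact f] : LS f := by
  refine ⟨Presieve.singleton f, Scheme.Hom.singleton_mem_fpqcPrecoverage f, ?_⟩
  rintro S' g ⟨⟩
  exact ⟨𝟙 _, Category.id_comp _⟩

lemma isIso_of_mono_ls {S : Scheme.{u}} {A B : Over S} (f : A ⟶ B) [Mono f] (h : LS f.left) :
    IsIso f := by
  have h1 := h.effectiveEpi
  have : IsIso f.left := isIso_of_mono_of_strongEpi f.left
  exact (isIso_iff_of_reflects_iso f (Over.forget S)).1 this

end LS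

section Equiv

variable {S : Scheme.{u}} {G N H X Y : Over S} [GrpObj G] [GrpObj N] [GrpObj H]
  {iN : N ⟶ G} [IsMonHom iN] {q : G ⟶ H} [IsMonHom q]
  {a : AlgGrp.Action G X} {φ : X ⟶ Y} {aY : AlgGrp.Action H Y}

omit [IsMonHom q] in
lemma equiv_pt (hequiv : (q ⊗ₘ φ) ≫ aY.act = a.act ≫ φ) {T : Over S} (g : T ⟶ G) (x : T ⟶ X) :
    (lift g x ≫ a.act) ≫ φ = lift (g ≫ q) (x ≫ φ) ≫ aY.act := by
  rw [Category.assoc, ← hequiv, lift_map_assoc]

@[reassoc]
lemma lift_psi {T T' : Over S} (x : T ⟶ X) (g : T' ⟶ G) (t : T' ⟶ T) :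
    lift g t ≫ GIT.psi a x = lift (lift g (t ≫ x) ≫ a.act) t := by
  rw [GIT.psi, comp_lift, lift_whiskerLeft_assoc, lift_snd]

lemma hom_decomp {A B T : Over S} (z : T ⟶ A ⊗ B) : z = lift (z ≫ fst A B) (z ≫ snd A B) := by
  rw [← comp_lift, lift_fst_snd, Category.comp_id]

omit [IsMonHom q] in
lemma psi_comm (hequiv : (q ⊗ₘ φ) ≫ aY.act = a.act ≫ φ) {T : Over S} (x : T ⟶ X) :
    GIT.psi a x ≫ (φ ▷ T) = (q ▷ T) ≫ GIT.psi aY (x ≫ φ) := by
  apply hom_ext_lift₂
  intro T' g t
  rw [lift_psi_assoc, lift_whiskerRight, equiv_pt hequiv, lift_whiskerRight_assoc, lift_psi,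
    Category.assoc]

variable (hker : AlgGrp.IsKernel iN q) (hq : LS q.left)
  (hcart : IsPullback (a.restrict iN).act (snd N X) φ φ)
  (hequiv : (q ⊗ₘ φ) ≫ aY.act = a.act ≫ φ)

omit [GrpObj N] [IsMonHom iN] in
include hker in
lemma exists_ker {T : Over S} (g g' : T ⟶ G) (h : g ≫ q = g' ≫ q) :
    ∃ n : T ⟶ N, g' = (n ≫ iN) * g := by
  refine ⟨hker.lift (g' * g⁻¹) (toUnit _) ?_, ?_⟩
  · have h1 : (g' * g⁻¹) ≫ q = (g' ≫ q) * (g ≫ q)⁻¹ := by
      rw [mul_comp, GrpObj.inv_comp]
    rw [h1, h, mul_inv_cancel, Hom.one_def]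
  · rw [hker.lift_fst, inv_mul_cancel_right]

include hker hq hcart hequiv in
theorem isPullback_psi {T : Over S} (x : T ⟶ X) :
    IsPullback (GIT.psi a x) (q ▷ T) (φ ▷ T) (GIT.psi aY (x ≫ φ)) := by
  have hw := psi_comm hequiv x
  obtain ⟨-, hp⟩ := (isPullback_act_iff (a.restrict iN) φ).1 hcart
  let can : G ⊗ T ⟶ pullback (φ ▷ T) (GIT.psi aY (x ≫ φ)) := pullback.lift _ _ hw
  have hmono : Mono can := by
    constructor
    intro Z u v huv
    have h1 : u ≫ GIT.psi a x = v ≫ GIT.psi a x := by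
      have := congrArg (fun f => f ≫ pullback.fst _ _) huv
      simpa only [Category.assoc, can, pullback.lift_fst] using this
    have h2 : u ≫ (q ▷ T) = v ≫ (q ▷ T) := by
      have := congrArg (fun f => f ≫ pullback.snd _ _) huv
      simpa only [Category.assoc, can, pullback.lift_snd] using this
    obtain ⟨g, t, rfl⟩ : ∃ g t, u = lift g t := ⟨_, _, hom_decomp u⟩
    obtain ⟨g', t', rfl⟩ : ∃ g t, v = lift g t := ⟨_, _, hom_decomp v⟩
    rw [lift_psi, lift_psi] at h1
    rw [lift_whiskerRight, lift_whiskerRight] at h2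
    have h3 : g ≫ q = g' ≫ q := by simpa only [lift_fst] using congrArg (· ≫ fst _ _) h2
    obtain rfl : t = t' := by simpa only [lift_snd] using congrArg (· ≫ snd _ _) h2
    have h4 : lift g (t ≫ x) ≫ a.act = lift g' (t ≫ x) ≫ a.act := by
      simpa only [lift_fst] using congrArg (· ≫ fst _ _) h1
    obtain ⟨n, rfl⟩ := exists_ker hker g g' h3
    obtain ⟨m, hm, hmu⟩ := hp Z (lift g (t ≫ x) ≫ a.act) (lift g (t ≫ x) ≫ a.act) rfl
    have hn : n = m := by
      apply hmu
      rw [lift_restrict_act, ← lift_mul_act, ← h4]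
    have h1' : (1 : Z ⟶ N) = m := by
      apply hmu
      rw [lift_one_act]
    rw [hn, ← h1', one_comp, _root_.one_mul]
  have hLS : LS can.left := by
    let p : pullback (φ ▷ T) (GIT.psi aY (x ≫ φ)) ⟶ H := pullback.snd _ _ ≫ fst H T
    let c := pullback.fst p q
    have hc : LS c.left :=
      LS.of_isPullback (((IsPullback.of_hasPullback p q).map (Over.forget S)).flip) hq
    let t : pullback p q ⟶ T := c ≫ pullback.snd _ _ ≫ snd H T
    let x' : pullback p q ⟶ X := c ≫ pullback.fst _ _ ≫ fst X T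
    let g : pullback p q ⟶ G := pullback.snd p q
    have hg : g ≫ q = c ≫ p := (pullback.condition (f := p) (g := q)).symm
    have e1 : c ≫ pullback.snd (φ ▷ T) (GIT.psi aY (x ≫ φ)) = lift (g ≫ q) t := by
      rw [hg]
      exact hom_decomp _
    have e2 : (c ≫ pullback.fst (φ ▷ T) (GIT.psi aY (x ≫ φ))) ≫ (φ ▷ T) =
        lift (lift (g ≫ q) (t ≫ x ≫ φ) ≫ aY.act) t := by
      rw [Category.assoc, pullback.condition, ← Category.assoc, e1, lift_psi]
    have e3 : c ≫ pullback.fst (φ ▷ T) (GIT.psi aY (x ≫ φ)) =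
        lift x' ((c ≫ pullback.fst (φ ▷ T) (GIT.psi aY (x ≫ φ))) ≫ snd X T) :=
      hom_decomp _ |>.trans (by rw [Category.assoc])
    rw [e3, lift_whiskerRight] at e2
    have e4 : x' ≫ φ = (lift g (t ≫ x) ≫ a.act) ≫ φ := by
      rw [equiv_pt hequiv]
      simpa only [lift_fst, Category.assoc] using congrArg (· ≫ fst _ _) e2
    have e5 : (c ≫ pullback.fst (φ ▷ T) (GIT.psi aY (x ≫ φ))) ≫ snd X T = t := by
      simpa only [lift_snd] using congrArg (· ≫ snd _ _) e2
    rw [e5] at e3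
    obtain ⟨n, hn, -⟩ := hp _ x' (lift g (t ≫ x) ≫ a.act) e4
    have e6 : lift ((n ≫ iN) * g) t ≫ can = c := by
      apply pullback.hom_ext
      · rw [Category.assoc, pullback.lift_fst, lift_psi, e3, lift_mul_act]
        congr 1
        rw [← lift_restrict_act]
        exact hn
      · have h0 : (n ≫ iN) ≫ q = 1 := by
          rw [Category.assoc, hker.w, ← Category.assoc, toUnit_unique (n ≫ toUnit N) (toUnit _),
            Hom.one_def]
        rw [Category.assoc, pullback.lift_snd, e1, lift_whiskerRight, mul_comp, h0,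
          _root_.one_mul]
    rw [← e6] at hc
    exact ls_of_comp hc
  have := isIso_of_mono_ls can hLS
  exact IsPullback.of_iso_pullback ⟨hw⟩ (asIso can) (pullback.lift_fst _ _ _)
    (pullback.lift_snd _ _ _)

include hker hq hcart hequiv in
/-- The stabilisers agree. -/
theorem stab_iso {T : Over S} (x : T ⟶ X) :
    ∃ e : GLinSh.stab a x ≅ GLinSh.stab aY (x ≫ φ),
      e.hom ≫ GLinSh.stabTo aY (x ≫ φ) = GLinSh.stabTo a x := by
  have h1 := (isPullback_psi hker hq hcart hequiv x).map (Over.forget S)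
  have h2 : IsPullback (GLinSh.stabTo a x) (pullback.fst (GIT.psi a x).left (lift x (𝟙 T)).left)
      (lift x (𝟙 T)).left (GIT.psi a x).left := (IsPullback.of_hasPullback _ _).flip
  have h3 := h2.paste_vert h1
  have e1 : (lift x (𝟙 T)).left ≫ (Over.forget S).map (φ ▷ T) = (lift (x ≫ φ) (𝟙 T)).left := by
    change (lift x (𝟙 T) ≫ (φ ▷ T)).left = _
    rw [lift_whiskerRight]
  rw [e1] at h3
  have h4 : IsPullback (GLinSh.stabTo aY (x ≫ φ))
      (pullback.fst (GIT.psi aY (x ≫ φ)).left (lift (x ≫ φ) (𝟙 T)).left)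
      (lift (x ≫ φ) (𝟙 T)).left (GIT.psi aY (x ≫ φ)).left := (IsPullback.of_hasPullback _ _).flip
  exact ⟨h3.isoIsPullback _ _ h4, h3.isoIsPullback_hom_fst _ _ h4⟩

include hker hq hcart hequiv in
theorem stab_prop_iff (P : MorphismProperty Scheme.{u}) [P.RespectsIso] {T : Over S} (x : T ⟶ X) :
    P (GLinSh.stabTo a x) ↔ P (GLinSh.stabTo aY (x ≫ φ)) := by
  obtain ⟨e, he⟩ := stab_iso hker hq hcart hequiv x
  exact P.arrow_mk_iso_iff (Arrow.isoMk e (Iso.refl _) (by simp [he]))

include hker hq hcart hequiv in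
theorem isClosed_range_iff (hφ : LS φ.left) {T : Over S} (x : T ⟶ X) :
    IsClosed (Set.range (GIT.psi a x).left.base) ↔
      IsClosed (Set.range (GIT.psi aY (x ≫ φ)).left.base) := by
  have h1 := (isPullback_psi hker hq hcart hequiv x).map (Over.forget S)
  have h2 : LS (φ ▷ T).left := by
    exact LS.of_isPullback (K686.Whisk.isPullback_whiskerRight_left φ T).flip hφ
  have h3 : Set.range (GIT.psi a x).left.base =
      (φ ▷ T).left.base ⁻¹' Set.range (GIT.psi aY (x ≫ φ)).left.base :=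
    K686.Whisk.range_of_isPullback h1
  rw [h3]
  exact h2.isQuotientMap.isClosed_preimage

end Equiv

end K690.NormalTors
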