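import Groth.Agent.GIT.K690.AssocBundle
import Groth.Agent.GIT.K690.NormalTors

/-!
# Towers of torsors

* descent of morphisms along morphisms with fpqc-local sections, in `Over S`:
  `epi_of_ls`, `exists_desc`, `exists_local_lift`, `existsUnique_of_local`, `isPullback_of_local`.
* `exists_tower`: for an exact sequence `1 → N → G → H → 1` with `H` affine over the base, a
  `G`-torsor `X ⟶ Y` factors as an `N`-torsor `X ⟶ W` and an `H`-torsor `W ⟶ Y`.
-/

set_option autoImplicit false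

universe u

open CategoryTheory CategoryTheory.Limits MonoidalCategory CartesianMonoidalCategory MonObj
  AlgebraicGeometry

namespace K690.TorsorTower

open K690.LocSec K690.Torsor K690.GeomQuot K690.NormalTors AlgGrp.Action

section Descent

variable {S : Scheme.{u}} {A B C : Over S}

lemma epi_of_ls (f : A ⟶ B) (h : LS f.left) : Epi f := by
  have := h.effectiveEpi
  constructor
  intro Z g g' hg
  ext1
  rw [← cancel_epi f.left]
  exact congrArg CommaMorphism.left hg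

lemma exists_desc (f : A ⟶ B) (hf : LS f.left) (e : A ⟶ C)
    (h : ∀ (T : Over S) (a₁ a₂ : T ⟶ A), a₁ ≫ f = a₂ ≫ f → a₁ ≫ e = a₂ ≫ e) :
    ∃ d : B ⟶ C, f ≫ d = e := by
  have := hf.effectiveEpi
  have h' : ∀ {Z : Scheme.{u}} (g₁ g₂ : Z ⟶ A.left), g₁ ≫ f.left = g₂ ≫ f.left →
      g₁ ≫ e.left = g₂ ≫ e.left := by
    intro Z g₁ g₂ hg
    have h0 : g₂ ≫ A.hom = g₁ ≫ A.hom := by
      rw [← Over.w f, ← Category.assoc, ← hg, Category.assoc]
    have h1 := h (Over.mk (g₁ ≫ A.hom)) (Over.homMk g₁) (Over.homMk g₂ h0) (by ext1; exact hg)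
    exact congrArg CommaMorphism.left h1
  refine ⟨Over.homMk (EffectiveEpi.desc f.left e.left h') ?_, ?_⟩
  · rw [← cancel_epi f.left, EffectiveEpi.fac_assoc, Over.w, Over.w]
  · ext1
    exact EffectiveEpi.fac f.left e.left h'

lemma ls_comp {X Y Z : Scheme.{u}} {f : X ⟶ Y} {g : Y ⟶ Z} (hf : LS f) (hg : LS g) : LS (f ≫ g) :=
  isLocallyTrivialFor_comp hf hg

lemma exists_local_lift {f : A ⟶ B} (hf : LS f.left) {T : Over S} (b : T ⟶ B) :
    ∃ (T' : Over S) (p : T' ⟶ T) (a : T' ⟶ A), LS p.left ∧ a ≫ f = p ≫ b :=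
  ⟨pullback b f, pullback.fst b f, pullback.snd b f,
    LS.of_isPullback (((IsPullback.of_hasPullback b f).map (Over.forget S)).flip) hf,
    pullback.condition.symm⟩

/-- Morphisms characterised by a local condition with uniqueness exist as soon as they exist
locally. -/
lemma existsUnique_of_local {T T' : Over S} (p : T' ⟶ T) (hp : LS p.left)
    (R : ∀ {U : Over S}, (U ⟶ T) → (U ⟶ C) → Prop)
    (hR : ∀ {U V : Over S} (v : V ⟶ U) (t : U ⟶ T) (c : U ⟶ C), R t c → R (v ≫ t) (v ≫ c))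
    (hR' : ∀ c : T ⟶ C, R p (p ≫ c) → R (𝟙 T) c)
    (hex : ∃ c : T' ⟶ C, R p c)
    (huniq : ∀ {U : Over S} (t : U ⟶ T) (c c' : U ⟶ C), R t c → R t c' → c = c') :
    ∃! c : T ⟶ C, R (𝟙 T) c := by
  obtain ⟨c', hc'⟩ := hex
  obtain ⟨c, hc⟩ := exists_desc p hp c' (fun U t₁ t₂ h => huniq (t₁ ≫ p) _ _ (hR t₁ p c' hc')
    (by rw [h]; exact hR t₂ p c' hc'))
  exact ⟨c, hR' c (by rw [hc]; exact hc'), fun d hd => huniq _ _ _ hd (hR' c (by rw [hc]; exact hc'))⟩

lemma ls_whiskerLeft (f : A ⟶ B) (hf : LS f.left) (Z : Over S) : LS (Z ◁ f).left :=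
  LS.of_isPullback (K686.Whisk.isPullback_whiskerLeft_left f Z).flip hf

lemma ls_whiskerRight (f : A ⟶ B) (hf : LS f.left) (Z : Over S) : LS (f ▷ Z).left :=
  LS.of_isPullback (K686.Whisk.isPullback_whiskerRight_left f Z).flip hf

variable {G X Y : Over S} [GrpObj G] (a : AlgGrp.Action G X) (φ : X ⟶ Y)

/-- The action square is cartesian if points in the same fibre are locally in the same orbit, by a
unique group element. -/
lemma isPullback_of_local (hw : a.act ≫ φ = snd G X ≫ φ)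
    (hex : ∀ (T : Over S) (x x' : T ⟶ X), x ≫ φ = x' ≫ φ →
      ∃ (T' : Over S) (p : T' ⟶ T) (g : T' ⟶ G), LS p.left ∧ lift g (p ≫ x') ≫ a.act = p ≫ x)
    (huniq : ∀ (T : Over S) (g g' : T ⟶ G) (x : T ⟶ X),
      lift g x ≫ a.act = lift g' x ≫ a.act → g = g') :
    IsPullback a.act (snd G X) φ φ := by
  rw [isPullback_act_iff]
  refine ⟨hw, fun T x x' hx => ?_⟩
  obtain ⟨T', p, g, hp, hg⟩ := hex T x x' hx
  have := epi_of_ls p hp
  have key := existsUnique_of_local (C := G) p hp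
    (R := fun {U} (t : U ⟶ T) (c : U ⟶ G) => lift c (t ≫ x') ≫ a.act = t ≫ x)
    (fun {U V} v t c h => by
      rw [Category.assoc, ← comp_lift, Category.assoc, h, Category.assoc])
    (fun c h => by
      rw [Category.id_comp, Category.id_comp, ← cancel_epi p, comp_lift_assoc]
      exact h)
    ⟨g, hg⟩
    (fun {U} t c c' h h' => huniq _ _ _ _ (h.trans h'.symm))
  simpa only [Category.id_comp] using key

end Descent

section Tower

variable {S : Scheme.{u}} {G N H X Y : Over S} [GrpObj G] [GrpObj N] [GrpObj H]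
  {iN : N ⟶ G} [IsMonHom iN] {q : G ⟶ H} [IsMonHom q]
  (hker : AlgGrp.IsKernel iN q) (hq : LS q.left)
  {a : AlgGrp.Action G X} {φ : X ⟶ Y} (hcart : IsPullback a.act (snd G X) φ φ) (hφ : LS φ.left)

/-- The left multiplication action of `G` on `H` through `q`. -/
noncomputable abbrev lm (q : G ⟶ H) [IsMonHom q] : AlgGrp.Action G H :=
  (NonAbH1.trivialAction H).restrict q

lemma lift_lm {T : Over S} (g : T ⟶ G) (h : T ⟶ H) :
    lift g h ≫ (lm q).act = (g ≫ q) * h := by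
  rw [lift_restrict_act, Hom.mul_def]
  rfl

include hker hq hcart hφ in
theorem exists_tower [Flat φ.left] [QuasiCompact φ.left] [IsAffineHom H.hom] :
    ∃ (W : Over S) (ρ : X ⟶ W) (r : W ⟶ Y) (aW : AlgGrp.Action H W), ρ ≫ r = φ ∧
      IsPullback (a.restrict iN).act (snd N X) ρ ρ ∧ LS ρ.left ∧
      IsPullback aW.act (snd H W) r r ∧ LS r.left ∧
      (q ⊗ₘ ρ) ≫ aW.act = a.act ≫ ρ := by
  have hπ : (a.prod (lm q)).act ≫ fst X H = (G ◁ fst X H) ≫ a.act := by
    apply hom_ext_lift₂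
    intro T g z
    obtain ⟨x, y, rfl⟩ : ∃ x y, z = lift x y := ⟨_, _, hom_decomp z⟩
    rw [lift_prod_act_assoc, lift_fst, lift_whiskerLeft_assoc, lift_fst]
  have hfst : IsAffineHom (fst X H).left :=
    MorphismProperty.of_isPullback (P := @IsAffineHom)
      (IsPullback.of_hasPullback X.hom H.hom).flip ‹_›
  obtain ⟨W, m, r, hmr, hpb, hWc, hWl⟩ :=
    AssocBundle.exists_quotient hcart (a.prod (lm q)) (fst X H) hπ hφ
  have hwW : ∀ {T : Over S} (g : T ⟶ G) (x : T ⟶ X) (h : T ⟶ H),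
      lift (lift g x ≫ a.act) ((g ≫ q) * h) ≫ m = lift x h ≫ m := by
    intro T g x h
    have h1 := invariant_pt hWc.w g (lift x h)
    rw [lift_prod_act, lift_lm] at h1
    exact h1
  have hpW : ∀ {T : Over S} (x x' : T ⟶ X) (h h' : T ⟶ H), lift x h ≫ m = lift x' h' ≫ m →
      ∃ g : T ⟶ G, lift g x' ≫ a.act = x ∧ (g ≫ q) * h' = h := by
    intro T x x' h h' e
    obtain ⟨g, hg, -⟩ := ((isPullback_act_iff _ _).1 hWc).2 T _ _ e
    change lift g (lift x' h') ≫ (a.prod (lm q)).act = lift x h at hg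
    rw [lift_prod_act, lift_lm] at hg
    exact ⟨g, by simpa only [lift_fst] using congrArg (· ≫ fst _ _) hg,
      by simpa only [lift_snd] using congrArg (· ≫ snd _ _) hg⟩
  have hmr' : ∀ {T : Over S} (x : T ⟶ X) (h : T ⟶ H), (lift x h ≫ m) ≫ r = x ≫ φ := by
    intro T x h
    rw [Category.assoc, hmr, lift_fst_assoc]
  -- the morphism from `X`
  let ρ : X ⟶ W := lift (𝟙 X) 1 ≫ m
  have hρ : ∀ {T : Over S} (x : T ⟶ X), x ≫ ρ = lift x 1 ≫ m := by
    intro T x
    rw [← Category.assoc, comp_lift, Category.comp_id, comp_one]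
  have hρr : ρ ≫ r = φ := by
    rw [hmr', Category.id_comp]
  -- the action of `H`
  let e : H ⊗ (X ⊗ H) ⟶ W :=
    lift (snd H (X ⊗ H) ≫ fst X H) ((snd H (X ⊗ H) ≫ snd X H) * (fst H (X ⊗ H))⁻¹) ≫ m
  have he : ∀ {T : Over S} (h' : T ⟶ H) (x : T ⟶ X) (h : T ⟶ H),
      lift h' (lift x h) ≫ e = lift x (h * h'⁻¹) ≫ m := by
    intro T h' x h
    rw [← Category.assoc, comp_lift, lift_snd_assoc, lift_fst, comp_mul, lift_snd_assoc, lift_snd,
      GrpObj.comp_inv, lift_fst]
  obtain ⟨act, hact⟩ := exists_desc (H ◁ m) (ls_whiskerLeft m hWl H) e (by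
    intro T a₁ a₂ h
    obtain ⟨h₁, z₁, rfl⟩ : ∃ x y, a₁ = lift x y := ⟨_, _, hom_decomp a₁⟩
    obtain ⟨h₂, z₂, rfl⟩ : ∃ x y, a₂ = lift x y := ⟨_, _, hom_decomp a₂⟩
    obtain ⟨x₁, k₁, rfl⟩ : ∃ x y, z₁ = lift x y := ⟨_, _, hom_decomp z₁⟩
    obtain ⟨x₂, k₂, rfl⟩ : ∃ x y, z₂ = lift x y := ⟨_, _, hom_decomp z₂⟩
    rw [lift_whiskerLeft, lift_whiskerLeft] at h
    obtain rfl : h₁ = h₂ := by simpa only [lift_fst] using congrArg (· ≫ fst _ _) h
    have h2 : lift x₁ k₁ ≫ m = lift x₂ k₂ ≫ m := by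
      simpa only [lift_snd] using congrArg (· ≫ snd _ _) h
    obtain ⟨g, hg1, hg2⟩ := hpW x₁ x₂ k₁ k₂ h2
    rw [he, he, ← hg1, ← hg2, _root_.mul_assoc, hwW])
  have hact' : ∀ {T : Over S} (h' : T ⟶ H) (x : T ⟶ X) (h : T ⟶ H),
      lift h' (lift x h ≫ m) ≫ act = lift x (h * h'⁻¹) ≫ m := by
    intro T h' x h
    rw [← he, ← hact, lift_whiskerLeft_assoc]
  have hloc : ∀ {T : Over S} (w : T ⟶ W), ∃ (T' : Over S) (p : T' ⟶ T) (x : T' ⟶ X) (h : T' ⟶ H),
      LS p.left ∧ p ≫ w = lift x h ≫ m := by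
    intro T w
    obtain ⟨T', p, z, hp, hz⟩ := exists_local_lift hWl w
    exact ⟨T', p, z ≫ fst _ _, z ≫ snd _ _, hp, by rw [← hom_decomp, hz]⟩
  let aW : AlgGrp.Action H W :=
    { act := act
      one_act := by
        apply hom_ext_lift₂
        intro T u w
        obtain ⟨T', p, x, h, hp, hz⟩ := hloc w
        have := epi_of_ls p hp
        have hu : u ≫ η[H] = 1 := by rw [Hom.one_def, toUnit_unique (toUnit T) u]
        rw [← cancel_epi p, lift_whiskerRight_assoc, hu, leftUnitor_hom, lift_snd,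
          comp_lift_assoc, comp_one, hz, hact', inv_one, _root_.mul_one]
      mul_act := by
        apply hom_ext_lift₃
        intro T h₁ h₂ w
        obtain ⟨T', p, x, h, hp, hz⟩ := hloc w
        have := epi_of_ls p hp
        rw [← cancel_epi p, lift_whiskerRight_assoc, ← Hom.mul_def, lift_lift_associator_hom_assoc,
          lift_whiskerLeft_assoc, comp_lift_assoc, comp_lift_assoc, comp_lift_assoc, hz, hact',
          hact', hact', comp_mul, mul_inv_rev, _root_.mul_assoc] }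
  have hone : ∀ {T : Over S} (n : T ⟶ N), (n ≫ iN) ≫ q = 1 := by
    intro T n
    rw [Category.assoc, hker.w, ← Category.assoc, toUnit_unique (n ≫ toUnit N) (toUnit _),
      Hom.one_def]
  have huG : ∀ {T : Over S} (g g' : T ⟶ G) (x : T ⟶ X),
      lift g x ≫ a.act = lift g' x ≫ a.act → g = g' := by
    intro T g g' x h
    obtain ⟨g₀, -, hg⟩ := ((isPullback_act_iff _ _).1 hcart).2 T (lift g' x ≫ a.act) x
      (invariant_pt hcart.w g' x)
    exact (hg g h).trans (hg g' rfl).symm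
  have hρC : IsPullback (a.restrict iN).act (snd N X) ρ ρ := by
    rw [isPullback_act_iff]
    refine ⟨hom_ext_lift₂ fun T n x => ?_, fun T x x' hx => ?_⟩
    · rw [lift_restrict_act_assoc, lift_snd_assoc, ← Category.assoc, hρ, hρ]
      have h1 := hwW (n ≫ iN) x 1
      rw [hone, _root_.one_mul] at h1
      exact h1
    · rw [hρ, hρ] at hx
      obtain ⟨g, hg1, hg2⟩ := hpW _ _ _ _ hx
      rw [_root_.mul_one] at hg2
      obtain ⟨n, hn⟩ : ∃ n : T ⟶ N, n ≫ iN = g := by
        have h1 : g ≫ q = toUnit T ≫ η := by rw [hg2, Hom.one_def]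
        exact ⟨hker.lift g (toUnit _) h1, hker.lift_fst _ _ _⟩
      refine ⟨n, ?_, ?_⟩
      · change lift n x' ≫ (a.restrict iN).act = x
        rw [lift_restrict_act, hn, hg1]
      · intro n' hn'
        change lift n' x' ≫ (a.restrict iN).act = x at hn'
        rw [lift_restrict_act] at hn'
        apply hker.hom_ext
        · rw [hn]
          exact huG _ _ x' (hn'.trans hg1.symm)
        · exact toUnit_unique _ _
  have hρL : LS ρ.left := by
    let m' : X ⊗ G ⟶ X := lift (snd X G)⁻¹ (fst X G) ≫ a.act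
    have h1 : m' ≫ ρ = (X ◁ q) ≫ m := by
      apply hom_ext_lift₂
      intro T x g
      rw [← Category.assoc, hρ, lift_whiskerLeft_assoc]
      have h2 : lift x g ≫ m' = lift g⁻¹ x ≫ a.act := by
        rw [← Category.assoc, comp_lift, GrpObj.comp_inv, lift_snd, lift_fst]
      rw [h2, ← hwW g⁻¹ x (g ≫ q), GrpObj.inv_comp, inv_mul_cancel]
    refine ls_of_comp (f := m'.left) ?_
    rw [← Over.comp_left, h1, Over.comp_left]
    exact ls_comp (ls_whiskerLeft q hq X) hWl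
  refine ⟨W, ρ, r, aW, hρr, hρC, hρL, ?_, ?_, ?_⟩
  · apply isPullback_of_local
    · apply hom_ext_lift₂
      intro T h' w
      obtain ⟨T', p, x, h, hp, hz⟩ := hloc w
      have := epi_of_ls p hp
      rw [← cancel_epi p, lift_snd_assoc, comp_lift_assoc, reassoc_of% hz]
      have h1 : lift (p ≫ h') (p ≫ w) ≫ aW.act = lift x (h * (p ≫ h')⁻¹) ≫ m := by
        rw [hz]
        exact hact' (p ≫ h') x h
      rw [← Category.assoc (lift (p ≫ h') _), h1, hmr', ← Category.assoc, hmr']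
    · intro T w w' hw
      obtain ⟨T₁, p₁, x₁, h₁, hp₁, hz₁⟩ := hloc w
      obtain ⟨T₂, p₂, x₂, h₂, hp₂, hz₂⟩ := hloc (p₁ ≫ w')
      have hx : (p₂ ≫ x₁) ≫ φ = x₂ ≫ φ := by
        rw [← hmr' (p₂ ≫ x₁) (p₂ ≫ h₁), ← comp_lift, Category.assoc p₂, ← hz₁, ← hmr' x₂ h₂, ← hz₂,
          Category.assoc, Category.assoc, Category.assoc, Category.assoc, hw]
      obtain ⟨g, hg, -⟩ := ((isPullback_act_iff _ _).1 hcart).2 _ _ _ hx.symm
      change lift g (p₂ ≫ x₁) ≫ a.act = x₂ at hg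
      refine ⟨T₂, p₂ ≫ p₁, ((g ≫ q) * (p₂ ≫ h₁))⁻¹ * h₂, ?_, ?_⟩
      · rw [Over.comp_left]
        exact ls_comp hp₂ hp₁
      · rw [Category.assoc, hz₂]
        change lift _ (lift x₂ h₂ ≫ m) ≫ act = _
        rw [hact', mul_inv_rev, inv_inv, ← _root_.mul_assoc, ← _root_.mul_assoc, mul_inv_cancel,
          _root_.one_mul, ← hg, hwW, Category.assoc, hz₁, ← comp_lift, Category.assoc]
    · intro T h₁ h₂ w hw
      obtain ⟨T', p, x, h, hp, hz⟩ := hloc w
      have := epi_of_ls p hp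
      rw [← cancel_epi p] at hw ⊢
      change p ≫ lift h₁ w ≫ act = p ≫ lift h₂ w ≫ act at hw
      rw [comp_lift_assoc, comp_lift_assoc, hz, hact', hact'] at hw
      obtain ⟨g, hg1, hg2⟩ := hpW _ _ _ _ hw
      have hg0 : g = 1 := huG _ _ x (by rw [hg1, lift_one_act])
      rw [hg0, one_comp, _root_.one_mul] at hg2
      exact inv_injective (mul_left_cancel hg2).symm
  · refine ls_of_comp (f := ρ.left) ?_
    rw [← Over.comp_left, hρr]
    exact hφ
  · apply hom_ext_lift₂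
    intro T g x
    change _ ≫ _ ≫ act = _
    rw [lift_map_assoc, hρ, hact', ← Category.assoc, hρ, _root_.one_mul, ← hwW g x,
      mul_inv_cancel]

end Tower

end K690.TorsorTower
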