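import Groth.Agent.GIT.K690.Coinv
import Groth.Agent.GIT.K690.TorsorTower
import Groth.Agent.GIT.K690.Chart
import Groth.Prelude.Def_CoactBr

/-!
# Equivariant matrices on torsors

`MatRep k G n`: a matrix representation of the points of `G` with values in `k`-algebras.
For a `G`-torsor `φ : X ⟶ Y` and a faithfully flat affine chart, the cocycle of the torsor through a
matrix representation is a `MatCoc`, hence locally trivial.
-/

set_option autoImplicit false

universe u

open CategoryTheory CategoryTheory.Limits MonoidalCategory CartesianMonoidalCategory MonObj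
  AlgebraicGeometry

namespace K690.EqMat

open K690.LocSec K690.Torsor K690.Coinv K690.Chart AlgGrp.Action CoactBr

/-- A matrix representation of the points of `G` with values in `k`-algebras. -/
structure MatRep (k : Type u) [CommRing k] (G : Over (Spec (CommRingCat.of k))) [GrpObj G]
    (n : ℕ) where
  c : ∀ {C : Type u} [CommRing C] [Algebra k C], (sp k C ⟶ G) → Matrix (Fin n) (Fin n) C
  c_map : ∀ {C C' : Type u} [CommRing C] [Algebra k C] [CommRing C'] [Algebra k C']
    (γ : C →ₐ[k] C') (g : sp k C ⟶ G), (c g).map γ = c (pt γ ≫ g)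
  c_one : ∀ {C : Type u} [CommRing C] [Algebra k C], c (1 : sp k C ⟶ G) = 1
  c_mul : ∀ {C : Type u} [CommRing C] [Algebra k C] (g h : sp k C ⟶ G), c (g * h) = c g * c h

section

variable {k : Type u} [CommRing k] {G X Y : Over (Spec (CommRingCat.of k))} [GrpObj G]
  {a : AlgGrp.Action G X} {φ : X ⟶ Y} (hcart : IsPullback a.act (snd G X) φ φ)

/-- The element carrying one point to another. -/
noncomputable def trans {T : Over (Spec (CommRingCat.of k))} (x x' : T ⟶ X) (h : x ≫ φ = x' ≫ φ) :
    T ⟶ G :=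
  (((isPullback_act_iff a φ).1 hcart).2 T x x' h).choose

lemma lift_trans {T : Over (Spec (CommRingCat.of k))} (x x' : T ⟶ X) (h : x ≫ φ = x' ≫ φ) :
    lift (trans hcart x x' h) x' ≫ a.act = x :=
  (((isPullback_act_iff a φ).1 hcart).2 T x x' h).choose_spec.1

lemma trans_unique {T : Over (Spec (CommRingCat.of k))} (x x' : T ⟶ X) (h : x ≫ φ = x' ≫ φ)
    (g : T ⟶ G) (hg : lift g x' ≫ a.act = x) : g = trans hcart x x' h :=
  (((isPullback_act_iff a φ).1 hcart).2 T x x' h).choose_spec.2 g hg

lemma comp_trans {T T' : Over (Spec (CommRingCat.of k))} (f : T' ⟶ T) (x x' : T ⟶ X)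
    (h : x ≫ φ = x' ≫ φ) (h' : (f ≫ x) ≫ φ = (f ≫ x') ≫ φ) :
    f ≫ trans hcart x x' h = trans hcart (f ≫ x) (f ≫ x') h' := by
  apply trans_unique
  rw [← comp_lift_assoc, lift_trans]

lemma trans_self {T : Over (Spec (CommRingCat.of k))} (x : T ⟶ X) :
    trans hcart x x rfl = 1 := by
  symm
  apply trans_unique
  rw [lift_one_act]

lemma trans_mul {T : Over (Spec (CommRingCat.of k))} (x x' x'' : T ⟶ X)
    (h : x ≫ φ = x' ≫ φ) (h' : x' ≫ φ = x'' ≫ φ) :
    trans hcart x x' h * trans hcart x' x'' h' = trans hcart x x'' (h.trans h') := by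
  apply trans_unique
  rw [lift_mul_act, lift_trans, lift_trans]

variable {B R : Type u} [CommRing B] [CommRing R] [Algebra k B] [Algebra k R] [Algebra B R]
  [IsScalarTower k B R] (j : sp k B ⟶ Y) (jX : sp k R ⟶ X)
  (hj : jX ≫ φ = pt (IsScalarTower.toAlgHom k B R) ≫ j)

include hj in
lemma chart_eq {C : Type u} [CommRing C] [Algebra k C] [Algebra B C] [IsScalarTower k B C]
    (α β : R →ₐ[B] C) :
    (pt (α.restrictScalars k) ≫ jX) ≫ φ = (pt (β.restrictScalars k) ≫ jX) ≫ φ := by
  have h1 : (α.restrictScalars k).comp (IsScalarTower.toAlgHom k B R) =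
      (β.restrictScalars k).comp (IsScalarTower.toAlgHom k B R) := by
    ext b
    change α (algebraMap B R b) = β (algebraMap B R b)
    rw [α.commutes, β.commutes]
  rw [Category.assoc, Category.assoc, hj, ← Category.assoc, ← Category.assoc, ← pt_comp,
    ← pt_comp, h1]

variable {n : ℕ} (ρ : MatRep k G n)

/-- The matrix cocycle of a torsor. -/
noncomputable def coc : MatCoc k B R n where
  c α β := ρ.c (trans hcart _ _ (chart_eq j jX hj α β))
  c_map {C C'} _ _ _ _ _ _ _ _ γ α β := by
    have h1 : pt (γ.restrictScalars k) ≫ pt (α.restrictScalars k) ≫ jX =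
        pt ((γ.comp α).restrictScalars k) ≫ jX := by
      rw [← Category.assoc, ← pt_comp]
      rfl
    have h2 : pt (γ.restrictScalars k) ≫ pt (β.restrictScalars k) ≫ jX =
        pt ((γ.comp β).restrictScalars k) ≫ jX := by
      rw [← Category.assoc, ← pt_comp]
      rfl
    have h3 := ρ.c_map (γ.restrictScalars k) (trans hcart _ _ (chart_eq j jX hj α β))
    refine h3.trans ?_
    rw [comp_trans hcart _ _ _ _ (by rw [h1, h2]; exact chart_eq j jX hj _ _)]
    congr 1
    · simp only [h1, h2]
  c_self α := by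
    rw [trans_self, ρ.c_one]
  c_mul α β δ := by
    rw [← ρ.c_mul, trans_mul]

lemma coc_c {C : Type u} [CommRing C] [Algebra k C] [Algebra B C] [IsScalarTower k B C]
    (α β : R →ₐ[B] C) (g : sp k C ⟶ G)
    (hg : lift g (pt (β.restrictScalars k) ≫ jX) ≫ a.act = pt (α.restrictScalars k) ≫ jX) :
    (coc hcart j jX hj ρ).c α β = ρ.c g := by
  rw [trans_unique hcart _ _ (chart_eq j jX hj α β) g hg]
  rfl

include hcart in
/-- Locally on `Y` there is an equivariant invertible matrix on the torsor. -/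
theorem exists_equivMat [IsAffineHom φ.left] [Flat φ.left] [Surjective φ.left] (y : Y.left) :
    ∃ (B : Type u) (_ : CommRing B) (_ : Algebra k B) (R : Type u) (_ : CommRing R)
      (_ : Algebra k R) (β : B →ₐ[k] R) (j : sp k B ⟶ Y) (jX : sp k R ⟶ X)
      (M : Matrix (Fin n) (Fin n) R), IsOpenImmersion j.left ∧ y ∈ Set.range j.left ∧
      IsPullback jX (pt β) φ j ∧ IsUnit M.det ∧
      ∀ (C : Type u) [CommRing C] [Algebra k C] (g : sp k C ⟶ G) (x x' : R →ₐ[k] C),
        lift g (pt x' ≫ jX) ≫ a.act = pt x ≫ jX → ρ.c g * M.map x' = M.map x := by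
  obtain ⟨B₀, _, _, R₀, _, _, β₀, j₀, jX₀, hj₀, ⟨p, hp⟩, hpb⟩ := exists_chart φ y
  let _ : Algebra B₀ R₀ := β₀.toRingHom.toAlgebra
  have : IsScalarTower k B₀ R₀ := IsScalarTower.of_algebraMap_eq fun r => (β₀.commutes r).symm
  have hβ₀ : IsScalarTower.toAlgHom k B₀ R₀ = β₀ := rfl
  have hleft := hpb.map (Over.forget _)
  have hfl : Flat (pt β₀).left := MorphismProperty.of_isPullback (P := @Flat) hleft ‹_›
  have hsu : Surjective (pt β₀).left :=
    MorphismProperty.of_isPullback (P := @Surjective) hleft ‹_›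
  have hfl' : Module.Flat B₀ R₀ := RingHom.flat_algebraMap_iff.1 (Flat.SpecMap_iff.1 hfl)
  have hsu' : Function.Surjective (PrimeSpectrum.comap (algebraMap B₀ R₀)) := hsu.1
  have hw : jX₀ ≫ φ = pt (IsScalarTower.toAlgHom k B₀ R₀) ≫ j₀ := hpb.w
  obtain ⟨b, hb, M₀, hM₀, m, r, hr⟩ :=
    (coc hcart j₀ jX₀ hw ρ).exists_trivialisation hsu' p
  let g₀ : B₀ →ₐ[k] Localization.Away b := IsScalarTower.toAlgHom k B₀ (Localization.Away b)
  obtain ⟨R, _, _, l, r', hlr⟩ := isPullback_tensor β₀ g₀
  have hpb' := hlr.paste_horiz hpb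
  have hg₀ : IsOpenImmersion (pt g₀).left :=
    inferInstanceAs (IsOpenImmersion (Spec.map (CommRingCat.ofHom
      (algebraMap B₀ (Localization.Away b)))))
  have hcomm : ∀ z, l (β₀ z) = r' (g₀ z) := by
    have h1 : l.comp β₀ = r'.comp g₀ := by
      apply pt_injective
      rw [pt_comp, pt_comp]
      exact hlr.w
    exact fun z => DFunLike.congr_fun h1 z
  refine ⟨Localization.Away b, inferInstance, inferInstance, R, inferInstance, inferInstance, r',
    pt g₀ ≫ j₀, pt l ≫ jX₀, M₀.map l, ?_, ?_, hpb', ?_, ?_⟩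
  · rw [Over.comp_left]
    infer_instance
  · have h1 : p ∈ Set.range (pt g₀).left := by
      have h2 := PrimeSpectrum.localization_away_comap_range (Localization.Away b) b
      have h3 : p ∈ Set.range (PrimeSpectrum.comap (algebraMap B₀ (Localization.Away b))) := by
        rw [h2]
        exact hb
      exact h3
    obtain ⟨z, hz⟩ := h1
    refine ⟨z, ?_⟩
    rw [Over.comp_left, Scheme.Hom.comp_apply, hz, hp]
  · have h1 : (M₀.map l).det = l M₀.det := (RingHom.map_det l.toRingHom M₀).symm
    rw [h1]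
    apply isUnit_of_mul_isUnit_left (y := l r)
    rw [← map_mul, hr, map_pow]
    have h2 : l (algebraMap B₀ R₀ b) = r' (g₀ b) := hcomm b
    rw [h2]
    exact ((IsLocalization.Away.algebraMap_isUnit b).map r').pow m
  · intro C _ _ g x x' hg
    have hmono : Mono j₀ := Over.mono_of_mono_left j₀
    have hx : (x.comp l).comp β₀ = (x'.comp l).comp β₀ := by
      apply pt_injective
      rw [← cancel_mono j₀]
      have h1 : (pt x ≫ pt l ≫ jX₀) ≫ φ = (pt x' ≫ pt l ≫ jX₀) ≫ φ := by
        rw [← hg]
        exact invariant_pt hcart.w g _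
      rw [Category.assoc, Category.assoc, Category.assoc, Category.assoc, hw] at h1
      rw [pt_comp, pt_comp, pt_comp, pt_comp]
      simp only [Category.assoc]
      exact h1
    let _ : Algebra B₀ C := ((x.comp l).comp β₀).toRingHom.toAlgebra
    have : IsScalarTower k B₀ C :=
      IsScalarTower.of_algebraMap_eq fun r => (((x.comp l).comp β₀).commutes r).symm
    let α : R₀ →ₐ[B₀] C := { (x.comp l).toRingHom with commutes' := fun z => rfl }
    let α' : R₀ →ₐ[B₀] C :=
      { (x'.comp l).toRingHom with commutes' := fun z => (DFunLike.congr_fun hx z).symm }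
    have h1 := hM₀ C α α'
    have h2 : (coc hcart j₀ jX₀ hw ρ).c α α' = ρ.c g := by
      apply coc_c
      have e1 : pt (α'.restrictScalars k) ≫ jX₀ = pt x' ≫ pt l ≫ jX₀ := by
        rw [← Category.assoc, ← pt_comp]
        rfl
      have e2 : pt (α.restrictScalars k) ≫ jX₀ = pt x ≫ pt l ≫ jX₀ := by
        rw [← Category.assoc, ← pt_comp]
        rfl
      rw [e1, e2]
      exact hg
    rw [h2] at h1
    exact h1

end

end K690.EqMat
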