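import Groth.Agent.GIT.K690.EqMat
import Groth.Agent.Sga3B.BcPts
import Groth.Prelude.Def_FrameBundle
import Groth.Prelude.Def_GLin4

/-!
# Matrix representations: the general linear group

* `ofHopf`: for a Hopf algebra `A` over `k` and a bialgebra map from the coordinate ring of `GL_n`, the
  matrix representation of `Spec A`.
* `frbRep`: the tautological matrix representation of `FrB.GLn n (Spec k)`, with `frbRep_surj`.
-/

set_option autoImplicit false

universe u

open CategoryTheory CategoryTheory.Limits MonoidalCategory CartesianMonoidalCategory MonObj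
  AlgebraicGeometry TensorProduct

namespace K690.GLnRep

open K690.EqMat K690.Chart CoactBr CoordGrp Groth.Agent.Sga3B.BcPts

section Aff

variable {k : Type u} [CommRing k] {C C' : Type u} [CommRing C] [Algebra k C] [CommRing C']
  [Algebra k C'] {n : ℕ}

/-- The algebra map of a point. -/
noncomputable def alg {A : Type u} [CommRing A] [Algebra k A] (g : sp k C ⟶ sp k A) : A →ₐ[k] C :=
  (exists_pt g).choose

lemma pt_alg {A : Type u} [CommRing A] [Algebra k A] (g : sp k C ⟶ sp k A) : pt (alg g) = g :=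
  (exists_pt g).choose_spec

lemma alg_pt {A : Type u} [CommRing A] [Algebra k A] (f : A →ₐ[k] C) : alg (pt f) = f :=
  pt_injective (pt_alg _)

lemma alg_comp {A : Type u} [CommRing A] [Algebra k A] (γ : C →ₐ[k] C') (g : sp k C ⟶ sp k A) :
    alg (pt γ ≫ g) = γ.comp (alg g) := by
  apply pt_injective
  rw [pt_alg, pt_comp, pt_alg]

lemma alg_mul {A : Type u} [CommRing A] [Bialgebra k A] (g h : sp k C ⟶ sp k A) :
    alg (g * h) = (Algebra.TensorProduct.lift (alg g) (alg h) fun _ _ => .all _ _).comp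
      (Bialgebra.comulAlgHom k A) := by
  apply pt_injective
  rw [pt_alg, ← pt_mul_pt, pt_alg, pt_alg]

lemma alg_one {A : Type u} [CommRing A] [Bialgebra k A] :
    alg (1 : sp k C ⟶ sp k A) = (Algebra.ofId k C).comp (Bialgebra.counitAlgHom k A) := by
  apply pt_injective
  rw [pt_alg, one_eq_pt]

/-- The matrix of a point of `GL_n`. -/
noncomputable def mat (g : sp k C ⟶ sp k (GLn n k)) : Matrix (Fin n) (Fin n) C :=
  Matrix.of fun i j => alg g (GLn.X i j)

lemma mat_comp (γ : C →ₐ[k] C') (g : sp k C ⟶ sp k (GLn n k)) :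
    mat (pt γ ≫ g) = (mat g).map γ := by
  ext i j
  change alg (pt γ ≫ g) _ = γ (alg g _)
  rw [alg_comp]
  rfl

lemma mat_mul (g h : sp k C ⟶ sp k (GLn n k)) : mat (g * h) = mat g * mat h := by
  ext i j
  rw [Matrix.mul_apply]
  change alg (g * h) _ = ∑ l, alg g _ * alg h _
  rw [alg_mul, AlgHom.comp_apply]
  change Algebra.TensorProduct.lift (alg g) (alg h) _
    (CoalgebraStruct.comul (R := k) (GLn.X i j : GLn n k)) = _
  rw [GLn.comul_X, map_sum]
  simp

lemma mat_one : mat (1 : sp k C ⟶ sp k (GLn n k)) = 1 := by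
  ext i j
  change alg (1 : sp k C ⟶ sp k (GLn n k)) _ = _
  rw [alg_one, AlgHom.comp_apply]
  change Algebra.ofId k C (CoalgebraStruct.counit (R := k) (GLn.X i j : GLn n k)) = _
  rw [GLn.counit_X, Matrix.one_apply]
  split_ifs <;> simp

lemma mat_injective : Function.Injective (mat : (sp k C ⟶ sp k (GLn n k)) → _) := by
  intro g h e
  rw [← pt_alg g, ← pt_alg h]
  congr 1
  have hX : ∀ i j, alg g (GLn.X i j) = alg h (GLn.X i j) := fun i j => congrFun (congrFun e i) j
  refine GLn.algHom_ext hX ?_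
  have hdet : alg g GLn.det = alg h GLn.det := by
    rw [GLn.det_eq, AlgHom.map_det, AlgHom.map_det]
    exact congrArg Matrix.det e
  have h1 : alg g GLn.Dinv * alg g GLn.det = 1 := by rw [← map_mul, GLn.Dinv_mul_det, map_one]
  have h2 : alg h GLn.Dinv * alg g GLn.det = 1 := by
    rw [hdet, ← map_mul, GLn.Dinv_mul_det, map_one]
  calc alg g GLn.Dinv = alg h GLn.Dinv * alg g GLn.det * alg g GLn.Dinv := by rw [h2, _root_.one_mul]
    _ = alg h GLn.Dinv * (alg g GLn.Dinv * alg g GLn.det) := by ring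
    _ = alg h GLn.Dinv := by rw [h1, _root_.mul_one]

lemma exists_mat {M : Matrix (Fin n) (Fin n) C} (hM : IsUnit M.det) :
    ∃ g : sp k C ⟶ sp k (GLn n k), mat g = M := by
  obtain ⟨d, hd⟩ := hM.exists_right_inv
  refine ⟨pt (GLn.pt n k M d hd), ?_⟩
  ext i j
  change alg _ _ = _
  rw [alg_pt, GLn.pt_X]

variable (k n) in
/-- The tautological representation. -/
noncomputable def taut : MatRep k (sp k (GLn n k)) n where
  c g := mat g
  c_map γ g := (mat_comp γ g).symm
  c_one := mat_one
  c_mul g h := mat_mul g h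

/-- Pull back of a representation along a homomorphism. -/
noncomputable def restr {G H : Over (Spec (CommRingCat.of k))} [GrpObj G] [GrpObj H] (f : G ⟶ H)
    [IsMonHom f] (ρ : MatRep k H n) : MatRep k G n where
  c g := ρ.c (g ≫ f)
  c_map γ g := by rw [ρ.c_map, Category.assoc]
  c_one {C} _ _ := by rw [one_comp, ρ.c_one]
  c_mul g h := by rw [mul_comp, ρ.c_mul]

end Aff

section Frb

variable {k : Type u} [CommRing k] {C C' : Type u} [CommRing C] [Algebra k C] [CommRing C']
  [Algebra k C'] {n : ℕ}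

/-- A ring, regarded as an algebra over the universe lift of `ℤ`. -/
def ZC (C : Type u) : Type u := C

noncomputable instance : CommRing (ZC C) := inferInstanceAs (CommRing C)

/-- The identity. -/
noncomputable def ZC.un (C : Type u) [CommRing C] : ZC C ≃+* C := RingEquiv.refl C

noncomputable instance : Algebra (ULift.{u} ℤ) (ZC C) :=
  ((Int.castRingHom (ZC C)).comp (ULift.ringEquiv (R := ℤ)).toRingHom).toAlgebra

/-- Ring maps are algebra maps over the universe lift of `ℤ`. -/
noncomputable def uHom {C C' : Type u} [CommRing C] [CommRing C'] (γ : C →+* C') :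
    ZC C →ₐ[ULift.{u} ℤ] ZC C' :=
  { toRingHom := ((ZC.un C').symm.toRingHom.comp γ).comp (ZC.un C).toRingHom
    commutes' := fun z => map_intCast _ z.down }

/-- The structure morphism to `Spec ℤ`. -/
noncomputable abbrev fZ (k : Type u) [CommRing k] :
    Spec (CommRingCat.of k) ⟶ Spec (CommRingCat.of (ULift.{u} ℤ)) :=
  IsTerminal.from specULiftZIsTerminal _

/-- `Spec C` over `ℤ`. -/
noncomputable def uIso : sp (ULift.{u} ℤ) (ZC C) ≅ (Over.map (fZ k)).obj (sp k C) :=
  Over.isoMk (Iso.refl _) (specULiftZIsTerminal.hom_ext _ _)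

/-- The underlying point of `GL_n` over `ℤ`. -/
noncomputable def prZ (g : sp k C ⟶ FrB.GLn n (Spec (CommRingCat.of k))) :
    sp (ULift.{u} ℤ) (ZC C) ⟶ sp (ULift.{u} ℤ) (GLn n (ULift.{u} ℤ)) :=
  (uIso (k := k)).hom ≫ (bcEquiv (fZ k) _ _).symm g

lemma prZ_mul (g h : sp k C ⟶ FrB.GLn n (Spec (CommRingCat.of k))) :
    prZ (g * h) = prZ g * prZ h := by
  have h1 : (bcEquiv (fZ k) (sp k C) (FrB.GLZ n)).symm (g * h) =
      (bcEquiv (fZ k) _ _).symm g * (bcEquiv (fZ k) _ _).symm h := by
    apply (bcEquiv (fZ k) _ _).injective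
    rw [bcEquiv_mul, Equiv.apply_symm_apply, Equiv.apply_symm_apply, Equiv.apply_symm_apply]
  rw [prZ, h1, comp_mul]
  rfl

lemma prZ_one : prZ (1 : sp k C ⟶ FrB.GLn n (Spec (CommRingCat.of k))) = 1 := by
  have h1 : (bcEquiv (fZ k) (sp k C) (FrB.GLZ n)).symm 1 = 1 := by
    apply (bcEquiv (fZ k) _ _).injective
    rw [bcEquiv_one, Equiv.apply_symm_apply]
  rw [prZ, h1, comp_one]

lemma prZ_comp (γ : C →ₐ[k] C') (g : sp k C ⟶ FrB.GLn n (Spec (CommRingCat.of k))) :
    prZ (pt γ ≫ g) = pt (uHom γ.toRingHom) ≫ prZ g := by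
  rw [prZ, prZ, comp_bcEquiv_symm, ← Category.assoc, ← Category.assoc]
  congr 1

lemma prZ_bijective :
    Function.Bijective (prZ : (sp k C ⟶ FrB.GLn n (Spec (CommRingCat.of k))) → _) := by
  constructor
  · intro g h e
    apply (bcEquiv (fZ k) (sp k C) (FrB.GLZ n)).symm.injective
    exact (cancel_epi (uIso (k := k)).hom).1 e
  · intro z
    refine ⟨bcEquiv (fZ k) (sp k C) (FrB.GLZ n) ((uIso (k := k)).inv ≫ z), ?_⟩
    rw [prZ, Equiv.symm_apply_apply, Iso.hom_inv_id_assoc]

lemma map_un {C C' : Type u} [CommRing C] [CommRing C'] (γ : C →+* C')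
    (M : Matrix (Fin n) (Fin n) (ZC C)) :
    (M.map (uHom γ)).map (ZC.un C') = (M.map (ZC.un C)).map γ := rfl

variable (k n) in
/-- The tautological representation of `GL_n`. -/
noncomputable def frbRep : MatRep k (FrB.GLn n (Spec (CommRingCat.of k))) n where
  c {C} _ _ g := (mat (prZ g)).map (ZC.un C)
  c_map {C C'} _ _ _ _ γ g := by
    rw [prZ_comp, mat_comp]
    exact (map_un γ.toRingHom _).symm
  c_one {C} _ _ := by
    rw [prZ_one, mat_one]
    exact Matrix.map_one _ (map_zero _) (map_one _)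
  c_mul {C} _ _ g h := by
    rw [prZ_mul, mat_mul]
    exact Matrix.map_mul

lemma frbRep_injective :
    Function.Injective ((frbRep k n).c : (sp k C ⟶ FrB.GLn n (Spec (CommRingCat.of k))) → _) := by
  intro g h e
  apply prZ_bijective.1
  apply mat_injective
  exact (Matrix.map_injective (ZC.un C).injective) e

lemma frbRep_exists {M : Matrix (Fin n) (Fin n) C} (hM : IsUnit M.det) :
    ∃ g : sp k C ⟶ FrB.GLn n (Spec (CommRingCat.of k)), (frbRep k n).c g = M := by
  obtain ⟨g, hg⟩ := exists_mat (k := ULift.{u} ℤ) (C := ZC C) (M := M.map (ZC.un C).symm) (by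
    have h1 : (M.map (ZC.un C).symm).det = (ZC.un C).symm M.det :=
      (RingHom.map_det (ZC.un C).symm.toRingHom M).symm
    rw [h1]
    exact hM.map (ZC.un C).symm)
  obtain ⟨g', hg'⟩ := (prZ_bijective (k := k)).2 g
  refine ⟨g', ?_⟩
  change (mat (prZ g')).map (ZC.un C) = M
  rw [hg', hg]
  ext i j
  simp

end Frb

end K690.GLnRep
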