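import Groth.Agent.GLin.K764.Descent
import Groth.Agent.GIT.K687.IndSurj
import Mathlib.RingTheory.Flat.FaithfullyFlat.Basic

/-!
# Hopf modules along free closed orbits, without finiteness; the canonical map

`k` algebraically closed, `A` linearly reductive, `R` of finite type with a coaction such that all orbit
morphisms `R → A` are surjective.
* `span_fixedPts_eq_top`: `M = R · M^G` for any Hopf module;
* `faithfullyFlat_invariants`: `R` is faithfully flat over `R^G`;
* `bijective_can`: `R ⊗_{R^G} R → R ⊗ A`, `r ⊗ s ↦ r · ν(s)` is bijective, `ν(s)(x, g) = s(x g⁻¹)`.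
-/

set_option autoImplicit false

universe u

open TensorProduct HopfRep

namespace K690.FreeHopf

open Groth.Agent.Books.ComodBasic Groth.Agent.Books.ComodHom Groth.Agent.Books.ComodInv
open TameAct K764.HopfMod K764.Reductive K764.Fund K764.Free K764.Torsor

variable {k : Type u} [Field k] {A : Type u} [CommRing A] [HopfAlgebra k A]
variable {R : Type u} [CommRing R] [Algebra k R] [Comod k A R] [GLin.IsCoactAlg k A R]

section Span

variable {M : Type u} [AddCommGroup M] [Module k M] [Module R M] [IsScalarTower k R M]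
  [Comod k A M]

/-- A Hopf module over a variety with free closed orbits is generated by its fixed vectors. -/
theorem span_fixedPts_eq_top (hG : IsLinearlyReductive k A) [IsAlgClosed k]
    [Algebra.FiniteType k R]
    (hfree : ∀ x : R →ₐ[k] k, Function.Surjective (GLin.orbitHom k A x))
    [IsHopfMod k A R M] :
    Submodule.span R (fixedPts k A M : Set M) = ⊤ := by
  rw [eq_top_iff]
  intro m _
  let N : Submodule R M := Submodule.span R (gen k A m : Set M)
  have hNs : IsSubcomod (k := k) (A := A) (N.restrictScalars k) := by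
    refine isSubcomod_span (B := R) (gen k A m : Set M) rfl fun x hx => ?_
    have h1 : Comod.coact (k := k) (A := A) x ∈ rng A (gen k A m) := isSubcomod_gen m x hx
    have h2 : gen k A m ≤ N.restrictScalars k := fun y hy => Submodule.subset_span (R := R) hy
    exact rng_mono h2 h1
  have hNfin : Module.Finite R N := by
    rw [Module.Finite.iff_fg]
    have h1 : (gen k A m).FG := Module.Finite.iff_fg.mp inferInstance
    obtain ⟨s, hs⟩ := h1
    refine ⟨s, ?_⟩
    apply le_antisymm
    · rw [Submodule.span_le]
      intro x hx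
      refine Submodule.subset_span ?_
      have : x ∈ Submodule.span k (s : Set M) := Submodule.subset_span hx
      rwa [hs] at this
    · rw [Submodule.span_le]
      intro x hx
      have hx' : x ∈ Submodule.span k (s : Set M) := by rw [hs]; exact hx
      have h2 : Submodule.span k (s : Set M) ≤ (Submodule.span R (s : Set M)).restrictScalars k :=
        Submodule.span_le.2 Submodule.subset_span
      exact h2 hx'
  let j : N →ₗ[R] M := N.subtype
  have hj : Function.Injective j := Submodule.injective_subtype _
  have hjr : IsSubcomod (k := k) (A := A) (LinearMap.range (j.restrictScalars k)) := by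
    have : LinearMap.range (j.restrictScalars k) = N.restrictScalars k := by
      ext x
      simp [j]
    rw [this]
    exact hNs
  let _ : Comod k A N := subC (j.restrictScalars k) hj hjr
  have hjc : IsComodHom k A (j.restrictScalars k) := isComodHom_subC _ _ _
  have hHN : IsHopfMod k A R N := isHopfMod_of_injective (j.restrictScalars k) hj
    (fun b m => j.map_smul b m) hjc
  have htop := K764.Torsor.span_fixedPts_eq_top (k := k) (A := A) (R := R) (M := N) hG hfree
  have hm : (⟨m, Submodule.subset_span (self_mem_gen m)⟩ : N) ∈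
      Submodule.span R (fixedPts k A N : Set N) := by rw [htop]; trivial
  have h3 : Submodule.map j (Submodule.span R (fixedPts k A N : Set N)) ≤
      Submodule.span R (fixedPts k A M : Set M) := by
    rw [Submodule.map_span_le]
    intro x hx
    exact Submodule.subset_span (IsComodHom.map_mem_fixedPts hjc hx)
  exact h3 ⟨_, hm, rfl⟩

end Span

section Flat

theorem faithfullyFlat_invariants (hG : IsLinearlyReductive k A) [IsAlgClosed k]
    [Algebra.FiniteType k R]
    (hfree : ∀ x : R →ₐ[k] k, Function.Surjective (GLin.orbitHom k A x)) :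
    Module.FaithfullyFlat (GLin.invariants k A R) R := by
  have h1 := flat_invariants (k := k) (A := A) (R := R) hG hfree
  rw [Module.FaithfullyFlat.iff_flat_and_ideal_smul_eq_top]
  refine ⟨h1, fun I hI => ?_⟩
  have h2 := comap_map_invariants (R := R) hG I
  have h3 : I.map (algebraMap (GLin.invariants k A R) R) = ⊤ := by
    have h4 := Ideal.smul_top_eq_map (S := R) I
    rw [hI] at h4
    rw [eq_top_iff]
    intro x _
    have h5 : x ∈ (⊤ : Submodule (GLin.invariants k A R) R) := trivial
    rw [h4] at h5
    exact h5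
  rw [h3, Ideal.comap_top] at h2
  exact h2.symm

end Flat

section Can

open K687

/-- The diagonal coaction of `G` on `X × G`. -/
@[reducible] noncomputable def diag (k : Type u) [Field k] (A : Type u) [CommRing A] [HopfAlgebra k A]
    (R : Type u) [CommRing R] [Algebra k R] [Comod k A R] [GLin.IsCoactAlg k A R] :
    Comod k A (R ⊗[k] A) := tensComod (BialgHom.id k A) R

theorem isCoactAlg_diag : @GLin.IsCoactAlg k _ A _ _ (R ⊗[k] A) _ _ (diag k A R) :=
  isCoactAlg_tensComod (BialgHom.id k A)

theorem coact_left (r : R) : (diag k A R).coact (r ⊗ₜ[k] (1 : A)) =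
    Algebra.TensorProduct.map (Algebra.TensorProduct.includeLeft : R →ₐ[k] R ⊗[k] A) (AlgHom.id k A)
      (Comod.coact (k := k) (A := A) r) := by
  apply eq_of_ev
  intro p b g
  rw [ev_tens, ev2_tmul, map_one, mul_one]
  have h3 := DFunLike.congr_fun (ev2_comp_map (ev2 p b) g
    (Algebra.TensorProduct.includeLeft : R →ₐ[k] R ⊗[k] A)) (Comod.coact (k := k) (A := A) r)
  rw [AlgHom.comp_apply] at h3
  have h4 : (ev2 p b).comp (Algebra.TensorProduct.includeLeft : R →ₐ[k] R ⊗[k] A) = p := by
    apply AlgHom.ext
    intro r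
    rw [AlgHom.comp_apply, Algebra.TensorProduct.includeLeft_apply, ev2_tmul, map_one, mul_one]
  rw [h4] at h3
  exact h3.symm

theorem isHopfMod_diag : letI := diag k A R; IsHopfMod k A R (R ⊗[k] A) := by
  let _ := diag k A R
  have _ : GLin.IsCoactAlg k A (R ⊗[k] A) := isCoactAlg_diag
  refine ⟨fun b m => ?_⟩
  have h1 : b • m = (b ⊗ₜ[k] (1 : A)) * m := by
    rw [Algebra.smul_def]
    rfl
  rw [h1, GLin.IsCoactAlg.coact_mul]
  change (diag k A R).coact (b ⊗ₜ[k] (1 : A)) * _ = _
  rw [coact_left]
  generalize Comod.coact (k := k) (A := A) b = z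
  generalize Comod.coact (k := k) (A := A) m = w
  induction z with
  | zero => simp
  | add x y hx hy => simp only [map_add, LinearMap.add_apply, add_mul, hx, hy]
  | tmul x a =>
    induction w with
    | zero => simp
    | add x y hx hy => simp only [map_add, mul_add, hx, hy]
    | tmul y c =>
      rw [Algebra.TensorProduct.map_tmul, hmSMul_tmul, Algebra.TensorProduct.tmul_mul_tmul,
        Algebra.smul_def]
      rfl

/-- the fixed vectors of the diagonal coaction are the functions `ν(s)`. -/
theorem exists_nu {z : R ⊗[k] A} (hz : (diag k A R).coact z = z ⊗ₜ[k] (1 : A)) :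
    ∃ s : R, nu A s = z := by
  refine ⟨ev2 (AlgHom.id k R) (1 : Pt k A R) z, ?_⟩
  -- test on points
  have hinv : ∀ {C : Type u} [CommRing C] [Algebra k C] (p : R →ₐ[k] C) (b : Pt k A C) (g : Pt k A C),
      ev2 (mv p g) (b * g) z = ev2 p b z := by
    intro C _ _ p b g
    have h1 := ev_tens (BialgHom.id k A) p b g z
    rw [show pull (BialgHom.id k A) g = g from rfl] at h1
    rw [← h1]
    have h2 : (tensComod (BialgHom.id k A) R).coact z = z ⊗ₜ[k] (1 : A) := hz
    rw [h2, ev2_tmul, map_one, mul_one]
  have key : ∀ {C : Type u} [CommRing C] [Algebra k C] (p : R →ₐ[k] C) (b : Pt k A C),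
      ev2 p b (nu A (ev2 (AlgHom.id k R) (1 : Pt k A R) z)) = ev2 p b z := by
    intro C _ _ p b
    rw [ev2_nu]
    have h1 : mv p b⁻¹ (ev2 (AlgHom.id k R) (1 : Pt k A R) z) =
        ev2 (mv p b⁻¹) (1 : Pt k A C) z := by
      have h2 := DFunLike.congr_fun (comp_ev2 (mv p b⁻¹) (AlgHom.id k R) (1 : Pt k A R)) z
      rw [AlgHom.comp_apply] at h2
      rw [h2, AlgHom.comp_id, map_one]
    rw [h1]
    have h3 := hinv p b b⁻¹
    rw [mul_inv_cancel] at h3
    exact h3
  let E : (R ⊗[k] A) →ₐ[k] (R ⊗[k] A) := AlgHom.id k _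
  have h1 := eq_ev2 E
  have h3 := key (E.comp Algebra.TensorProduct.includeLeft)
    (Pt.mk (E.comp Algebra.TensorProduct.includeRight))
  rw [← h1] at h3
  exact h3

theorem ev_nu_one (s : R) : ev2 (AlgHom.id k R) (1 : Pt k A R) (nu A s) = s := by
  rw [ev2_nu, inv_one, mv_one]
  rfl

theorem nu_injective : Function.Injective (nu A : R →ₐ[k] R ⊗[k] A) := by
  intro s t h
  rw [← ev_nu_one (k := k) (A := A) s, h, ev_nu_one]

theorem nu_inv {b : R} (hb : b ∈ GLin.invariants k A R) : nu A b = b ⊗ₜ[k] (1 : A) := by
  have h1 := (GLin.mem_invariants_iff k A R b).1 hb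
  rw [nu, AlgHom.comp_apply]
  change Algebra.TensorProduct.map (AlgHom.id k R) (HopfAlgebra.antipodeAlgHom k A)
    (Comod.coact (k := k) (A := A) b) = _
  rw [h1, Algebra.TensorProduct.map_tmul, map_one]
  rfl

variable (k A R) in
/-- `ν` as a map of algebras over the invariants. -/
noncomputable def nuB : R →ₐ[GLin.invariants k A R] R ⊗[k] A :=
  { (nu A : R →ₐ[k] R ⊗[k] A).toRingHom with
    commutes' := fun b => nu_inv b.2 }

lemma nuB_apply (r : R) : nuB k A R r = nu A r := rfl

variable (k A R) in
/-- The canonical map `r ⊗ s ↦ r ν(s)`. -/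
noncomputable def can : R ⊗[GLin.invariants k A R] R →ₐ[GLin.invariants k A R] R ⊗[k] A :=
  Algebra.TensorProduct.lift
    (IsScalarTower.toAlgHom (GLin.invariants k A R) R (R ⊗[k] A)) (nuB k A R) fun _ _ => .all _ _

lemma can_tmul (r s : R) : can k A R (r ⊗ₜ s) = r • nu A s :=
  (Algebra.TensorProduct.lift_tmul _ _ _ _ _).trans (Algebra.smul_def _ _).symm

theorem bijective_can (hG : IsLinearlyReductive k A) [IsAlgClosed k]
    [Algebra.FiniteType k R]
    (hfree : ∀ x : R →ₐ[k] k, Function.Surjective (GLin.orbitHom k A x)) :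
    Function.Bijective (can k A R) := by
  let _ := diag k A R
  have _ : GLin.IsCoactAlg k A (R ⊗[k] A) := isCoactAlg_diag
  have _ : IsHopfMod k A R (R ⊗[k] A) := isHopfMod_diag
  have hfix : ∀ s : R, (nu A s : R ⊗[k] A) ∈ fixedPts k A (R ⊗[k] A) := fun s =>
    coact_nu (k := k) (A := A) s
  constructor
  · rw [injective_iff_map_eq_zero]
    intro z hz
    obtain ⟨n, r, m, rfl⟩ := TensorProduct.exists_sum_tmul_eq z
    have h1 : ∑ i, r i • (nu A (m i) : R ⊗[k] A) = 0 := by
      rw [map_sum] at hz
      rw [← hz]
      exact Finset.sum_congr rfl fun i _ => (can_tmul _ _).symm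
    obtain ⟨l, c, β, h2, h3⟩ := exists_fixed_relations (M := R ⊗[k] A) hG hfree
      (fun i => (nu A (m i) : R ⊗[k] A)) (fun i => hfix (m i)) r h1
    have h4 : ∀ i, r i ⊗ₜ[GLin.invariants k A R] m i =
        ∑ t, c t ⊗ₜ[GLin.invariants k A R] (β i t • m i) := by
      intro i
      rw [h2 i, TensorProduct.sum_tmul]
      refine Finset.sum_congr rfl fun t _ => ?_
      rw [← TensorProduct.smul_tmul]
      congr 1
      exact mul_comm _ _
    rw [Finset.sum_congr rfl fun i _ => h4 i, Finset.sum_comm]
    refine Finset.sum_eq_zero fun t _ => ?_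
    rw [← TensorProduct.tmul_sum]
    have h5 : ∑ i, β i t • m i = 0 := by
      apply nu_injective (k := k) (A := A)
      rw [map_zero, map_sum, ← h3 t]
      refine Finset.sum_congr rfl fun i _ => ?_
      rw [Algebra.smul_def, map_mul, Algebra.smul_def]
      congr 1
      exact nu_inv (β i t).2
    rw [h5, TensorProduct.tmul_zero]
  · have htop := span_fixedPts_eq_top (k := k) (A := A) (R := R) (M := R ⊗[k] A) hG hfree
    intro m
    have hm : m ∈ Submodule.span R (fixedPts k A (R ⊗[k] A) : Set (R ⊗[k] A)) := by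
      rw [htop]; trivial
    rw [Submodule.mem_span_set'] at hm
    obtain ⟨n, c, g, hg⟩ := hm
    have hs : ∀ i, ∃ s : R, nu A s = (g i : R ⊗[k] A) := fun i => exists_nu (g i).2
    choose s hs using hs
    refine ⟨∑ i, c i ⊗ₜ[GLin.invariants k A R] s i, ?_⟩
    rw [map_sum, ← hg]
    refine Finset.sum_congr rfl fun i _ => ?_
    rw [can_tmul, hs]

end Can

end K690.FreeHopf
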