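import Groth.Agent.GIT.K690.EqNear
import Groth.Agent.SGA1.K151.Amitsur

/-!
# Torsors under the additive group are Zariski locally trivial
-/

set_option autoImplicit false

universe u

open CategoryTheory CategoryTheory.Limits MonoidalCategory CartesianMonoidalCategory MonObj
  AlgebraicGeometry TensorProduct

namespace K690.AddNear

open K690.LocSec K690.Torsor K690.TorsorTower K690.EqMat K690.GLnRep K690.Chart CoactBr
  AlgGrp.Action K690.EqNear

/-- An additive character. -/
structure AddRep (k : Type u) [CommRing k] (G : Over (Spec (CommRingCat.of k))) [GrpObj G] where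
  c : ∀ {C : Type u} [CommRing C] [Algebra k C], (sp k C ⟶ G) → C
  c_map : ∀ {C C' : Type u} [CommRing C] [Algebra k C] [CommRing C'] [Algebra k C']
    (γ : C →ₐ[k] C') (g : sp k C ⟶ G), γ (c g) = c (pt γ ≫ g)
  c_mul : ∀ {C : Type u} [CommRing C] [Algebra k C] (g h : sp k C ⟶ G), c (g * h) = c g + c h

variable {k : Type u} [Field k] {G X Y : Over (Spec (CommRingCat.of k))} [GrpObj G]
  {a : AlgGrp.Action G X} {φ : X ⟶ Y}

/-- Locally on `Y` there is an equivariant function for an additive character. -/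
theorem exists_add_near (hcart : IsPullback a.act (snd G X) φ φ) (ρ : AddRep k G)
    [IsAffineHom φ.left] [Flat φ.left] [Surjective φ.left] (y : Y.left) :
    ∃ (B : Type u) (_ : CommRing B) (_ : Algebra k B) (R : Type u) (_ : CommRing R)
      (_ : Algebra k R) (β : B →ₐ[k] R) (j : sp k B ⟶ Y) (jX : sp k R ⟶ X)
      (r : R), IsOpenImmersion j.left ∧ y ∈ Set.range j.left ∧
      IsPullback jX (pt β) φ j ∧
      ∀ (C : Type u) [CommRing C] [Algebra k C] (g : sp k C ⟶ G) (x x' : R →ₐ[k] C),
        lift g (pt x' ≫ jX) ≫ a.act = pt x ≫ jX → ρ.c g + x' r = x r := by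
  obtain ⟨B, _, _, R, _, _, β, j, jX, hj, hy, hpb⟩ := exists_chart φ y
  let _ : Algebra B R := β.toRingHom.toAlgebra
  have : IsScalarTower k B R := IsScalarTower.of_algebraMap_eq fun r => (β.commutes r).symm
  have hleft := hpb.map (Over.forget _)
  have hfl : Flat (pt β).left := MorphismProperty.of_isPullback (P := @Flat) hleft ‹_›
  have hsu : Surjective (pt β).left :=
    MorphismProperty.of_isPullback (P := @Surjective) hleft ‹_›
  have hfl' : Module.Flat B R := RingHom.flat_algebraMap_iff.1 (Flat.SpecMap_iff.1 hfl)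
  have hsu' : Function.Surjective (PrimeSpectrum.comap (algebraMap B R)) := hsu.1
  have hff : Module.FaithfullyFlat B R :=
    Module.FaithfullyFlat.of_comap_surjective hsu'
  have hw : jX ≫ φ = pt (IsScalarTower.toAlgHom k B R) ≫ j := hpb.w
  -- the additive cocycle
  let add : ∀ {C : Type u} [CommRing C] [Algebra k C] [Algebra B C] [IsScalarTower k B C]
    (α α' : R →ₐ[B] C), C := fun α α' => ρ.c (trans hcart _ _ (chart_eq j jX hw α α'))
  have hadd : ∀ {C : Type u} [CommRing C] [Algebra k C] [Algebra B C] [IsScalarTower k B C]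
      (α β δ : R →ₐ[B] C), add α δ = add α β + add β δ := by
    intro C _ _ _ _ α β δ
    change ρ.c _ = ρ.c _ + ρ.c _
    rw [← ρ.c_mul, trans_mul]
  have hmap : ∀ {C C' : Type u} [CommRing C] [Algebra k C] [Algebra B C] [IsScalarTower k B C]
      [CommRing C'] [Algebra k C'] [Algebra B C'] [IsScalarTower k B C'] (γ : C →ₐ[B] C')
      (α β : R →ₐ[B] C), γ (add α β) = add (γ.comp α) (γ.comp β) := by
    intro C C' _ _ _ _ _ _ _ _ γ α β
    have h1 : pt (γ.restrictScalars k) ≫ pt (α.restrictScalars k) ≫ jX =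
        pt ((γ.comp α).restrictScalars k) ≫ jX := by
      rw [← Category.assoc, ← pt_comp]
      rfl
    have h2 : pt (γ.restrictScalars k) ≫ pt (β.restrictScalars k) ≫ jX =
        pt ((γ.comp β).restrictScalars k) ≫ jX := by
      rw [← Category.assoc, ← pt_comp]
      rfl
    have h3 := ρ.c_map (γ.restrictScalars k) (trans hcart _ _ (chart_eq j jX hw α β))
    refine h3.trans ?_
    rw [comp_trans hcart _ _ _ _ (by rw [h1, h2]; exact chart_eq j jX hw _ _)]
    change ρ.c _ = ρ.c _
    congr 1
    simp only [h1, h2]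
  let i₁ : R →ₐ[B] R ⊗[B] R := Algebra.TensorProduct.includeLeft
  let i₂ : R →ₐ[B] R ⊗[B] R := Algebra.TensorProduct.includeRight
  obtain ⟨r, hr⟩ := K151.Amitsur.exists_of_add (R := B) (B := R) (add i₂ i₁) (by
    have e1 : K151.Amitsur.p12 B R (add i₂ i₁) =
        add ((K151.Amitsur.p12 B R).comp i₂) ((K151.Amitsur.p12 B R).comp i₁) := hmap _ _ _
    have e2 : K151.Amitsur.p23 B R (add i₂ i₁) =
        add ((K151.Amitsur.p23 B R).comp i₂) ((K151.Amitsur.p23 B R).comp i₁) := hmap _ _ _
    have e3 : K151.Amitsur.p13 B R (add i₂ i₁) =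
        add ((K151.Amitsur.p13 B R).comp i₂) ((K151.Amitsur.p13 B R).comp i₁) := hmap _ _ _
    have f1 : (K151.Amitsur.p12 B R).comp i₁ = (K151.Amitsur.p13 B R).comp i₁ := by
      ext z
      simp [i₁]
    have f2 : (K151.Amitsur.p12 B R).comp i₂ = (K151.Amitsur.p23 B R).comp i₁ := by
      ext z
      simp [i₁, i₂]
    have f3 : (K151.Amitsur.p23 B R).comp i₂ = (K151.Amitsur.p13 B R).comp i₂ := by
      ext z
      simp [i₂]
    rw [e1, e2, e3, f1, f2, f3, add_comm]
    exact (hadd _ _ _).symm)
  refine ⟨B, inferInstance, inferInstance, R, inferInstance, inferInstance, β, j, jX, r, hj, hy,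
    hpb, ?_⟩
  intro C _ _ g x x' hg
  have hmono : Mono j := Over.mono_of_mono_left j
  have hx : x.comp β = x'.comp β := by
    apply pt_injective
    rw [← cancel_mono j]
    have h1 : (pt x ≫ jX) ≫ φ = (pt x' ≫ jX) ≫ φ := by
      rw [← hg]
      exact invariant_pt hcart.w g _
    rw [Category.assoc, Category.assoc, hw] at h1
    rw [pt_comp, pt_comp, Category.assoc, Category.assoc]
    exact h1
  let _ : Algebra B C := (x.comp β).toRingHom.toAlgebra
  have : IsScalarTower k B C :=
    IsScalarTower.of_algebraMap_eq fun r => ((x.comp β).commutes r).symm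
  let α : R →ₐ[B] C := { x.toRingHom with commutes' := fun z => rfl }
  let α' : R →ₐ[B] C :=
    { x'.toRingHom with commutes' := fun z => (DFunLike.congr_fun hx z).symm }
  have h2 : add α α' = ρ.c g := by
    change ρ.c _ = ρ.c g
    rw [trans_unique hcart _ _ (chart_eq j jX hw α α') g]
    exact hg
  let T : R ⊗[B] R →ₐ[B] C := Algebra.TensorProduct.lift α' α fun _ _ => .all _ _
  have hT1 : T.comp i₁ = α' := by
    ext z
    simp [T, i₁]
  have hT2 : T.comp i₂ = α := by
    ext z
    simp [T, i₂]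
  have h3 := hmap T i₂ i₁
  rw [hT1, hT2, h2, ← hr, map_sub] at h3
  have h4 : T ((1 : R) ⊗ₜ[B] r) = x r := by
    simp only [T, Algebra.TensorProduct.lift_tmul, map_one, _root_.one_mul]
    rfl
  have h5 : T (r ⊗ₜ[B] (1 : R)) = x' r := by
    simp only [T, Algebra.TensorProduct.lift_tmul, map_one, _root_.mul_one]
    rfl
  rw [h4, h5] at h3
  rw [← h3, sub_add_cancel]

/-- The additive character of a primitive element. -/
noncomputable def primRep {A : Type u} [CommRing A] [HopfAlgebra k A] {b : A}
    (hb : CoalgebraStruct.comul (R := k) b = b ⊗ₜ[k] (1 : A) + (1 : A) ⊗ₜ[k] b) :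
    AddRep k (sp k A) where
  c g := alg g b
  c_map γ g := by
    rw [alg_comp]
    rfl
  c_mul g h := by
    rw [alg_mul, AlgHom.comp_apply]
    change Algebra.TensorProduct.lift (alg g) (alg h) _
      (CoalgebraStruct.comul (R := k) b) = _
    rw [hb]
    simp

/-- The additive group is special. -/
theorem special_of_primitive {A : Type u} [CommRing A] [HopfAlgebra k A] (b : A)
    (hb : CoalgebraStruct.comul (R := k) b = b ⊗ₜ[k] (1 : A) + (1 : A) ⊗ₜ[k] b)
    (hex : ∀ (C : Type u) [CommRing C] [Algebra k C] (u : C), ∃ f : A →ₐ[k] C, f b = u)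
    (hext : ∀ (C : Type u) [CommRing C] [Algebra k C] (f f' : A →ₐ[k] C),
      f b = f' b → f = f') : Special (sp k A) := by
  intro X Y a φ hcart hloc
  have hG : IsAffineHom (sp k A).hom :=
    inferInstanceAs (IsAffineHom (Spec.map (CommRingCat.ofHom (algebraMap k A))))
  have hGf : Flat (sp k A).hom := by
    change Flat (Spec.map (CommRingCat.ofHom (algebraMap k A)))
    rw [Flat.SpecMap_iff]
    exact RingHom.flat_algebraMap_iff.2 inferInstance
  have h1 : IsAffineHom φ.left := K690.GeomQuot.prop_of_torsor @IsAffineHom hcart hloc hG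
  have := Groth.Agent.S18976.flat_descends
  have h2 : Flat φ.left := K690.GeomQuot.prop_of_torsor @Flat hcart hloc hGf
  have h3 : Surjective φ.left := LS.surjective hloc
  refine isLocallyTrivialFor_of_near fun y => ?_
  obtain ⟨B, _, _, R, _, _, β, j, jX, r, hj, hy, hpb, heq⟩ :=
    exists_add_near hcart (primRep hb) y
  obtain ⟨f, hf⟩ := hex R r
  let t : pullback φ j ⟶ sp k R := hpb.lift (pullback.fst φ j) (pullback.snd φ j) pullback.condition
  have ht : t ≫ jX = pullback.fst φ j := hpb.lift_fst _ _ _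
  obtain ⟨s, hs⟩ := exists_section_of_equiv hcart hloc j (t ≫ pt f) (by
    intro C _ _ x x' g hg
    obtain ⟨z, hz⟩ := exists_pt (x ≫ t)
    obtain ⟨z', hz'⟩ := exists_pt (x' ≫ t)
    rw [← Category.assoc, ← Category.assoc, ← hz, ← hz']
    rw [← pt_alg (g * pt z' ≫ pt f), ← pt_alg (pt z ≫ pt f)]
    congr 1
    apply hext
    have h9 := heq C g z z' (by
      rw [hz, hz', Category.assoc, Category.assoc, ht]
      exact hg)
    have h13 : alg (g * pt z' ≫ pt f) b = alg g b + alg (pt z' ≫ pt f) b :=
      (primRep hb).c_mul g (pt z' ≫ pt f)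
    rw [h13, alg_comp, alg_comp, alg_pt, AlgHom.comp_apply, AlgHom.comp_apply, hf]
    exact h9)
  exact ⟨_, j, s, hj, hy, hs⟩

end K690.AddNear
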