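import Groth.Prelude.Def_NonAbH2
import Groth.Prelude.Def_ChGrp
import Mathlib.CategoryTheory.Limits.Shapes.Pullback.IsPullback.Defs
import Mathlib.CategoryTheory.Sites.Precoverage

/-!
# Torsors over a base as cartesian action squares: points form, composition

* `isPullback_act_iff`: the action square is cartesian iff `φ` is invariant and the group acts
  simply transitively on the fibres of `φ` on `T`-points.
* `isLocallyTrivialFor_comp`: composition of morphisms with local sections.
-/

set_option autoImplicit false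

universe u

open CategoryTheory CategoryTheory.Limits MonoidalCategory CartesianMonoidalCategory MonObj
  AlgebraicGeometry

namespace K690.Torsor

open AlgGrp.Action

section Points

variable {S : Scheme.{u}} {G X Y : Over S} [GrpObj G] (a : AlgGrp.Action G X) (φ : X ⟶ Y)

/-- The square formed by the action, the projection and `φ` twice is cartesian iff `φ` is invariant
and `G` acts simply transitively on the fibres of `φ` (on points with values in any `S`-scheme). -/
theorem isPullback_act_iff :
    IsPullback a.act (snd G X) φ φ ↔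
      a.act ≫ φ = snd G X ≫ φ ∧
      ∀ (T : Over S) (x x' : T ⟶ X), x ≫ φ = x' ≫ φ → ∃! g : T ⟶ G, lift g x' ≫ a.act = x := by
  constructor
  · intro h
    refine ⟨h.w, fun T x x' hx => ?_⟩
    refine ⟨h.lift x x' hx ≫ fst G X, ?_, ?_⟩
    · have h1 : lift (h.lift x x' hx ≫ fst G X) x' = h.lift x x' hx :=
        CartesianMonoidalCategory.hom_ext _ _ (by rw [lift_fst]) (by rw [lift_snd, h.lift_snd])
      change lift (h.lift x x' hx ≫ fst G X) x' ≫ a.act = x
      rw [h1]
      exact h.lift_fst _ _ _
    · intro g hg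
      have h1 : lift g x' = h.lift x x' hx := by
        apply h.hom_ext
        · rw [h.lift_fst]; exact hg
        · rw [h.lift_snd, lift_snd]
      rw [← h1, lift_fst]
  · rintro ⟨hw, h⟩
    refine ⟨⟨hw⟩, ⟨?_⟩⟩
    refine PullbackCone.IsLimit.mk hw
      (fun s => lift (h s.pt s.fst s.snd s.condition).choose s.snd) ?_ ?_ ?_
    · intro s
      exact (h s.pt s.fst s.snd s.condition).choose_spec.1
    · intro s
      exact lift_snd _ _
    · intro s m hm1 hm2
      have h1 : m = lift (m ≫ fst G X) s.snd := by
        rw [← hm2, ← comp_lift, lift_fst_snd, Category.comp_id]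
      have h2 : lift (m ≫ fst G X) s.snd ≫ a.act = s.fst := by
        rw [← h1, hm1]
      have h3 := (h s.pt s.fst s.snd s.condition).choose_spec.2 _ h2
      rw [h1]
      congr 1

variable {a φ}

lemma invariant_pt (h : a.act ≫ φ = snd G X ≫ φ) {T : Over S} (g : T ⟶ G) (x : T ⟶ X) :
    (lift g x ≫ a.act) ≫ φ = x ≫ φ := by
  rw [Category.assoc, h, lift_snd_assoc]

end Points

section LocTriv

variable {K : Precoverage Scheme.{u}}

/-- Composition of morphisms admitting local sections for a precoverage stable under base change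
and composition. -/
theorem isLocallyTrivialFor_comp [K.IsStableUnderBaseChange] [K.IsStableUnderComposition]
    {X Y Z : Scheme.{u}} {f : X ⟶ Y} {g : Y ⟶ Z}
    (hf : NonAbH1.IsLocallyTrivialFor K (Over.mk f))
    (hg : NonAbH1.IsLocallyTrivialFor K (Over.mk g)) :
    NonAbH1.IsLocallyTrivialFor K (Over.mk (f ≫ g)) := by
  obtain ⟨R, hR, hRs⟩ := hf
  obtain ⟨Q, hQ, hQs⟩ := hg
  obtain ⟨I, V, v, rfl⟩ := R.exists_eq_ofArrows
  obtain ⟨J, W, w, rfl⟩ := Q.exists_eq_ofArrows
  have hs : ∀ j : J, ∃ s : W j ⟶ Y, s ≫ g = w j := fun j => hQs (w j) (Presieve.ofArrows.mk j)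
  have ht : ∀ i : I, ∃ t : V i ⟶ X, t ≫ f = v i := fun i => hRs (v i) (Presieve.ofArrows.mk i)
  choose s hs using hs
  choose t ht using ht
  let P : J → I → Scheme.{u} := fun j i => pullback (s j) (v i)
  have hP : ∀ j, Presieve.ofArrows (P j) (fun i => pullback.fst (s j) (v i)) ∈ K (W j) := by
    intro j
    exact Precoverage.mem_coverings_of_isPullback v hR (s j) (fun i => pullback.fst (s j) (v i))
      (fun i => pullback.snd (s j) (v i)) (fun i => IsPullback.of_hasPullback _ _)
  refine ⟨_, Precoverage.comp_mem_coverings w hQ (fun j i => pullback.fst (s j) (v i)) hP, ?_⟩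
  rintro S' h ⟨⟨j, i⟩⟩
  refine ⟨pullback.snd (s j) (v i) ≫ t i, ?_⟩
  change (pullback.snd (s j) (v i) ≫ t i) ≫ f ≫ g = pullback.fst (s j) (v i) ≫ w j
  rw [Category.assoc, reassoc_of% (ht i), ← pullback.condition_assoc, hs]

end LocTriv

end K690.Torsor
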