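import Groth.Agent.GIT.K690.FreeHopf
import Groth.Agent.GIT.K690.Torsor
import Groth.Agent.GIT.K686.AffQuot
import Groth.Agent.GIT.K686.CoactOf

/-!
# Affine quotients of free actions with closed orbits

`isPullback_of_free`: for an action of a linearly reductive `G` on an affine `X` of finite type over an
algebraically closed field, all of whose orbit maps are closed immersions, an affine quotient `φ` is flat
and its action square is cartesian.
-/

set_option autoImplicit false
universe u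
open CategoryTheory MonoidalCategory CartesianMonoidalCategory MonObj AlgebraicGeometry Topology Limits
open scoped TensorProduct
open K951.Pts Groth.Agent.Books.BorelOrb Groth.Agent.Books.AffBridge Groth.Agent.Sga3.H219.Coact
open K686 K686.CoactOf K687 K690.FreeHopf

namespace K690.AffAct

attribute [local instance] K951.Pts.algΓ

variable {k : Type u} [Field k] {G X Y : Over (Spec (CommRingCat.of k))} [GrpObj G] [IsAffine X.left]
  (a : AlgGrp.Action G X) {C : Type u} [CommRing C] [HopfAlgebra k C] (e : SpecOver k C ≅ G)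
  [IsMonHom e.hom]

/-- The coaction on the functions of an affine `X`. -/
@[reducible] noncomputable def cm : HopfRep.Comod k C Γ(X.left, ⊤) := comod (r a e) (hone a e) (hmul a e)

theorem isCoactAlg_cm : @GLin.IsCoactAlg k _ C _ _ Γ(X.left, ⊤) _ _ (cm a e) :=
  @GLin.IsCoactAlg.mk k _ C _ _ Γ(X.left, ⊤) _ _ (cm a e) (map_one (rho k (r a e)))
    (map_mul (rho k (r a e)))

theorem mem_invariants_iff (f : Γ(X.left, ⊤)) :
    letI := cm a e
    haveI := isCoactAlg_cm a e
    f ∈ GLin.invariants k C Γ(X.left, ⊤) ↔ Haar.Inv a f := by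
  let _ := cm a e
  have _ := isCoactAlg_cm a e
  rw [GLin.mem_invariants_iff]
  exact rho_eq_iff a e f

theorem fn_sm {W : Over (Spec (CommRingCat.of k))} (g : W ⟶ G) (x : W ⟶ X) :
    letI := cm a e
    haveI := isCoactAlg_cm a e
    fn (sm a g x ≫ (ε X).inv) = mv (fn (x ≫ (ε X).inv)) (Pt.mk (A := C) (fn (g⁻¹ ≫ e.inv))) := by
  let _ := cm a e
  have _ := isCoactAlg_cm a e
  have h1 := fn_lift_r a e (x ≫ (ε X).inv) (g⁻¹ ≫ e.inv)
  rw [lift_r, Category.assoc, Iso.inv_hom_id, Category.comp_id, Category.assoc, Iso.inv_hom_id,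
    Category.comp_id, inv_inv] at h1
  rw [h1]
  rfl

/-- The orbit homomorphism of a point of the ring of functions. -/
theorem surjective_orbitHom (hfree : ∀ x : 𝟙_ (Over (Spec (CommRingCat.of k))) ⟶ X,
      IsClosedImmersion (a.orbitMap x).left) :
    letI := cm a e
    haveI := isCoactAlg_cm a e
    ∀ x : Γ(X.left, ⊤) →ₐ[k] k, Function.Surjective (GLin.orbitHom k C x) := by
  let _ := cm a e
  have _ := isCoactAlg_cm a e
  intro x
  let x' : 𝟙_ (Over (Spec (CommRingCat.of k))) ⟶ SpecOver k Γ(X.left, ⊤) :=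
    ofFn ((Algebra.ofId k _).comp x)
  have h1 := hfree (x' ≫ (ε X).hom)
  -- the orbit map of `x'` in terms of the coaction
  have h2 : specMap k (GLin.orbitHom k C x) =
      (e.hom)⁻¹ ≫ a.orbitMap (x' ≫ (ε X).hom) ≫ (ε X).inv := by
    rw [← Category.assoc, comp_orbitMap]
    apply fn_injective
    have h3 := fn_sm a e (e.hom)⁻¹ (toUnit (SpecOver k C) ≫ x' ≫ (ε X).hom)
    rw [inv_inv, Iso.hom_inv_id, Category.assoc, Category.assoc, Iso.hom_inv_id,
      Category.comp_id] at h3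
    rw [h3]
    have h4 : fn (toUnit (SpecOver k C) ≫ x') =
        (Algebra.ofId k Γ((SpecOver k C).left, ⊤)).comp x := by
      apply AlgHom.ext
      intro f
      rw [fn_comp]
      rw [show fn x' = (Algebra.ofId k _).comp x from fn_ofFn _, AlgHom.comp_apply,
        AlgHom.comp_apply, Algebra.ofId_apply, Algebra.ofId_apply, algebraMap_algΓ, algebraMap_algΓ,
        ← fnS_comp_apply]
      congr 2
    rw [h4]
    apply AlgHom.ext
    intro f
    have h5 : fn (specMap k (GLin.orbitHom k C x)) =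
        (fn (𝟙 (SpecOver k C))).comp (GLin.orbitHom k C x) := by
      have := fn_comp_pt (𝟙 (SpecOver k C)) (GLin.orbitHom k C x)
      rwa [Category.id_comp] at this
    rw [h5, mv_apply, AlgHom.comp_apply, K690.Orbits.orbitHom_apply]
    generalize HopfRep.Comod.coact (k := k) (A := C) f = z
    induction z with
    | zero => simp
    | add z w hz hw => simp only [map_add, hz, hw]
    | tmul s c =>
      simp only [Algebra.TensorProduct.lift_tmul, TensorProduct.lid_tmul, LinearMap.rTensor_tmul,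
        Pt.hom_mk, AlgHom.comp_apply]
      rw [map_smul, Algebra.smul_def]
      rfl
  have h3 : IsClosedImmersion (specMap k (GLin.orbitHom k C x)).left := by
    rw [h2, Over.comp_left, Over.comp_left]
    have h4 : IsIso ((e.hom)⁻¹ : SpecOver k C ⟶ G) := by
      have h5 : ((e.hom)⁻¹ : SpecOver k C ⟶ G) = e.hom ≫ GrpObj.inv (X := G) := rfl
      rw [h5]
      infer_instance
    have h6 : IsIso ((e.hom)⁻¹ : SpecOver k C ⟶ G).left :=
      inferInstanceAs (IsIso ((Over.forget _).map ((e.hom)⁻¹ : SpecOver k C ⟶ G)))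
    have h7 : IsIso (ε X).inv.left := inferInstance
    infer_instance
  have h4 : IsClosedImmersion (Spec.map (CommRingCat.ofHom (GLin.orbitHom k C x).toRingHom)) := h3
  have h5 := (IsClosedImmersion.isAffine_surjective_of_isAffine
    (f := Spec.map (CommRingCat.ofHom (GLin.orbitHom k C x).toRingHom))).2
  have h6 := Scheme.ΓSpecIso_inv_naturality (CommRingCat.ofHom (GLin.orbitHom k C x).toRingHom)
  intro c
  obtain ⟨d, hd⟩ := h5 ((Scheme.ΓSpecIso (CommRingCat.of C)).inv c)
  refine ⟨(Scheme.ΓSpecIso (CommRingCat.of Γ(X.left, ⊤))).hom d, ?_⟩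
  have h7 := ConcreteCategory.bijective_of_isIso (Scheme.ΓSpecIso (CommRingCat.of C)).inv
  apply h7.1
  rw [← hd]
  have h8 := congrArg (fun t => t.hom ((Scheme.ΓSpecIso (CommRingCat.of Γ(X.left, ⊤))).hom d)) h6
  refine Eq.trans h8 ?_
  change (Spec.map (CommRingCat.ofHom (GLin.orbitHom k C x).toRingHom)).appTop.hom
    (((Scheme.ΓSpecIso (CommRingCat.of Γ(X.left, ⊤))).hom ≫
      (Scheme.ΓSpecIso (CommRingCat.of Γ(X.left, ⊤))).inv).hom d) = _
  rw [Iso.hom_inv_id]
  rfl

theorem fn_aff_comp {W : Over (Spec (CommRingCat.of k))} (x : W ⟶ X) (f : Γ(X.left, ⊤)) :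
    fn (x ≫ (ε X).inv) f = x.left.appTop.hom f := by
  rw [fn_comp, ε_inv, fn_aff]
  rfl

/-- Two group elements moving a point to the same point are equal, if `can` is onto. -/
theorem eq_of_sm_eq (hcan : letI := cm a e
      haveI := isCoactAlg_cm a e
      Function.Surjective (can k C Γ(X.left, ⊤)))
    {W : Over (Spec (CommRingCat.of k))} {g₁ g₂ : W ⟶ G} {x : W ⟶ X} (h : sm a g₁ x = sm a g₂ x) :
    g₁ = g₂ := by
  let _ := cm a e
  have _ := isCoactAlg_cm a e
  have h1 := fn_sm a e g₁ x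
  have h2 := fn_sm a e g₂ x
  rw [h, h2] at h1
  set p₁ : Pt k C Γ(W.left, ⊤) := Pt.mk (fn (g₁⁻¹ ≫ e.inv)) with hp₁
  set p₂ : Pt k C Γ(W.left, ⊤) := Pt.mk (fn (g₂⁻¹ ≫ e.inv)) with hp₂
  set f := fn (x ≫ (ε X).inv) with hf
  have h3 : ∀ z, ev2 f p₁⁻¹ (can k C Γ(X.left, ⊤) z) = ev2 f p₂⁻¹ (can k C Γ(X.left, ⊤) z) := by
    intro z
    induction z with
    | zero => simp
    | add z w hz hw => rw [map_add, map_add, map_add, hz, hw]
    | tmul s t =>
      rw [can_tmul, Algebra.smul_def]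
      change ev2 f p₁⁻¹ ((s ⊗ₜ[k] (1 : C)) * nu C t) = ev2 f p₂⁻¹ ((s ⊗ₜ[k] (1 : C)) * nu C t)
      rw [map_mul, map_mul, ev2_tmul, ev2_tmul, ev2_nu, ev2_nu, inv_inv, inv_inv, map_one, map_one, h1]
  have h4 : p₁⁻¹ = p₂⁻¹ := by
    apply Pt.ext
    intro c
    obtain ⟨z, hz⟩ := hcan ((1 : Γ(X.left, ⊤)) ⊗ₜ[k] c)
    have h5 := h3 z
    rw [hz, ev2_tmul, ev2_tmul, map_one, _root_.one_mul, _root_.one_mul] at h5
    exact h5
  have h5 : p₁ = p₂ := inv_injective h4
  have h6 : g₁⁻¹ ≫ e.inv = g₂⁻¹ ≫ e.inv := fn_injective h5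
  have h7 : g₁⁻¹ = g₂⁻¹ := (cancel_mono e.inv).1 h6
  exact inv_injective h7

/-- Points in the same fibre are in the same orbit, if `can` is bijective. -/
theorem exists_sm_eq (hcan : letI := cm a e
      haveI := isCoactAlg_cm a e
      Function.Bijective (can k C Γ(X.left, ⊤)))
    {φ : X ⟶ Y} (hq : IsAffQuot a φ)
    {W : Over (Spec (CommRingCat.of k))} {x x' : W ⟶ X} (h : x ≫ φ = x' ≫ φ) :
    ∃ g : W ⟶ G, sm a g x' = x := by
  let _ := cm a e
  have _ := isCoactAlg_cm a e
  let f := fn (x ≫ (ε X).inv)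
  let f' := fn (x' ≫ (ε X).inv)
  have hB : ∀ b ∈ GLin.invariants k C Γ(X.left, ⊤), f b = f' b := by
    intro b hb
    have hb' := (mem_invariants_iff a e b).1 hb
    have h1 : b ∈ Set.range φ.left.appTop := by rw [hq.range]; exact hb'
    obtain ⟨b', rfl⟩ := h1
    change fn (x ≫ (ε X).inv) _ = fn (x' ≫ (ε X).inv) _
    rw [fn_aff_comp, fn_aff_comp]
    have h2 := congrArg (fun t => t.left.appTop.hom b') h
    simp only [Over.comp_left, Scheme.Hom.comp_appTop] at h2
    exact h2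
  let _ : Algebra (GLin.invariants k C Γ(X.left, ⊤)) Γ(W.left, ⊤) :=
    ((f' : Γ(X.left, ⊤) →+* Γ(W.left, ⊤)).comp
      (GLin.invariants k C Γ(X.left, ⊤)).val.toRingHom).toAlgebra
  let F' : Γ(X.left, ⊤) →ₐ[GLin.invariants k C Γ(X.left, ⊤)] Γ(W.left, ⊤) :=
    { (f' : Γ(X.left, ⊤) →+* Γ(W.left, ⊤)) with commutes' := fun b => rfl }
  let F : Γ(X.left, ⊤) →ₐ[GLin.invariants k C Γ(X.left, ⊤)] Γ(W.left, ⊤) :=
    { (f : Γ(X.left, ⊤) →+* Γ(W.left, ⊤)) with commutes' := fun b => hB b.1 b.2 }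
  let ψ := Algebra.TensorProduct.lift F' F fun _ _ => .all _ _
  let E := AlgEquiv.ofBijective (can k C Γ(X.left, ⊤)) hcan
  have hE : ∀ s t, E.symm (s • nu C t) = s ⊗ₜ t := by
    intro s t
    rw [AlgEquiv.symm_apply_eq]
    exact (can_tmul s t).symm
  have hψ1 : ∀ s : Γ(X.left, ⊤), ψ (E.symm (s ⊗ₜ[k] (1 : C))) = f' s := by
    intro s
    have h1 : s ⊗ₜ[k] (1 : C) = s • nu C (1 : Γ(X.left, ⊤)) := by
      rw [map_one, Algebra.smul_def, _root_.mul_one]
      rfl
    rw [h1, hE]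
    refine (Algebra.TensorProduct.lift_tmul _ _ _ _ _).trans ?_
    rw [map_one, _root_.mul_one]
    rfl
  have hψ2 : ∀ t : Γ(X.left, ⊤), ψ (E.symm (nu C t)) = f t := by
    intro t
    have h1 : (nu C t : Γ(X.left, ⊤) ⊗[k] C) = (1 : Γ(X.left, ⊤)) • nu C t := (one_smul _ _).symm
    rw [h1, hE]
    refine (Algebra.TensorProduct.lift_tmul _ _ _ _ _).trans ?_
    rw [map_one, _root_.one_mul]
    rfl
  let Ψ : Γ(X.left, ⊤) ⊗[k] C →ₐ[k] Γ(W.left, ⊤) :=
    { ψ.toRingHom.comp E.symm.toAlgHom.toRingHom with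
      commutes' := fun c => by
        have h1 : algebraMap k (Γ(X.left, ⊤) ⊗[k] C) c = (algebraMap k Γ(X.left, ⊤) c) ⊗ₜ[k] (1 : C) := rfl
        exact (congrArg (fun t => ψ (E.symm t)) h1).trans ((hψ1 _).trans (AlgHom.commutes _ _)) }
  have hΨ1 : Ψ.comp Algebra.TensorProduct.includeLeft = f' := AlgHom.ext hψ1
  have hΨ2 : ∀ t, Ψ (nu C t) = f t := hψ2
  have hΨ := eq_ev2 Ψ
  rw [hΨ1] at hΨ
  set b : Pt k C Γ(W.left, ⊤) := Pt.mk (Ψ.comp Algebra.TensorProduct.includeRight) with hb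
  refine ⟨(ofFn (b⁻¹).hom ≫ e.hom)⁻¹, ?_⟩
  rw [← cancel_mono (ε X).inv]
  apply fn_injective
  rw [fn_sm a e, inv_inv, Category.assoc, Iso.hom_inv_id, Category.comp_id, fn_ofFn, Pt.mk_hom]
  apply AlgHom.ext
  intro t
  rw [← ev2_nu]
  change ev2 f' b (nu C t) = f t
  rw [← hΨ, hΨ2]

include e in
/-- A linearly reductive group acting on an affine scheme of finite type with all orbit maps closed
immersions: an affine quotient is flat, with cartesian action square. -/
theorem isPullback_of_free [IsAlgClosed k] (hG : HopfRep.IsLinearlyReductive k C)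
    (hX : Algebra.FiniteType k Γ(X.left, ⊤)) {φ : X ⟶ Y} (hq : IsAffQuot a φ) [IsAffine Y.left]
    (hfree : ∀ x : 𝟙_ (Over (Spec (CommRingCat.of k))) ⟶ X, IsClosedImmersion (a.orbitMap x).left) :
    IsPullback a.act (snd G X) φ φ ∧ Flat φ.left := by
  let _ := cm a e
  have _ := isCoactAlg_cm a e
  have hs := surjective_orbitHom a e hfree
  have hcan := bijective_can (k := k) (A := C) (R := Γ(X.left, ⊤)) hG hs
  have hff := faithfullyFlat_invariants (k := k) (A := C) (R := Γ(X.left, ⊤)) hG hs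
  constructor
  · rw [K690.Torsor.isPullback_act_iff]
    refine ⟨hq.inv, fun T x x' hx => ?_⟩
    obtain ⟨g, hg⟩ := exists_sm_eq a e hcan hq hx
    exact ⟨g, hg, fun g' hg' => eq_of_sm_eq a e hcan.2 (hg'.trans hg.symm)⟩
  · rw [HasRingHomProperty.iff_of_isAffine (P := @Flat)]
    have h1 : RingHom.Flat (algebraMap (GLin.invariants k C Γ(X.left, ⊤)) Γ(X.left, ⊤)) :=
      RingHom.flat_algebraMap_iff.2 inferInstance
    let θ : Γ(Y.left, ⊤) →+* GLin.invariants k C Γ(X.left, ⊤) :=
      φ.left.appTop.hom.codRestrict _ fun b => (mem_invariants_iff a e _).2 (by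
        have : φ.left.appTop b ∈ {f | Haar.Inv a f} := by rw [← hq.range]; exact ⟨b, rfl⟩
        exact this)
    have hθ : Function.Bijective θ := by
      constructor
      · intro b b' hb
        exact hq.inj (congrArg Subtype.val hb)
      · intro b
        have h2 : (b : Γ(X.left, ⊤)) ∈ Set.range φ.left.appTop := by
          rw [hq.range]
          exact (mem_invariants_iff a e _).1 b.2
        obtain ⟨b', hb'⟩ := h2
        exact ⟨b', Subtype.ext hb'⟩
    exact RingHom.Flat.comp (RingHom.Flat.of_bijective hθ) h1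

end K690.AffAct
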