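import Groth.Agent.GIT.K690.GeomQuot
import Groth.Prelude.Def_Desc
import Groth.Agent.S1133

/-!
# Quotients of schemes affine over a torsor

Let `φ : X ⟶ Y` be a `G`-torsor (fpqc), `π : Z ⟶ X` an equivariant affine morphism.  Then the
quotient `Q` of `Z` by `G` exists, `Z ⟶ Q` is a `G`-torsor and `Z = X ×_Y Q`.
-/

set_option autoImplicit false

universe u

open CategoryTheory CategoryTheory.Limits MonoidalCategory CartesianMonoidalCategory MonObj
  AlgebraicGeometry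

namespace K690.AssocBundle

open K690.LocSec K690.Torsor K690.GeomQuot AlgGrp.Action Desc

section Orb

variable {S : Scheme.{u}} {G Z : Over S} [GrpObj G] (c : AlgGrp.Action G Z)

/-- Two points of the scheme `Z.left` in the same orbit. -/
def Orb {T : Scheme.{u}} (z₀ z₁ : T ⟶ Z.left) : Prop :=
  ∃ (t : T ⟶ S) (e₀ e₁ : Over.mk t ⟶ Z) (g : Over.mk t ⟶ G),
    e₀.left = z₀ ∧ e₁.left = z₁ ∧ lift g e₀ ≫ c.act = e₁

variable {c}

lemma Orb.refl {T : Scheme.{u}} (z : T ⟶ Z.left) : Orb c z z :=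
  ⟨z ≫ Z.hom, Over.homMk z, Over.homMk z, 1, rfl, rfl, lift_one_act c _⟩

lemma Orb.symm {T : Scheme.{u}} {z₀ z₁ : T ⟶ Z.left} (h : Orb c z₀ z₁) : Orb c z₁ z₀ := by
  obtain ⟨t, e₀, e₁, g, h0, h1, h2⟩ := h
  refine ⟨t, e₁, e₀, g⁻¹, h1, h0, ?_⟩
  rw [← h2, ← lift_mul_act, inv_mul_cancel, lift_one_act]

lemma Orb.trans {T : Scheme.{u}} {z₀ z₁ z₂ : T ⟶ Z.left} (h : Orb c z₀ z₁) (h' : Orb c z₁ z₂) :
    Orb c z₀ z₂ := by
  obtain ⟨t, e₀, e₁, g, h0, h1, h2⟩ := h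
  obtain ⟨t', e₁', e₂, g', h1', h2', h3⟩ := h'
  obtain rfl : t = t' := by
    have a1 : e₁.left ≫ Z.hom = t := Over.w e₁
    have a2 : e₁'.left ≫ Z.hom = t' := Over.w e₁'
    rw [← a1, ← a2, h1, h1']
  obtain rfl : e₁ = e₁' := by
    ext1
    rw [h1, h1']
  exact ⟨t, e₀, e₂, g' * g, h0, h2', by rw [lift_mul_act, h2, h3]⟩

lemma Orb.comp {T T' : Scheme.{u}} {z₀ z₁ : T ⟶ Z.left} (h : Orb c z₀ z₁) (f : T' ⟶ T) :
    Orb c (f ≫ z₀) (f ≫ z₁) := by
  obtain ⟨t, e₀, e₁, g, h0, h1, h2⟩ := h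
  let F : Over.mk (f ≫ t) ⟶ Over.mk t := Over.homMk f
  refine ⟨f ≫ t, F ≫ e₀, F ≫ e₁, F ≫ g, ?_, ?_, ?_⟩
  · rw [Over.comp_left, h0]; rfl
  · rw [Over.comp_left, h1]; rfl
  · rw [← comp_lift_assoc, h2]

end Orb

section Datum

variable {S : Scheme.{u}} {G X Y Z : Over S} [GrpObj G] {a : AlgGrp.Action G X} {φ : X ⟶ Y}
  (hcart : IsPullback a.act (snd G X) φ φ) (c : AlgGrp.Action G Z) (π : Z ⟶ X)
  (hπ : c.act ≫ π = (G ◁ π) ≫ a.act)

include hcart hπ

/-- A point of `Z` over `x₀` has a unique translate over `x₁`. -/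
lemma existsUnique_orb {T : Scheme.{u}} (x₀ x₁ : T ⟶ X.left) (h : x₀ ≫ φ.left = x₁ ≫ φ.left)
    (v : Lifts (Over.mk π.left) x₀) :
    ∃! w : Lifts (Over.mk π.left) x₁, Orb c v.1 w.1 := by
  obtain ⟨-, hp⟩ := (isPullback_act_iff a φ).1 hcart
  have hv : v.1 ≫ π.left = x₀ := v.2
  have h0 : v.1 ≫ Z.hom = x₀ ≫ X.hom := by
    have h00 : v.1 ≫ π.left ≫ X.hom = x₀ ≫ X.hom := by rw [← Category.assoc]; exact congrArg (· ≫ X.hom) hv
    rw [Over.w] at h00
    exact h00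
  have h1 : x₁ ≫ X.hom = x₀ ≫ X.hom := by
    rw [← Over.w φ, ← Category.assoc, ← h, Category.assoc]
  let e₀ : Over.mk (x₀ ≫ X.hom) ⟶ Z := Over.homMk v.1 h0
  let y₀ : Over.mk (x₀ ≫ X.hom) ⟶ X := Over.homMk x₀
  let y₁ : Over.mk (x₀ ≫ X.hom) ⟶ X := Over.homMk x₁ h1
  have he₀ : e₀ ≫ π = y₀ := by ext1; exact hv
  obtain ⟨g, hg, hgu⟩ := hp _ y₁ y₀ (by ext1; exact h.symm)
  have hact : ∀ (g' : Over.mk (x₀ ≫ X.hom) ⟶ G) (e : Over.mk (x₀ ≫ X.hom) ⟶ Z),
      (lift g' e ≫ c.act) ≫ π = lift g' (e ≫ π) ≫ a.act := by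
    intro g' e
    rw [Category.assoc, hπ, lift_whiskerLeft_assoc]
  refine ⟨⟨(lift g e₀ ≫ c.act).left, ?_⟩, ⟨_, e₀, _, g, rfl, rfl, rfl⟩, ?_⟩
  · change (lift g e₀ ≫ c.act).left ≫ π.left = x₁
    rw [← Over.comp_left, hact, he₀]
    exact congrArg CommaMorphism.left hg
  · rintro ⟨w, hw⟩ ⟨t, e₀', e₁, g', h0', h1', h2⟩
    obtain rfl : t = x₀ ≫ X.hom := by
      rw [← h0, ← h0']
      exact (Over.w e₀').symm
    have hee : e₀' = e₀ := by
      ext1
      exact h0'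
    subst hee
    apply Subtype.ext
    change w = (lift g e₀ ≫ c.act).left
    have h3 : g' = g := by
      apply hgu
      rw [← he₀, ← hact, h2]
      ext1
      rw [Over.comp_left, h1']
      exact hw
    rw [← h3, h2]
    exact h1'.symm

/-- The gluing map. -/
noncomputable def tr {T : Scheme.{u}} (x₀ x₁ : T ⟶ X.left) (h : x₀ ≫ φ.left = x₁ ≫ φ.left)
    (v : Lifts (Over.mk π.left) x₀) : Lifts (Over.mk π.left) x₁ :=
  (existsUnique_orb hcart c π hπ x₀ x₁ h v).choose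

lemma tr_orb {T : Scheme.{u}} (x₀ x₁ : T ⟶ X.left) (h : x₀ ≫ φ.left = x₁ ≫ φ.left)
    (v : Lifts (Over.mk π.left) x₀) : Orb c v.1 (tr hcart c π hπ x₀ x₁ h v).1 :=
  (existsUnique_orb hcart c π hπ x₀ x₁ h v).choose_spec.1

lemma tr_eq {T : Scheme.{u}} {x₀ x₁ : T ⟶ X.left} {h : x₀ ≫ φ.left = x₁ ≫ φ.left}
    {v : Lifts (Over.mk π.left) x₀} {w : Lifts (Over.mk π.left) x₁} (hw : Orb c v.1 w.1) :
    tr hcart c π hπ x₀ x₁ h v = w :=
  ((existsUnique_orb hcart c π hπ x₀ x₁ h v).choose_spec.2 w hw).symm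

/-- The descent datum on `Z ⟶ X` given by the action. -/
noncomputable def datum : SchDD φ.left where
  obj := Over.mk π.left
  φ T x₀ x₁ h :=
    { toFun := tr hcart c π hπ x₀ x₁ h
      invFun := tr hcart c π hπ x₁ x₀ h.symm
      left_inv := fun v => tr_eq hcart c π hπ (tr_orb hcart c π hπ x₀ x₁ h v).symm
      right_inv := fun v => tr_eq hcart c π hπ (tr_orb hcart c π hπ x₁ x₀ h.symm v).symm }
  φ_natural T T' g x₀ x₁ h h' v v' hv' := by
    have h1 : (tr hcart c π hπ (g ≫ x₀) (g ≫ x₁) h' v') =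
        ⟨g ≫ (tr hcart c π hπ x₀ x₁ h v).1, by
          rw [Category.assoc, (tr hcart c π hπ x₀ x₁ h v).2]⟩ := by
      apply tr_eq
      rw [hv']
      exact (tr_orb hcart c π hπ x₀ x₁ h v).comp g
    exact congrArg Subtype.val h1
  φ_self T x v := tr_eq hcart c π hπ (h := rfl) (Orb.refl _)
  φ_comp T x₀ x₁ x₂ h₀₁ h₁₂ v :=
    (tr_eq hcart c π hπ (h := h₀₁.trans h₁₂) ((tr_orb hcart c π hπ x₀ x₁ h₀₁ v).trans
      (tr_orb hcart c π hπ x₁ x₂ h₁₂ _))).symm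

/-- Existence of the quotient of `Z` by `G`. -/
theorem exists_quotient (hφ : LS φ.left) [Flat φ.left] [QuasiCompact φ.left]
    [IsAffineHom π.left] :
    ∃ (Q : Over S) (q : Z ⟶ Q) (r : Q ⟶ Y), q ≫ r = π ≫ φ ∧
      IsPullback π.left q.left φ.left r.left ∧
      IsPullback c.act (snd G Z) q q ∧ LS q.left := by
  have hsurj := hφ.surjective
  let D := datum hcart c π hπ
  have hDaff : IsAffineHom D.obj.hom := ‹IsAffineHom π.left›
  obtain ⟨U, ⟨e⟩⟩ := Groth.Agent.S1133.result φ.left D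
  -- the isomorphism over `X`
  let i : pullback φ.left U.hom ⟶ Z.left := e.hom.hom.left
  let j : Z.left ⟶ pullback φ.left U.hom := e.inv.hom.left
  have hij : i ≫ j = 𝟙 _ := by
    have := congrArg (fun f => f.hom.left) e.hom_inv_id
    exact this
  have hji : j ≫ i = 𝟙 _ := by
    have := congrArg (fun f => f.hom.left) e.inv_hom_id
    exact this
  have hi : i ≫ π.left = pullback.fst φ.left U.hom := Over.w e.hom.hom
  have hj : j ≫ pullback.fst φ.left U.hom = π.left := Over.w e.inv.hom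
  let Q : Over S := Over.mk (U.hom ≫ Y.hom)
  let r : Q ⟶ Y := Over.homMk U.hom
  have hjU : (j ≫ pullback.snd φ.left U.hom) ≫ U.hom = π.left ≫ φ.left := by
    rw [Category.assoc, ← pullback.condition, reassoc_of% hj]
  let q : Z ⟶ Q := Over.homMk (j ≫ pullback.snd φ.left U.hom) (by
    change (j ≫ pullback.snd φ.left U.hom) ≫ U.hom ≫ Y.hom = Z.hom
    rw [← Category.assoc, hjU, Category.assoc, Over.w, Over.w])
  have hqr : q ≫ r = π ≫ φ := by
    ext1
    exact hjU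
  have hpb : IsPullback π.left q.left φ.left r.left := by
    have h1 : IsPullback (pullback.fst φ.left U.hom) (pullback.snd φ.left U.hom) φ.left U.hom :=
      IsPullback.of_hasPullback _ _
    refine IsPullback.of_iso h1 ⟨i, j, hij, hji⟩ (Iso.refl _) (Iso.refl _) (Iso.refl _) ?_ ?_ ?_ ?_
    · change pullback.fst φ.left U.hom ≫ 𝟙 _ = i ≫ π.left
      rw [Category.comp_id, hi]
    · change pullback.snd φ.left U.hom ≫ 𝟙 _ = i ≫ j ≫ pullback.snd φ.left U.hom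
      rw [Category.comp_id, ← Category.assoc, hij, Category.id_comp]
    · simp
    · simp [r]
  -- points in the same orbit have the same image in `U`
  have horb : ∀ {T : Scheme.{u}} (z₀ z₁ : T ⟶ Z.left), Orb c z₀ z₁ → z₀ ≫ q.left = z₁ ≫ q.left := by
    intro T z₀ z₁ h
    have hx : (z₀ ≫ π.left) ≫ φ.left = (z₁ ≫ π.left) ≫ φ.left := by
      obtain ⟨t, e₀, e₁, g, h0, h1, h2⟩ := h
      have h3 : (e₁ ≫ π) ≫ φ = (e₀ ≫ π) ≫ φ := by
        rw [← h2, Category.assoc (lift g e₀), hπ, lift_whiskerLeft_assoc]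
        exact invariant_pt hcart.w g (e₀ ≫ π)
      have h4 := congrArg CommaMorphism.left h3
      rw [← h0, ← h1]
      exact h4.symm
    let v : Lifts (canonicalDD φ.left U).obj (z₀ ≫ π.left) := ⟨z₀ ≫ j, by
      change (z₀ ≫ j) ≫ pullback.fst φ.left U.hom = _
      rw [Category.assoc, hj]⟩
    let w : Lifts D.obj (z₀ ≫ π.left) := ⟨z₀, rfl⟩
    have h5 := e.hom.comm (z₀ ≫ π.left) (z₁ ≫ π.left) hx v w (by
      change z₀ = (z₀ ≫ j) ≫ i
      rw [Category.assoc, hji, Category.comp_id])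
    have h6 : (D.φ (z₀ ≫ π.left) (z₁ ≫ π.left) hx w) = (⟨z₁, rfl⟩ : Lifts D.obj (z₁ ≫ π.left)) :=
      tr_eq hcart c π hπ (h := hx) h
    rw [h6] at h5
    have h7 : z₁ ≫ j = (canMap φ.left U (z₀ ≫ π.left) (z₁ ≫ π.left) hx v).1 := by
      have h8 := congrArg (fun f => f ≫ j) h5
      refine h8.trans ?_
      change ((canMap φ.left U (z₀ ≫ π.left) (z₁ ≫ π.left) hx v).1 ≫ i) ≫ j = _
      rw [Category.assoc, hij]
      exact Category.comp_id _
    have h9 := congrArg (fun f => f ≫ pullback.snd φ.left U.hom) h7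
    simp only [canMap_val, Category.assoc, pullback.lift_snd] at h9
    exact h9.symm
  refine ⟨Q, q, r, hqr, hpb, ?_, LS.of_isPullback hpb hφ⟩
  rw [isPullback_act_iff]
  obtain ⟨-, hp⟩ := (isPullback_act_iff a φ).1 hcart
  refine ⟨hom_ext_lift₂ fun T g z => ?_, fun T z z' hz => ?_⟩
  · rw [lift_snd_assoc]
    ext1
    exact (horb z.left (lift g z ≫ c.act).left ⟨T.hom, z, _, g, rfl, rfl, rfl⟩).symm
  · have hx : (z ≫ π) ≫ φ = (z' ≫ π) ≫ φ := by
      rw [Category.assoc, ← hqr, reassoc_of% hz, hqr, Category.assoc]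
    obtain ⟨g, hg, hgu⟩ := hp T (z ≫ π) (z' ≫ π) hx
    refine ⟨g, ?_, ?_⟩
    · ext1
      apply hpb.hom_ext
      · have h1 : (lift g z' ≫ c.act) ≫ π = z ≫ π := by
          rw [Category.assoc, hπ, lift_whiskerLeft_assoc]
          exact hg
        exact congrArg CommaMorphism.left h1
      · have h1 : z'.left ≫ q.left = (lift g z' ≫ c.act).left ≫ q.left :=
          horb z'.left (lift g z' ≫ c.act).left ⟨T.hom, z', _, g, rfl, rfl, rfl⟩
        rw [← h1]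
        exact (congrArg CommaMorphism.left hz).symm
    · intro g' hg'
      apply hgu
      rw [← hg', Category.assoc, hπ, lift_whiskerLeft_assoc]

end Datum

end K690.AssocBundle
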