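import Groth.Agent.CurvesA.Hilbert90Alg
import Mathlib.RingTheory.Flat.FaithfullyFlat.Basic
import Mathlib.LinearAlgebra.Matrix.Determinant.Basic
import Mathlib.LinearAlgebra.Matrix.NonsingularInverse
import Mathlib.LinearAlgebra.TensorProduct.Pi
import Mathlib.AlgebraicGeometry.Morphisms.Flat

/-!
# Matrix cocycles along a flat ring map are locally trivial

`B → R` flat; a matrix cocycle `c α β ∈ M_n(C)`, for `B`-algebra maps `α, β : R → C`, natural in `C`.

* `span_eq_top`: vectors `v ∈ Rⁿ` with `c α β · β(v) = α(v)` span `Rⁿ`.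
* `exists_matrix_det`: at every prime of `R` there is a matrix `M` with `c α β · β(M) = α(M)` and
  `det M` not in the prime.
* `exists_trivialisation`: for every prime `p` of `B` there are `b ∉ p` and a matrix `M` over `R` with
  `c α β · β(M) = α(M)` whose determinant divides a power of `b`.
-/

set_option autoImplicit false

universe u

open TensorProduct

namespace K690.Coinv

open Groth.Agent.CurvesA.Hilbert90Alg

variable (k B R : Type u) [CommRing k] [CommRing B] [CommRing R] [Algebra B R] [Algebra k B]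
  [Algebra k R] [IsScalarTower k B R] (n : ℕ)

/-- A matrix cocycle. -/
structure MatCoc where
  c : ∀ {C : Type u} [CommRing C] [Algebra k C] [Algebra B C] [IsScalarTower k B C],
    (R →ₐ[B] C) → (R →ₐ[B] C) → Matrix (Fin n) (Fin n) C
  c_map : ∀ {C C' : Type u} [CommRing C] [Algebra k C] [Algebra B C] [IsScalarTower k B C]
    [CommRing C'] [Algebra k C'] [Algebra B C'] [IsScalarTower k B C']
    (γ : C →ₐ[B] C') (α β : R →ₐ[B] C), (c α β).map γ = c (γ.comp α) (γ.comp β)
  c_self : ∀ {C : Type u} [CommRing C] [Algebra k C] [Algebra B C] [IsScalarTower k B C]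
    (α : R →ₐ[B] C), c α α = 1
  c_mul : ∀ {C : Type u} [CommRing C] [Algebra k C] [Algebra B C] [IsScalarTower k B C]
    (α β δ : R →ₐ[B] C), c α β * c β δ = c α δ

variable {k B R n}

namespace MatCoc

variable (D : MatCoc k B R n)

/-- The inclusions of `R` in `R ⊗ R`. -/
abbrev ι₁ (B R : Type u) [CommRing B] [CommRing R] [Algebra B R] : R →ₐ[B] R ⊗[B] R :=
  Algebra.TensorProduct.includeLeft

/-- The inclusions of `R` in `R ⊗ R`. -/
abbrev ι₂ (B R : Type u) [CommRing B] [CommRing R] [Algebra B R] : R →ₐ[B] R ⊗[B] R :=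
  Algebra.TensorProduct.includeRight

/-- `v` is coinvariant. -/
def IsCoinv (v : Fin n → R) : Prop :=
  ∀ (C : Type u) [CommRing C] [Algebra k C] [Algebra B C] [IsScalarTower k B C]
    (α β : R →ₐ[B] C),
    (D.c α β).mulVec (β ∘ v) = α ∘ v

lemma isCoinv_iff (v : Fin n → R) :
    D.IsCoinv v ↔ (D.c (ι₂ B R) (ι₁ B R)).mulVec (ι₁ B R ∘ v) = ι₂ B R ∘ v := by
  constructor
  · intro h
    exact h _ _ _
  · intro h C _ _ _ _ α β
    let γ : R ⊗[B] R →ₐ[B] C := Algebra.TensorProduct.lift β α fun _ _ => Commute.all _ _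
    have h1 : γ.comp (ι₂ B R) = α := by ext; simp [γ, ι₂]
    have h2 : γ.comp (ι₁ B R) = β := by ext; simp [γ, ι₁]
    have h3 := congrArg (fun w => γ ∘ w) h
    rw [← h1, ← h2, ← D.c_map]
    have h4 : ∀ (M : Matrix (Fin n) (Fin n) (R ⊗[B] R)) (w : Fin n → R ⊗[B] R),
        (M.map γ).mulVec (γ ∘ w) = γ ∘ (M.mulVec w) := by
      intro M w
      ext i
      simp [Matrix.mulVec, dotProduct, map_sum]
    exact (h4 _ _).trans h3

/-- the defect of a vector -/
noncomputable def defect : (Fin n → R) →ₗ[B] (Fin n → R ⊗[B] R) where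
  toFun v := (D.c (ι₂ B R) (ι₁ B R)).mulVec (ι₁ B R ∘ v) - ι₂ B R ∘ v
  map_add' v w := by
    have h1 : ι₁ B R ∘ (v + w) = ι₁ B R ∘ v + ι₁ B R ∘ w := by ext i; exact map_add _ _ _
    have h2 : ι₂ B R ∘ (v + w) = ι₂ B R ∘ v + ι₂ B R ∘ w := by ext i; exact map_add _ _ _
    rw [h1, h2, Matrix.mulVec_add]
    abel
  map_smul' b v := by
    have h1 : ι₁ B R ∘ (b • v) = b • (ι₁ B R ∘ v) := by ext i; simp
    have h2 : ι₂ B R ∘ (b • v) = b • (ι₂ B R ∘ v) := by ext i; simp
    rw [h1, h2, Matrix.mulVec_smul, RingHom.id_apply, smul_sub]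

lemma mem_ker_defect (v : Fin n → R) : v ∈ LinearMap.ker D.defect ↔ D.IsCoinv v := by
  rw [LinearMap.mem_ker, isCoinv_iff]
  exact sub_eq_zero

/-- the column of the cocycle, as an element of `R ⊗ Rⁿ` -/
noncomputable def col (j : Fin n) : R ⊗[B] (Fin n → R) :=
  ∑ i, (LinearMap.single B (fun _ => R) i).lTensor R (D.c (ι₂ B R) (ι₁ B R) i j)

lemma proj_defect_single (l i : Fin n) (x : R ⊗[B] R) :
    ((LinearMap.proj l : (Fin n → R ⊗[B] R) →ₗ[B] R ⊗[B] R) ∘ₗ D.defect ∘ₗ
      LinearMap.single B (fun _ => R) i).lTensor R x =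
      i23 B R (D.c (ι₂ B R) (ι₁ B R) l i) * i12 B R x - if l = i then i13 B R x else 0 := by
  induction x with
  | zero => simp
  | add x y hx hy => rw [map_add, hx, hy, map_add, map_add]; split_ifs <;> ring
  | tmul r s =>
    rw [LinearMap.lTensor_tmul]
    have h1 : ((LinearMap.proj l : (Fin n → R ⊗[B] R) →ₗ[B] R ⊗[B] R) ∘ₗ D.defect ∘ₗ
        LinearMap.single B (fun _ => R) i) s =
        D.c (ι₂ B R) (ι₁ B R) l i * (s ⊗ₜ 1) - if l = i then 1 ⊗ₜ s else 0 := by
      change (D.defect (Pi.single i s)) l = _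
      change ((D.c (ι₂ B R) (ι₁ B R)).mulVec (ι₁ B R ∘ Pi.single i s) -
        ι₂ B R ∘ Pi.single i s) l = _
      rw [Pi.sub_apply]
      congr 1
      · rw [Matrix.mulVec, dotProduct, Finset.sum_eq_single i]
        · simp
        · intro j _ hj
          simp [hj]
        · simp
      · simp only [Function.comp_apply, Pi.single_apply]
        split_ifs <;> simp
    rw [h1, tmul_sub]
    congr 1
    · generalize D.c (ι₂ B R) (ι₁ B R) l i = u
      simp [i23, i12]
    · split_ifs <;> simp [i13]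

lemma eq_zero_of_proj {B R P : Type u} [CommRing B] [CommRing R] [Algebra B R] [AddCommGroup P] [Module B P]
    (z : R ⊗[B] (Fin n → P))
    (h : ∀ l, (LinearMap.proj l : (Fin n → P) →ₗ[B] P).lTensor R z = 0) : z = 0 := by
  apply (TensorProduct.piRight B B R (fun _ : Fin n => P)).injective
  rw [map_zero]
  ext l
  rw [Pi.zero_apply, ← h l]
  clear h
  induction z with
  | zero => simp
  | add x y hx hy => rw [map_add, Pi.add_apply, hx, hy, map_add]
  | tmul r w => simp

lemma defect_col (j : Fin n) : D.defect.lTensor R (D.col j) = 0 := by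
  apply eq_zero_of_proj
  intro l
  rw [col, map_sum, map_sum]
  have h1 : ∀ i, (LinearMap.proj l : (Fin n → R ⊗[B] R) →ₗ[B] R ⊗[B] R).lTensor R
      (D.defect.lTensor R ((LinearMap.single B (fun _ => R) i).lTensor R
        (D.c (ι₂ B R) (ι₁ B R) i j))) =
      i23 B R (D.c (ι₂ B R) (ι₁ B R) l i) * i12 B R (D.c (ι₂ B R) (ι₁ B R) i j) -
        if l = i then i13 B R (D.c (ι₂ B R) (ι₁ B R) i j) else 0 := by
    intro i
    rw [← proj_defect_single, ← LinearMap.lTensor_comp_apply, ← LinearMap.lTensor_comp_apply,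
      LinearMap.comp_assoc]
  simp only [h1, Finset.sum_sub_distrib, Finset.sum_ite_eq, Finset.mem_univ, if_true]
  rw [sub_eq_zero]
  have e1 := D.c_map (i23 B R) (ι₂ B R) (ι₁ B R)
  have e2 := D.c_map (i12 B R) (ι₂ B R) (ι₁ B R)
  have e3 := D.c_map (i13 B R) (ι₂ B R) (ι₁ B R)
  have f1 : (i23 B R).comp (ι₁ B R) = (i12 B R).comp (ι₂ B R) := by
    ext x; simp [i23, i12, ι₁, ι₂]
  have f2 : (i12 B R).comp (ι₁ B R) = (i13 B R).comp (ι₁ B R) := by
    ext x; simp [i13, i12, ι₁, Algebra.TensorProduct.one_def]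
  have f3 : (i23 B R).comp (ι₂ B R) = (i13 B R).comp (ι₂ B R) := by
    ext x; simp [i13, i23, ι₂]
  have e4 := D.c_mul ((i23 B R).comp (ι₂ B R)) ((i23 B R).comp (ι₁ B R))
    ((i12 B R).comp (ι₁ B R))
  rw [← e1, f1, f2, f3, ← e3, ← f2, ← e2] at e4
  have e5 := congrFun (congrFun e4 l) j
  rw [Matrix.mul_apply] at e5
  exact e5

lemma mem_span_of_single (j : Fin n) [Module.Flat B R] :
    (Pi.single j 1 : Fin n → R) ∈ Submodule.span R {v : Fin n → R | D.IsCoinv v} := by
  have hex : Function.Exact ((LinearMap.ker D.defect).subtype.lTensor R)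
      (D.defect.lTensor R) := by
    apply Module.Flat.lTensor_exact
    exact LinearMap.exact_subtype_ker_map D.defect
  obtain ⟨t, ht⟩ := (hex (D.col j)).mp (D.defect_col j)
  -- the multiplication map
  let μ : R ⊗[B] (Fin n → R) →ₗ[B] (Fin n → R) :=
    TensorProduct.lift ((LinearMap.lsmul R (Fin n → R)).restrictScalars₁₂ B B)
  have hμ : ∀ (r : R) (v : Fin n → R), μ (r ⊗ₜ v) = r • v := fun r v => rfl
  have h1 : μ (D.col j) = Pi.single j 1 := by
    have h2 : ∀ i (x : R ⊗[B] R), μ ((LinearMap.single B (fun _ => R) i).lTensor R x) =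
        Pi.single i (Algebra.TensorProduct.lmul' B (S := R) x) := by
      intro i x
      induction x with
      | zero => simp
      | add x y hx hy => rw [map_add, map_add, hx, hy, map_add, Pi.single_add]
      | tmul r s =>
        rw [LinearMap.lTensor_tmul, hμ, Algebra.TensorProduct.lmul'_apply_tmul]
        ext l
        simp [Pi.single_apply]
    rw [col, map_sum]
    simp only [h2]
    have h3 := D.c_map (Algebra.TensorProduct.lmul' B (S := R)) (ι₂ B R) (ι₁ B R)
    have h4 : (Algebra.TensorProduct.lmul' B (S := R)).comp (ι₂ B R) =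
        (Algebra.TensorProduct.lmul' B (S := R)).comp (ι₁ B R) := by
      ext x; simp
    rw [h4, D.c_self] at h3
    have h5 : ∀ i, Algebra.TensorProduct.lmul' B (S := R) (D.c (ι₂ B R) (ι₁ B R) i j) =
        (1 : Matrix (Fin n) (Fin n) R) i j := fun i => congrFun (congrFun h3 i) j
    simp only [h5]
    ext l
    rw [Finset.sum_apply, Finset.sum_eq_single l]
    · simp [Matrix.one_apply, Pi.single_apply]
    · intro i _ hi
      simp [hi.symm]
    · simp
  rw [← h1, ← ht]
  clear ht h1
  induction t with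
  | zero => simp
  | add x y hx hy =>
    rw [map_add, map_add]
    exact Submodule.add_mem _ hx hy
  | tmul r v =>
    rw [LinearMap.lTensor_tmul, hμ]
    exact Submodule.smul_mem _ _ (Submodule.subset_span ((D.mem_ker_defect _).1 v.2))

theorem span_eq_top [Module.Flat B R] : Submodule.span R {v : Fin n → R | D.IsCoinv v} = ⊤ := by
  rw [eq_top_iff]
  intro v _
  have h1 : v = ∑ j, v j • (Pi.single j 1 : Fin n → R) := by
    ext l
    simp [Finset.sum_apply, Pi.single_apply]
  rw [h1]
  exact Submodule.sum_mem _ fun j _ => Submodule.smul_mem _ _ (D.mem_span_of_single j)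

/-- `M` is a coinvariant matrix. -/
def IsCoinvMat (M : Matrix (Fin n) (Fin n) R) : Prop :=
  ∀ (C : Type u) [CommRing C] [Algebra k C] [Algebra B C] [IsScalarTower k B C]
    (α β : R →ₐ[B] C),
    D.c α β * M.map β = M.map α

theorem exists_matrix_det [Module.Flat B R] (q : Ideal R) [hq : q.IsPrime] :
    ∃ M : Matrix (Fin n) (Fin n) R, D.IsCoinvMat M ∧ M.det ∉ q := by
  by_contra hcon
  push Not at hcon
  -- matrices whose transposes have coinvariant rows outside `S`
  have key : ∀ (S : Finset (Fin n)) (w : Fin n → Fin n → R), (∀ i ∉ S, D.IsCoinv (w i)) →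
      Matrix.detRowAlternating w ∈ q := by
    intro S
    induction S using Finset.induction_on with
    | empty =>
      intro w hw
      have h1 : D.IsCoinvMat (Matrix.of w).transpose := by
        intro C _ _ _ _ α β
        ext i j
        have h2 := congrFun (hw j (Finset.notMem_empty j) C α β) i
        rw [Matrix.mul_apply]
        exact h2
      have h3 := hcon _ h1
      rwa [Matrix.det_transpose] at h3
    | insert i S hi ih =>
      intro w hw
      let f : (Fin n → R) →ₗ[R] R :=
        (Matrix.detRowAlternating (n := Fin n) (R := R)).toMultilinearMap.toLinearMap w i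
      have hf : ∀ v, f v = Matrix.detRowAlternating (Function.update w i v) := fun v => rfl
      have h1 : Submodule.span R {v : Fin n → R | D.IsCoinv v} ≤ Submodule.comap f q := by
        rw [Submodule.span_le]
        intro v hv
        change f v ∈ q
        rw [hf]
        apply ih
        intro j hj
        by_cases hji : j = i
        · subst hji
          rw [Function.update_self]
          exact hv
        · rw [Function.update_of_ne hji]
          exact hw j (by simp [hji, hj])
      rw [span_eq_top] at h1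
      have h2 : f (w i) ∈ q := h1 (Submodule.mem_top : w i ∈ _)
      rw [hf, Function.update_eq_self] at h2
      exact h2
  have h1 := key Finset.univ (1 : Matrix (Fin n) (Fin n) R) (by simp)
  apply hq.ne_top
  rw [Ideal.eq_top_iff_one]
  have h2 : Matrix.detRowAlternating (1 : Matrix (Fin n) (Fin n) R) = (1 : R) := Matrix.det_one
  rwa [h2] at h1

omit [Algebra k R] [IsScalarTower k B R] in
lemma isUnit_det_c {C : Type u} [CommRing C] [Algebra k C] [Algebra B C] [IsScalarTower k B C]
    (α β : R →ₐ[B] C) :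
    IsUnit (D.c α β).det := by
  have h1 : (D.c α β).det * (D.c β α).det = 1 := by
    rw [← Matrix.det_mul, D.c_mul, D.c_self, Matrix.det_one]
  exact IsUnit.of_mul_eq_one _ h1

theorem exists_trivialisation [Module.Flat B R]
    (hsurj : Function.Surjective (PrimeSpectrum.comap (algebraMap B R))) (p : PrimeSpectrum B) :
    ∃ b ∉ p.asIdeal, ∃ M : Matrix (Fin n) (Fin n) R, D.IsCoinvMat M ∧
      ∃ (m : ℕ) (r : R), M.det * r = algebraMap B R b ^ m := by
  obtain ⟨q, hq⟩ := hsurj p
  obtain ⟨M, hM, hMq⟩ := D.exists_matrix_det q.asIdeal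
  set d := M.det with hd
  have hmem : ∀ q₁ q₂ : PrimeSpectrum R,
      PrimeSpectrum.comap (algebraMap B R) q₁ = PrimeSpectrum.comap (algebraMap B R) q₂ →
      (d ∈ q₁.asIdeal ↔ d ∈ q₂.asIdeal) := by
    refine mem_iff_mem (D.c (ι₂ B R) (ι₁ B R)).det (D.isUnit_det_c _ _) d ?_
    have h1 := congrArg Matrix.det (hM _ (ι₂ B R) (ι₁ B R))
    rw [Matrix.det_mul] at h1
    have h2 : (M.map (ι₁ B R)).det = ι₁ B R d := (RingHom.map_det (ι₁ B R).toRingHom M).symm
    have h3 : (M.map (ι₂ B R)).det = ι₂ B R d := (RingHom.map_det (ι₂ B R).toRingHom M).symm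
    rw [h2, h3] at h1
    exact h1
  let f : PrimeSpectrum R → PrimeSpectrum B := PrimeSpectrum.comap (algebraMap B R)
  let U : Set (PrimeSpectrum B) := {p | ∀ q, f q = p → d ∉ q.asIdeal}
  have hU : f ⁻¹' U = PrimeSpectrum.basicOpen d := by
    ext q'
    constructor
    · intro h
      exact h q' rfl
    · intro h q₂ h2 h3
      exact h ((hmem q₂ q' h2).1 h3)
  have hUo : IsOpen U := by
    have hfl : (algebraMap B R).Flat := RingHom.flat_algebraMap_iff.2 inferInstance
    have hsp : AlgebraicGeometry.Flat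
        (AlgebraicGeometry.Spec.map (CommRingCat.ofHom (algebraMap B R))) :=
      AlgebraicGeometry.Flat.SpecMap_iff.2 hfl
    have hss : AlgebraicGeometry.Surjective
        (AlgebraicGeometry.Spec.map (CommRingCat.ofHom (algebraMap B R))) := ⟨hsurj⟩
    have hqm := AlgebraicGeometry.Flat.isQuotientMap_of_surjective
      (AlgebraicGeometry.Spec.map (CommRingCat.ofHom (algebraMap B R)))
    have h1 : IsOpen (f ⁻¹' U) := by
      rw [hU]
      exact (PrimeSpectrum.basicOpen d).2
    exact hqm.isOpen_preimage.1 h1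
  have hpU : p ∈ U := by
    intro q' hq' h
    exact hMq ((hmem q q' (hq.trans hq'.symm)).2 h)
  obtain ⟨_, ⟨b, rfl⟩, hpb, hbU⟩ :=
    PrimeSpectrum.isTopologicalBasis_basic_opens.exists_subset_of_mem_open hpU hUo
  refine ⟨b, hpb, M, hM, ?_⟩
  have h1 : algebraMap B R b ∈ (Ideal.span {d}).radical := by
    rw [Ideal.radical_eq_sInf, Ideal.mem_sInf]
    rintro P ⟨hP1, hP2⟩
    by_contra hb
    have h2 : f ⟨P, hP2⟩ ∈ U := hbU hb
    exact h2 ⟨P, hP2⟩ rfl (hP1 (Ideal.mem_span_singleton_self d))
  obtain ⟨m, hm⟩ := h1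
  obtain ⟨r, hr⟩ := Ideal.mem_span_singleton'.1 hm
  exact ⟨m, r, by rw [← hr, mul_comm]⟩

end MatCoc

end K690.Coinv
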