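import Groth.Agent.GIT.K690.GLnEmb
import Groth.Agent.S18976

/-!
# Torsors under tori and under the additive group are Zariski locally trivial

`HasEqM ρ j`: over `j : V ⟶ Y` the torsor has a morphism to `GL_n` equivariant for the matrix
representation `ρ`.
-/

set_option autoImplicit false

universe u

open CategoryTheory CategoryTheory.Limits MonoidalCategory CartesianMonoidalCategory MonObj
  AlgebraicGeometry

namespace K690.EqNear

open K690.LocSec K690.Torsor K690.TorsorTower K690.EqMat K690.GLnRep K690.Chart CoactBr AlgGrp.Action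

variable {k : Type u} [Field k] {G X Y : Over (Spec (CommRingCat.of k))} [GrpObj G]

/-- Special groups: torsors are Zariski locally trivial. -/
def Special (H : Over (Spec (CommRingCat.of k))) [GrpObj H] : Prop :=
  ∀ (X Y : Over (Spec (CommRingCat.of k))) (b : AlgGrp.Action H X) (ψ : X ⟶ Y),
      IsPullback b.act (snd H X) ψ ψ →
      NonAbH1.IsLocallyTrivialFor Scheme.fpqcPrecoverage (Over.mk ψ.left : Over Y.left) →
      NonAbH1.IsLocallyTrivialFor Scheme.zariskiPrecoverage (Over.mk ψ.left : Over Y.left)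

/-- Special groups from sections near each point. -/
lemma isLocallyTrivialFor_of_near {φ : X ⟶ Y}
    (h : ∀ y : Y.left, ∃ (V : Over (Spec (CommRingCat.of k))) (j : V ⟶ Y) (s : V ⟶ X),
      IsOpenImmersion j.left ∧ y ∈ Set.range j.left ∧ s ≫ φ = j) :
    NonAbH1.IsLocallyTrivialFor Scheme.zariskiPrecoverage (Over.mk φ.left : Over Y.left) := by
  choose V j s hj hy hs using h
  refine ⟨Presieve.ofArrows (fun y => (V y).left) (fun y => (j y).left), ?_, ?_⟩
  · rw [Scheme.zariskiPrecoverage, Scheme.ofArrows_mem_precoverage_iff]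
    exact ⟨fun y => ⟨y, hy y⟩, fun y => hj y⟩
  · rintro S' f ⟨y⟩
    exact ⟨(s y).left, by
      rw [← hs y]
      rfl⟩

section

variable (a : AlgGrp.Action G X) (φ : X ⟶ Y)

/-- Over `j` the torsor has a morphism to `GL_n` equivariant for `ρ`. -/
def HasEqM {n : ℕ} (ρ : MatRep k G n) {V : Over (Spec (CommRingCat.of k))} (j : V ⟶ Y) : Prop :=
  ∃ N : pullback φ j ⟶ sp k (CoordGrp.GLn n k),
    ∀ (C : Type u) [CommRing C] [Algebra k C] (x x' : sp k C ⟶ pullback φ j) (g : sp k C ⟶ G),
      lift g (x' ≫ pullback.fst φ j) ≫ a.act = x ≫ pullback.fst φ j →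
        ρ.c g * mat (x' ≫ N) = mat (x ≫ N)

variable {a φ}

lemma HasEqM.comp {n : ℕ} {ρ : MatRep k G n} {V V' : Over (Spec (CommRingCat.of k))} {j : V ⟶ Y}
    (h : HasEqM a φ ρ j) (v : V' ⟶ V) : HasEqM a φ ρ (v ≫ j) := by
  obtain ⟨N, hN⟩ := h
  let t : pullback φ (v ≫ j) ⟶ pullback φ j :=
    pullback.lift (pullback.fst φ (v ≫ j)) (pullback.snd φ (v ≫ j) ≫ v) (by
      rw [pullback.condition, Category.assoc])
  have ht : t ≫ pullback.fst φ j = pullback.fst φ (v ≫ j) := pullback.lift_fst _ _ _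
  refine ⟨t ≫ N, ?_⟩
  intro C _ _ x x' g hg
  have h1 := hN C (x ≫ t) (x' ≫ t) g (by
    rw [Category.assoc, Category.assoc, ht]
    exact hg)
  rw [← Category.assoc, ← Category.assoc]
  exact h1

lemma HasEqM.of_isPullback {n : ℕ} {ρ : MatRep k G n} {R V : Over (Spec (CommRingCat.of k))}
    {j : V ⟶ Y} {jX : R ⟶ X} {β : R ⟶ V} (hpb : IsPullback jX β φ j)
    (N : R ⟶ sp k (CoordGrp.GLn n k))
    (hN : ∀ (C : Type u) [CommRing C] [Algebra k C] (x x' : sp k C ⟶ R) (g : sp k C ⟶ G),
      lift g (x' ≫ jX) ≫ a.act = x ≫ jX → ρ.c g * mat (x' ≫ N) = mat (x ≫ N)) :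
    HasEqM a φ ρ j := by
  let t : pullback φ j ⟶ R := hpb.lift (pullback.fst φ j) (pullback.snd φ j) pullback.condition
  have ht : t ≫ jX = pullback.fst φ j := hpb.lift_fst _ _ _
  refine ⟨t ≫ N, ?_⟩
  intro C _ _ x x' g hg
  have h1 := hN C (x ≫ t) (x' ≫ t) g (by
    rw [Category.assoc, Category.assoc, ht]
    exact hg)
  rw [← Category.assoc, ← Category.assoc]
  exact h1

/-- Existence near each point. -/
theorem exists_near (hcart : IsPullback a.act (snd G X) φ φ) {n : ℕ} (ρ : MatRep k G n)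
    [IsAffineHom φ.left] [Flat φ.left] [Surjective φ.left] (y : Y.left) :
    ∃ (V : Over (Spec (CommRingCat.of k))) (j : V ⟶ Y),
      IsOpenImmersion j.left ∧ y ∈ Set.range j.left ∧ HasEqM a φ ρ j := by
  obtain ⟨B, _, _, R, _, _, β, j, jX, M, hj, hy, hpb, hM, heq⟩ := exists_equivMat hcart ρ y
  obtain ⟨N, hN⟩ := exists_mat (k := k) hM
  refine ⟨sp k B, j, hj, hy, HasEqM.of_isPullback hpb N ?_⟩
  intro C _ _ x x' g hg
  obtain ⟨z, rfl⟩ := exists_pt x
  obtain ⟨z', rfl⟩ := exists_pt x'
  rw [mat_comp, mat_comp, hN]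
  exact heq C g z z' hg

/-- Existence near each point for a finite family of representations. -/
theorem exists_near_family (hcart : IsPullback a.act (snd G X) φ φ) {r : ℕ} (n : Fin r → ℕ)
    (ρ : ∀ i, MatRep k G (n i))
    [IsAffineHom φ.left] [Flat φ.left] [Surjective φ.left] (y : Y.left) :
    ∃ (V : Over (Spec (CommRingCat.of k))) (j : V ⟶ Y),
      IsOpenImmersion j.left ∧ y ∈ Set.range j.left ∧ ∀ i, HasEqM a φ (ρ i) j := by
  induction r with
  | zero =>
    exact ⟨Y, 𝟙 Y, inferInstanceAs (IsOpenImmersion (𝟙 Y.left)), ⟨y, rfl⟩, fun i => i.elim0⟩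
  | succ r ih =>
    obtain ⟨V₁, j₁, hj₁, hy₁, h₁⟩ := ih (fun i => n i.castSucc) (fun i => ρ i.castSucc)
    obtain ⟨V₂, j₂, hj₂, hy₂, h₂⟩ := exists_near hcart (ρ (Fin.last r)) y
    have hpb := (IsPullback.of_hasPullback j₁ j₂).map (Over.forget _)
    have hfst : IsOpenImmersion (pullback.fst j₁ j₂).left :=
      MorphismProperty.of_isPullback (P := @IsOpenImmersion) hpb.flip hj₂
    refine ⟨pullback j₁ j₂, pullback.fst j₁ j₂ ≫ j₁, ?_, ?_, ?_⟩
    · rw [Over.comp_left]
      infer_instance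
    · obtain ⟨y₁, rfl⟩ := hy₁
      obtain ⟨y₂, hy₂⟩ := hy₂
      obtain ⟨z, hz, -⟩ := Scheme.exists_preimage_of_isPullback hpb y₁ y₂ hy₂.symm
      exact ⟨z, by
        rw [Over.comp_left, Scheme.Hom.comp_apply]
        exact congrArg j₁.left hz⟩
    · intro i
      refine Fin.lastCases ?_ (fun i => ?_) i
      · rw [pullback.condition]
        exact h₂.comp _
      · exact (h₁ i).comp _

/-- Restriction to affine neighbourhoods. -/
lemma exists_affine_near {P : ∀ {V : Over (Spec (CommRingCat.of k))}, (V ⟶ Y) → Prop}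
    (hP : ∀ {V V' : Over (Spec (CommRingCat.of k))} (j : V ⟶ Y) (v : V' ⟶ V), P j → P (v ≫ j))
    {y : Y.left}
    (h : ∃ (V : Over (Spec (CommRingCat.of k))) (j : V ⟶ Y),
      IsOpenImmersion j.left ∧ y ∈ Set.range j.left ∧ P j) :
    ∃ (B : Type u) (_ : CommRing B) (_ : Algebra k B) (j : sp k B ⟶ Y),
      IsOpenImmersion j.left ∧ y ∈ Set.range j.left ∧ P j := by
  obtain ⟨V, j, hj, ⟨z, rfl⟩, h⟩ := h
  obtain ⟨B, _, _, v, hv, hz⟩ := exists_nbhd V z
  refine ⟨B, inferInstance, inferInstance, v ≫ j, ?_, ?_, hP j v h⟩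
  · rw [Over.comp_left]
    infer_instance
  · obtain ⟨w, rfl⟩ := hz
    exact ⟨w, rfl⟩

/-- A section from an equivariant morphism to the group. -/
theorem exists_section_of_equiv (hcart : IsPullback a.act (snd G X) φ φ) (hφ : LS φ.left)
    {V : Over (Spec (CommRingCat.of k))} (j : V ⟶ Y) (N : pullback φ j ⟶ G)
    (hN : ∀ (C : Type u) [CommRing C] [Algebra k C] (x x' : sp k C ⟶ pullback φ j)
      (g : sp k C ⟶ G), lift g (x' ≫ pullback.fst φ j) ≫ a.act = x ≫ pullback.fst φ j →
        g * (x' ≫ N) = x ≫ N) :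
    ∃ s : V ⟶ X, s ≫ φ = j := by
  have hLS : LS (pullback.snd φ j).left :=
    LS.of_isPullback (((IsPullback.of_hasPullback φ j).map (Over.forget _))) hφ
  let s' : pullback φ j ⟶ X := lift N⁻¹ (pullback.fst φ j) ≫ a.act
  have hs' : ∀ (T : Over (Spec (CommRingCat.of k))) (a₁ a₂ : T ⟶ pullback φ j),
      a₁ ≫ pullback.snd φ j = a₂ ≫ pullback.snd φ j → a₁ ≫ s' = a₂ ≫ s' := by
    intro T a₁ a₂ h
    apply hom_ext_sp
    intro C _ _ t
    have h1 : ((t ≫ a₁) ≫ pullback.fst φ j) ≫ φ = ((t ≫ a₂) ≫ pullback.fst φ j) ≫ φ := by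
      rw [Category.assoc, Category.assoc, Category.assoc, Category.assoc, pullback.condition,
        ← Category.assoc a₁, ← Category.assoc a₂, h]
    obtain ⟨g, hg, -⟩ := ((isPullback_act_iff a φ).1 hcart).2 _ _ _ h1
    have h2 := hN C (t ≫ a₁) (t ≫ a₂) g hg
    change t ≫ a₁ ≫ lift N⁻¹ (pullback.fst φ j) ≫ a.act =
      t ≫ a₂ ≫ lift N⁻¹ (pullback.fst φ j) ≫ a.act
    rw [← Category.assoc t a₁, ← Category.assoc t a₂, comp_lift_assoc, comp_lift_assoc,
      GrpObj.comp_inv, GrpObj.comp_inv, ← hg]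
    rw [← lift_mul_act, ← h2, _root_.mul_inv_rev, _root_.mul_assoc, inv_mul_cancel, _root_.mul_one]
  obtain ⟨s, hs⟩ := exists_desc (pullback.snd φ j) hLS s' hs'
  refine ⟨s, ?_⟩
  have := epi_of_ls (pullback.snd φ j) hLS
  rw [← cancel_epi (pullback.snd φ j), ← Category.assoc, hs, ← pullback.condition]
  exact invariant_pt hcart.w _ _

/-- The matrix representation of rank one of a group-like element. -/
noncomputable def glRep {A : Type u} [CommRing A] [HopfAlgebra k A] {b : A}
    (hb : IsGroupLikeElem k b) : MatRep k (sp k A) 1 where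
  c g := Matrix.of fun _ _ => alg g b
  c_map γ g := by
    ext i j
    change γ (alg g b) = alg (pt γ ≫ g) b
    rw [alg_comp]
    rfl
  c_one {C} _ _ := by
    ext i j
    obtain rfl : i = j := Subsingleton.elim _ _
    rw [Matrix.one_apply_eq]
    change alg (1 : sp k C ⟶ sp k A) b = 1
    rw [alg_one, AlgHom.comp_apply]
    change algebraMap k C (CoalgebraStruct.counit (R := k) b) = 1
    rw [hb.counit_eq_one, map_one]
  c_mul g h := by
    ext i j
    rw [Matrix.mul_apply]
    change alg (g * h) b = ∑ l : Fin 1, alg g b * alg h b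
    rw [Finset.sum_const, Finset.card_univ, Fintype.card_fin, one_smul, alg_mul, AlgHom.comp_apply]
    change Algebra.TensorProduct.lift (alg g) (alg h) _
      (CoalgebraStruct.comul (R := k) b) = _
    rw [hb.comul_eq_tmul_self]
    simp

/-- Split tori are special. -/
theorem special_of_groupLike {A : Type u} [CommRing A] [HopfAlgebra k A] {r : ℕ} (b : Fin r → A)
    (hb : ∀ i, IsGroupLikeElem k (b i))
    (hex : ∀ (C : Type u) [CommRing C] [Algebra k C] (u : Fin r → Cˣ), ∃ f : A →ₐ[k] C,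
      ∀ i, f (b i) = u i)
    (hext : ∀ (C : Type u) [CommRing C] [Algebra k C] (f f' : A →ₐ[k] C),
      (∀ i, f (b i) = f' (b i)) → f = f') : Special (sp k A) := by
  intro X Y a φ hcart hloc
  have hG : IsAffineHom (sp k A).hom :=
    inferInstanceAs (IsAffineHom (Spec.map (CommRingCat.ofHom (algebraMap k A))))
  have hGf : Flat (sp k A).hom := by
    change Flat (Spec.map (CommRingCat.ofHom (algebraMap k A)))
    rw [Flat.SpecMap_iff]
    exact RingHom.flat_algebraMap_iff.2 inferInstance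
  have h1 : IsAffineHom φ.left := K690.GeomQuot.prop_of_torsor @IsAffineHom hcart hloc hG
  have := Groth.Agent.S18976.flat_descends
  have h2 : Flat φ.left := K690.GeomQuot.prop_of_torsor @Flat hcart hloc hGf
  have h3 : Surjective φ.left := LS.surjective hloc
  refine isLocallyTrivialFor_of_near fun y => ?_
  obtain ⟨B, _, _, j, hj, hy, h⟩ := exists_affine_near
    (P := fun {V} j => ∀ i, HasEqM a φ (glRep (hb i)) j) (fun j v h i => (h i).comp v)
    (exists_near_family hcart (fun _ => 1) (fun i => glRep (hb i)) y)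
  have haff : IsAffine (pullback φ j).left := by
    have h4 := (IsPullback.of_hasPullback φ j).map (Over.forget _)
    have h5 : IsAffineHom (pullback.snd φ j).left :=
      MorphismProperty.of_isPullback (P := @IsAffineHom) h4 h1
    have h6 : IsAffine (sp k B).left := inferInstanceAs (IsAffine (Spec (CommRingCat.of B)))
    exact isAffine_of_isAffineHom (pullback.snd φ j).left
  obtain ⟨R, _, _, ⟨e₀⟩⟩ := exists_iso_sp (pullback φ j)
  obtain ⟨e, -⟩ : ∃ e : pullback φ j ≅ sp k R, True := ⟨e₀.symm, trivial⟩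
  choose N hN using h
  -- the units
  let M : ∀ i, Matrix (Fin 1) (Fin 1) R := fun i => mat (e.inv ≫ N i)
  have hM : ∀ i, IsUnit (M i 0 0) := by
    intro i
    have h7 : mat ((e.inv ≫ N i)⁻¹) * M i = 1 := by
      rw [← mat_mul, inv_mul_cancel, mat_one]
    have h8 := congrFun (congrFun h7 0) 0
    rw [Matrix.mul_apply] at h8
    simp only [Finset.univ_unique, Fin.default_eq_zero, Finset.sum_singleton,
      Matrix.one_apply_eq] at h8
    exact IsUnit.of_mul_eq_one_right _ h8
  obtain ⟨f, hf⟩ := hex R (fun i => (hM i).unit)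
  obtain ⟨s, hs⟩ := exists_section_of_equiv hcart hloc j (e.hom ≫ pt f) (by
    intro C _ _ x x' g hg
    obtain ⟨z, hz⟩ := exists_pt (x ≫ e.hom)
    obtain ⟨z', hz'⟩ := exists_pt (x' ≫ e.hom)
    rw [← Category.assoc, ← Category.assoc, ← hz, ← hz']
    have hx : x = pt z ≫ e.inv := by rw [hz, Category.assoc, e.hom_inv_id, Category.comp_id]
    have hx' : x' = pt z' ≫ e.inv := by rw [hz', Category.assoc, e.hom_inv_id, Category.comp_id]
    rw [← pt_alg (g * pt z' ≫ pt f), ← pt_alg (pt z ≫ pt f)]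
    congr 1
    apply hext
    intro i
    have h9 := hN i C x x' g hg
    have h10 : mat (x ≫ N i) = (M i).map z := by
      rw [hx, Category.assoc, mat_comp]
    have h11 : mat (x' ≫ N i) = (M i).map z' := by
      rw [hx', Category.assoc, mat_comp]
    rw [h10, h11] at h9
    have h12 := congrFun (congrFun h9 0) 0
    rw [Matrix.mul_apply] at h12
    simp only [Finset.univ_unique, Fin.default_eq_zero, Finset.sum_singleton,
      Matrix.map_apply] at h12
    have h13 : alg (g * pt z' ≫ pt f) (b i) = alg g (b i) * alg (pt z' ≫ pt f) (b i) := by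
      rw [alg_mul, AlgHom.comp_apply]
      change Algebra.TensorProduct.lift (alg g) (alg (pt z' ≫ pt f)) _
        (CoalgebraStruct.comul (R := k) (b i)) = _
      rw [(hb i).comul_eq_tmul_self]
      simp
    rw [h13, alg_comp, alg_comp, alg_pt, AlgHom.comp_apply, AlgHom.comp_apply, hf]
    exact h12)
  exact ⟨_, j, s, hj, hy, hs⟩

end

end K690.EqNear
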