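import Groth.Agent.GIT.K690.GLnRep
import Groth.Agent.GIT.K690.NormalTors

/-!
# Sections of torsors from equivariant maps to a group

`H` a group with a homomorphism `i : G ⟶ H` and a right torsor `o : H ⟶ Q` under `G` (through `i`).
Let `φ : X ⟶ Y` be a `G`-torsor with a chart `R ⟶ B` and a morphism `N : R ⟶ H` with
`N (g x) i(g) = N x`.  Then `N ≫ o` descends to `q : B ⟶ Q` and every point of `B` whose image in `Q`
lifts to `H` lifts to `X`.
-/

set_option autoImplicit false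

universe u

open CategoryTheory CategoryTheory.Limits MonoidalCategory CartesianMonoidalCategory MonObj
  AlgebraicGeometry

namespace K690.EqSec

open K690.LocSec K690.Torsor K690.TorsorTower AlgGrp.Action

variable {S : Scheme.{u}} {G H Q X Y R B : Over S} [GrpObj G] [GrpObj H]
  {i : G ⟶ H} [IsMonHom i] {o : H ⟶ Q}
  {a : AlgGrp.Action G X} {φ : X ⟶ Y} (hcart : IsPullback a.act (snd G X) φ φ)
  {jX : R ⟶ X} {β : R ⟶ B} {j : B ⟶ Y} (hpb : IsPullback jX β φ j)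
  (N : R ⟶ H)
  (hN : ∀ (T : Over S) (x x' : T ⟶ R) (g : T ⟶ G),
    lift g (x' ≫ jX) ≫ a.act = x ≫ jX → (x ≫ N) * (g ≫ i) = x' ≫ N)

include hcart hpb in
lemma exists_trans {T : Over S} (x x' : T ⟶ R) (h : x ≫ β = x' ≫ β) :
    ∃ g : T ⟶ G, lift g (x' ≫ jX) ≫ a.act = x ≫ jX := by
  have h1 : (x ≫ jX) ≫ φ = (x' ≫ jX) ≫ φ := by
    rw [Category.assoc, Category.assoc, hpb.w, ← Category.assoc, ← Category.assoc, h]
  obtain ⟨g, hg, -⟩ := ((isPullback_act_iff a φ).1 hcart).2 _ _ _ h1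
  exact ⟨g, hg⟩

omit [GrpObj G] in
lemma right_eq {i : G ⟶ H} {o : H ⟶ Q} (hw : fst H G ≫ o = ((H ◁ i) ≫ μ[H]) ≫ o)
    {T : Over S} (h : T ⟶ H) (g : T ⟶ G) :
    (h * (g ≫ i)) ≫ o = h ≫ o := by
  have h1 : lift h g ≫ fst H G ≫ o = lift h g ≫ ((H ◁ i) ≫ μ[H]) ≫ o := by rw [hw]
  rw [lift_fst_assoc, Category.assoc, lift_whiskerLeft_assoc, ← Category.assoc] at h1
  exact h1.symm

omit [IsMonHom i] in
include hcart hpb hN in
/-- The equivariant map descends. -/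
lemma exists_q (hw : fst H G ≫ o = ((H ◁ i) ≫ μ[H]) ≫ o) (hβ : LS β.left) :
    ∃ q : B ⟶ Q, β ≫ q = N ≫ o := by
  refine exists_desc β hβ (N ≫ o) fun T x x' h => ?_
  obtain ⟨g, hg⟩ := exists_trans hcart hpb x x' h
  have h1 := hN T x x' g hg
  rw [← Category.assoc, ← Category.assoc, ← h1, right_eq hw]

include hcart hpb hN in
/-- Sections from sections of the quotient map. -/
theorem exists_section (hR : IsPullback (fst H G) ((H ◁ i) ≫ μ[H]) o o) (hβ : LS β.left)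
    (q : B ⟶ Q) (hq : β ≫ q = N ≫ o) {T : Over S} (b : T ⟶ B) (γ : T ⟶ H)
    (hγ : γ ≫ o = b ≫ q) : ∃ σ : T ⟶ X, σ ≫ φ = b ≫ j := by
  obtain ⟨T', p, r, hp, hr⟩ := exists_local_lift hβ b
  have hru : ∀ {U : Over S} (h h' : U ⟶ H), h ≫ o = h' ≫ o → ∃ g : U ⟶ G, h * (g ≫ i) = h' := by
    intro U h h' e
    refine ⟨hR.lift h h' e ≫ snd H G, ?_⟩
    have h1 : hR.lift h h' e = lift h (hR.lift h h' e ≫ snd H G) := by
      apply CartesianMonoidalCategory.hom_ext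
      · rw [lift_fst, hR.lift_fst]
      · rw [lift_snd]
    have h2 := hR.lift_snd h h' e
    rw [h1, lift_whiskerLeft_assoc] at h2
    exact h2
  have hruu : ∀ {U : Over S} (h : U ⟶ H) (g g' : U ⟶ G), h * (g ≫ i) = h * (g' ≫ i) → g = g' := by
    intro U h g g' e
    have h1 : lift h g = lift h g' := by
      apply hR.hom_ext
      · rw [lift_fst, lift_fst]
      · rw [lift_whiskerLeft_assoc, lift_whiskerLeft_assoc]
        exact e
    have h2 : lift h g ≫ snd H G = lift h g' ≫ snd H G := by rw [h1]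
    rwa [lift_snd, lift_snd] at h2
  obtain ⟨h, hh⟩ := hru (r ≫ N) (p ≫ γ) (by
    rw [Category.assoc, ← hq, ← Category.assoc, hr, Category.assoc, Category.assoc, hγ])
  have hdesc : ∀ (U : Over S) (t₁ t₂ : U ⟶ T'), t₁ ≫ p = t₂ ≫ p →
      t₁ ≫ (lift h⁻¹ (r ≫ jX) ≫ a.act) = t₂ ≫ (lift h⁻¹ (r ≫ jX) ≫ a.act) := by
    intro U t₁ t₂ e
    obtain ⟨g, hg⟩ := exists_trans hcart hpb (t₁ ≫ r) (t₂ ≫ r) (by
      rw [Category.assoc, Category.assoc, hr, ← Category.assoc, ← Category.assoc, e])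
    have h1 := hN _ _ _ g hg
    have h2 : (t₁ ≫ r ≫ N) * (t₁ ≫ h ≫ i) = t₁ ≫ p ≫ γ := by
      rw [← comp_mul, hh]
    have h3 : (t₂ ≫ r ≫ N) * (t₂ ≫ h ≫ i) = t₂ ≫ p ≫ γ := by
      rw [← comp_mul, hh]
    have h4 : t₁ ≫ h = g * (t₂ ≫ h) := by
      apply hruu (t₁ ≫ r ≫ N)
      rw [mul_comp, ← _root_.mul_assoc, Category.assoc]
      rw [Category.assoc, Category.assoc] at h1
      rw [h1, h2, Category.assoc, h3, ← Category.assoc, e, Category.assoc]
    have h5 : (t₁ ≫ h)⁻¹ * g = (t₂ ≫ h)⁻¹ := by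
      rw [h4, _root_.mul_inv_rev, _root_.mul_assoc, inv_mul_cancel, _root_.mul_one]
    rw [comp_lift_assoc, comp_lift_assoc]
    have h6 : t₁ ≫ r ≫ jX = lift g (t₂ ≫ r ≫ jX) ≫ a.act := by
      rw [← Category.assoc, ← hg, Category.assoc]
    rw [h6, ← lift_mul_act]
    rw [GrpObj.comp_inv, GrpObj.comp_inv, h5]
  obtain ⟨σ, hσ⟩ := exists_desc p hp _ hdesc
  refine ⟨σ, ?_⟩
  have := epi_of_ls p hp
  rw [← cancel_epi p, ← Category.assoc, hσ, invariant_pt hcart.w, Category.assoc, hpb.w,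
    ← Category.assoc, hr, Category.assoc]

end K690.EqSec
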