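import Groth.Agent.GIT.K690.FreeQuot
import Groth.Agent.Books.AffBridge2

/-!
# Free actions of linearly reductive groups: affine geometric quotients are torsors
-/

set_option autoImplicit false
universe u
open CategoryTheory CategoryTheory.Limits MonoidalCategory CartesianMonoidalCategory MonObj
  AlgebraicGeometry Topology
open Groth.Agent.Books.BorelOrb Groth.Agent.Books.AffBridge K686 K686.Whisk K690.FreeQuot K690.AffAct

namespace K690.FreeMain

section FT

attribute [local instance] K951.Pts.algΓ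

theorem finiteType_algΓ {k : Type u} [Field k] (X : Over (Spec (CommRingCat.of k))) [IsAffine X.left]
    [LocallyOfFiniteType X.hom] : Algebra.FiniteType k Γ(X.left, ⊤) := by
  have h1 : RingHom.FiniteType X.hom.appTop.hom :=
    (HasRingHomProperty.iff_of_isAffine (P := @LocallyOfFiniteType)).1 inferInstance
  have h2 : RingHom.FiniteType (Scheme.ΓSpecIso (CommRingCat.of k)).inv.hom :=
    RingHom.FiniteType.of_surjective _
      (ConcreteCategory.bijective_of_isIso (Scheme.ΓSpecIso (CommRingCat.of k)).inv).2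
  exact RingHom.FiniteType.comp h1 h2

end FT

section Act

variable {S : Scheme.{u}} {G X X' : Over S} [GrpObj G] {a : AlgGrp.Action G X}
  {a' : AlgGrp.Action G X'} {pr : X' ⟶ X}

theorem orbitMap_comp (ha' : a'.act ≫ pr = (G ◁ pr) ≫ a.act) (x : 𝟙_ (Over S) ⟶ X') :
    a'.orbitMap x ≫ pr = a.orbitMap (x ≫ pr) := by
  have h1 : a'.orbitMap x = sm a' (𝟙 G) (toUnit G ≫ x) := by
    rw [← comp_orbitMap, Category.id_comp]
  have h2 : a.orbitMap (x ≫ pr) = sm a (𝟙 G) (toUnit G ≫ x ≫ pr) := by
    rw [← comp_orbitMap, Category.id_comp]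
  rw [h1, h2, sm, sm, Category.assoc, ha', ← Category.assoc, lift_whiskerLeft, Category.assoc]

end Act

variable {k : Type u} [Field k] [IsAlgClosed k]
    {G X Y : Over (Spec (CommRingCat.of k))} [GrpObj G] {C : Type u} [CommRing C] [HopfAlgebra k C]
    [Algebra.FiniteType k C] (e : SpecOver k C ≅ G) [IsMonHom e.hom]
    [LocallyOfFiniteType X.hom] [QuasiCompact X.hom]

include e in
/-- An affine geometric quotient of a free action of a linearly reductive group is a torsor. -/
theorem torsor_of_free (hG : HopfRep.IsLinearlyReductive k C) {a : AlgGrp.Action G X} {φ : X ⟶ Y}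
    (hq : GIT.IsGeomQuot a φ) [IsAffineHom φ.left]
    (hst : ∀ x : 𝟙_ (Over (Spec (CommRingCat.of k))) ⟶ X, IsIso (GLinSh.stabTo a x)) :
    IsPullback a.act (snd G X) φ φ ∧ Flat φ.left := by
  have hC : LocallyOfFiniteType (SpecOver k C).hom :=
    (Groth.Agent.Books.AffBridge2.locallyOfFiniteType_specOver_iff k C).2 inferInstance
  have hGft : LocallyOfFiniteType G.hom := by
    rw [← Over.w e.inv]
    infer_instance
  have hCaff : IsAffine (SpecOver k C).left := inferInstanceAs (IsAffine (Spec (CommRingCat.of C)))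
  have hGaff : IsAffine G.left := IsAffine.of_isIso e.inv.left
  have hGqc : QuasiCompact G.hom := inferInstance
  have hcl := Orbit.isClosedAction_of_orbit hq.inv hq.orbit
  have hfree : ∀ x : 𝟙_ (Over (Spec (CommRingCat.of k))) ⟶ X,
      IsClosedImmersion (a.orbitMap x).left := fun x => isClosedImmersion_orbitMap a x hcl (hst x)
  -- on affine opens of the base
  have key : ∀ W : Y.left.Opens, IsAffineOpen W →
      IsPullback (bcAct (isPullback_W φ W) a hq.inv).act (snd G _) (φW φ W) (φW φ W) ∧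
        Flat (φW φ W).left := by
    intro W hW
    have h1 : IsAffine (YW Y W).left := hW
    have h2 : IsAffine (YW X (φ.left ⁻¹ᵁ W)).left := hW.preimage φ.left
    have h3 : IsOpenImmersion (iW Y W).left := inferInstanceAs (IsOpenImmersion W.ι)
    have h4 : IsOpenImmersion (iW X (φ.left ⁻¹ᵁ W)).left :=
      inferInstanceAs (IsOpenImmersion (φ.left ⁻¹ᵁ W).ι)
    have h5 := isAffQuot_of_chart hq (isPullback_W φ W) (bcAct_pr (isPullback_W φ W) a hq.inv)
      (bcAct_inv _ _ _)
    have h6 : LocallyOfFiniteType (YW X (φ.left ⁻¹ᵁ W)).hom :=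
      inferInstanceAs (LocallyOfFiniteType ((φ.left ⁻¹ᵁ W).ι ≫ X.hom))
    refine isPullback_of_free _ e hG (finiteType_algΓ _) h5 fun x => ?_
    have h7 := hfree (x ≫ iW X (φ.left ⁻¹ᵁ W))
    rw [← orbitMap_comp (bcAct_pr (isPullback_W φ W) a hq.inv), Over.comp_left] at h7
    exact IsClosedImmersion.of_comp _ (iW X (φ.left ⁻¹ᵁ W)).left
  have hnb : ∀ y : Y.left, ∃ W : Y.left.Opens, IsAffineOpen W ∧ y ∈ W := by
    intro y
    obtain ⟨_, ⟨V₀, hV₀, rfl⟩, hyV, -⟩ :=
      Y.left.isBasis_affineOpens.exists_subset_of_mem_open (Set.mem_univ y) isOpen_univ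
    exact ⟨V₀, hV₀, hyV⟩
  constructor
  · refine isPullback_of_charts hq.inv fun y => ?_
    obtain ⟨W, hW, hy⟩ := hnb y
    refine ⟨_, _, bcAct (isPullback_W φ W) a hq.inv, φW φ W, iW X (φ.left ⁻¹ᵁ W), iW Y W,
      ⟨inferInstanceAs (IsOpenImmersion W.ι), isPullback_W φ W, bcAct_pr _ _ _⟩, ?_, (key W hW).1⟩
    change y ∈ Set.range W.ι
    rw [Scheme.Opens.range_ι]
    exact hy
  · refine IsZariskiLocalAtTarget.of_iSup_eq_top (P := @Flat) (fun W : Y.left.affineOpens => W.1)
      (iSup_affineOpens_eq_top Y.left) fun W => (key W.1 W.2).2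

end K690.FreeMain
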