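import Groth.Agent.GIT.K690.AffAct
import Groth.Agent.GIT.K690.NormalTors
import Groth.Agent.GIT.K686.LocQuot
import Groth.Agent.GIT.K686.OrbProper
import Groth.Agent.GIT.K686.Orbit
import Groth.Agent.GIT.K688.QuotLocal
import Groth.Agent.GIT.K690.Chart

/-!
# Geometric quotients of free actions, globally

* `isAffQuot_of_chart`: a geometric quotient restricts to affine quotients over affine charts;
* `isPullback_of_charts`: the action square is cartesian if it is so on charts;
* `isClosedImmersion_orbitMap`: the orbit map of a rational point with trivial stabiliser and closed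
  orbit is a closed immersion;
* `isIso_stabTo_of_isPullback`: stabilisers are trivial in a torsor.
-/

set_option autoImplicit false
universe u
open CategoryTheory CategoryTheory.Limits MonoidalCategory CartesianMonoidalCategory MonObj
  AlgebraicGeometry Topology
open Groth.Agent.GrpQ.H766.GeomQuotLocal Groth.Agent.Books.BorelOrb K686 K686.Whisk

namespace K690.FreeQuot

section Chart

variable {S : Scheme.{u}} {G X Y X' Y' : Over S} [GrpObj G] {a : AlgGrp.Action G X} {φ : X ⟶ Y}
  {pr : X' ⟶ X} {φ' : X' ⟶ Y'} {g : Y' ⟶ Y} {a' : AlgGrp.Action G X'}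

/-- A geometric quotient is an affine quotient on charts of the base. -/
theorem isAffQuot_of_chart (hq : GIT.IsGeomQuot a φ) [IsOpenImmersion g.left]
    (hp : IsPullback pr φ' φ g) (ha' : a'.act ≫ pr = (G ◁ pr) ≫ a.act)
    (hinv : GIT.IsInvariant a' φ') : IsAffQuot a' φ' := by
  have pbl : IsPullback pr.left φ'.left φ.left g.left := hp.map (Over.forget S)
  have hpr : IsOpenImmersion pr.left :=
    MorphismProperty.of_isPullback (P := @IsOpenImmersion) pbl.flip inferInstance
  let U : Y.left.Opens := g.left.opensRange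
  have hU : (⊤ : Y'.left.Opens) = g.left ⁻¹ᵁ U := (Scheme.Hom.preimage_opensRange g.left).symm
  have hV : pr.left.opensRange = φ.left ⁻¹ᵁ U := TopologicalSpace.Opens.ext (range_of_isPullback pbl)
  have hV' : (⊤ : X'.left.Opens) = pr.left ⁻¹ᵁ (φ.left ⁻¹ᵁ U) := by
    rw [← hV, Scheme.Hom.preimage_opensRange]
  have bg := appLE_bijective g.left U ⊤ le_rfl hU
  have bpr := appLE_bijective pr.left (φ.left ⁻¹ᵁ U) ⊤ hV.ge hV'
  have comm : ∀ s, pr.left.appLE (φ.left ⁻¹ᵁ U) ⊤ hV'.le (φ.left.app U s) =
      φ'.left.appTop (g.left.appLE U ⊤ hU.le s) := by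
    intro s
    have k1 := appLE_apply_appLE pr.left φ.left U (φ.left ⁻¹ᵁ U) ⊤ le_rfl hV'.le s
    have k2 := appLE_apply_appLE φ'.left g.left U ⊤ ⊤ hU.le le_top s
    have k3 := appLE_congr_hom pbl.w U ⊤ (le_trans hV'.le (pr.left.preimage_mono le_rfl)) s
    rw [Scheme.Hom.appLE_eq_app] at k1
    rw [IsLocQuot.appLE_top] at k2
    exact k1.trans (k3.trans k2.symm)
  refine ⟨hinv, ?_, ?_⟩
  · intro s' t' h
    obtain ⟨s, rfl⟩ := bg.2 s'
    obtain ⟨t, rfl⟩ := bg.2 t'
    rw [← comm, ← comm] at h
    rw [(hq.sections U).1 (bpr.1 h)]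
  · apply Set.Subset.antisymm
    · rintro _ ⟨s, rfl⟩
      exact IsAffQuot.inv_app hinv s
    · intro f' hf'
      obtain ⟨f, rfl⟩ := bpr.2 f'
      have hf : GIT.IsInvSection a φ U f := by
        let V := φ.left ⁻¹ᵁ U
        let O := a.act.left ⁻¹ᵁ V ⊓ (snd G X).left ⁻¹ᵁ V
        have w1 : a'.act.left ≫ pr.left = (G ◁ pr).left ≫ a.act.left :=
          congrArg (fun t => t.left) ha'
        have w2 : (snd G X').left ≫ pr.left = (G ◁ pr).left ≫ (snd G X).left :=
          congrArg (fun t => t.left) (whiskerLeft_snd G pr).symm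
        have pj := isPullback_whiskerLeft_left pr G
        have hj : IsOpenImmersion (G ◁ pr).left :=
          MorphismProperty.of_isPullback (P := @IsOpenImmersion) pj.flip inferInstance
        have e3 : (⊤ : (G ⊗ X').left.Opens) = (G ◁ pr).left ⁻¹ᵁ O := by
          symm
          rw [eq_top_iff]
          intro z _
          refine ⟨?_, ?_⟩
          · change ((G ◁ pr).left ≫ a.act.left) z ∈ V
            rw [← w1]
            change a'.act.left z ∈ pr.left ⁻¹ᵁ V
            rw [← hV']
            trivial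
          · change ((G ◁ pr).left ≫ (snd G X).left) z ∈ V
            rw [← w2]
            change (snd G X').left z ∈ pr.left ⁻¹ᵁ V
            rw [← hV']
            trivial
        have hOr : O ≤ (G ◁ pr).left.opensRange := by
          intro z hz
          have h1 : (snd G X).left z ∈ V := hz.2
          change z ∈ Set.range (G ◁ pr).left
          rw [range_of_isPullback pj]
          change (snd G X).left z ∈ pr.left.opensRange
          rw [hV]
          exact h1
        have bj := appLE_bijective (G ◁ pr).left O ⊤ hOr e3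
        apply bj.1
        have m1 := appLE_apply_appLE a'.act.left pr.left V ⊤ ⊤ hV'.le le_top f
        have m2 := appLE_apply_appLE (snd G X').left pr.left V ⊤ ⊤ hV'.le le_top f
        rw [IsLocQuot.appLE_top] at m1 m2
        have k1 := appLE_apply_appLE (G ◁ pr).left a.act.left V O ⊤ inf_le_left e3.le f
        have k2 := appLE_apply_appLE (G ◁ pr).left (snd G X).left V O ⊤ inf_le_right e3.le f
        have n1 := appLE_congr_hom w1 V ⊤ (le_trans le_top (a'.act.left.preimage_mono hV'.le)) f
        have n2 := appLE_congr_hom w2 V ⊤ (le_trans le_top ((snd G X').left.preimage_mono hV'.le)) f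
        have o : a'.act.left.appTop (pr.left.appLE V ⊤ hV'.le f) =
          (snd G X').left.appTop (pr.left.appLE V ⊤ hV'.le f) := hf'
        exact (k1.trans (n1.symm.trans m1.symm)).trans (o.trans (m2.trans (n2.trans k2.symm)))
      have hf2 : f ∈ Set.range (φ.left.app U) := by
        rw [(hq.sections U).2]
        exact hf
      obtain ⟨s, rfl⟩ := hf2
      exact ⟨g.left.appLE U ⊤ hU.le s, (comm s).symm⟩

end Chart

section Charts

open K688.ActRes K688.QuotLocal K689.SchGlue K690.Torsor

variable {S : Scheme.{u}} {G X Y : Over S} [GrpObj G]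

/-- The action square is cartesian if it is so on charts of the base. -/
theorem isPullback_of_charts {a : AlgGrp.Action G X} {φ : X ⟶ Y} (hφ : GIT.IsInvariant a φ)
    (H : ∀ y : Y.left, ∃ (X' Y' : Over S) (a' : AlgGrp.Action G X') (φ' : X' ⟶ Y') (pr : X' ⟶ X)
      (g : Y' ⟶ Y), Chart a φ a' φ' pr g ∧ y ∈ Set.range g.left ∧
        IsPullback a'.act (snd G X') φ' φ') : IsPullback a.act (snd G X) φ φ := by
  rw [isPullback_act_iff]
  refine ⟨hφ, fun T x x' hx => ?_⟩
  choose X' Y' a' φ' pr g hc hy hpb using H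
  -- unique existence over points factoring through a chart
  have key : ∀ (y : Y.left) (T : Over S) (x x' : T ⟶ X), x ≫ φ = x' ≫ φ →
      (∃ t : T ⟶ Y' y, x ≫ φ = t ≫ g y) → ∃! c : T ⟶ G, lift c x' ≫ a.act = x := by
    intro y T x x' hx ⟨t, ht⟩
    have hmono : Mono (g y) := by
      have := (hc y).open_g
      have : Mono (g y).left := inferInstance
      exact Functor.mono_of_mono_map (Over.forget S) this
    have hprm : Mono (pr y) := ⟨fun u v h => (hc y).pb.hom_ext h (by
      rw [← cancel_mono (g y), Category.assoc, Category.assoc, ← (hc y).pb.w, ← Category.assoc,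
        ← Category.assoc, h])⟩
    obtain ⟨u, hu, -⟩ := (hc y).pb.exists_lift x t ht
    obtain ⟨u', hu', -⟩ := (hc y).pb.exists_lift x' t (hx.symm.trans ht)
    have h1 : u ≫ φ' y = u' ≫ φ' y := by
      rw [← cancel_mono (g y), Category.assoc, Category.assoc, ← (hc y).pb.w, ← Category.assoc,
        ← Category.assoc, hu, hu', hx]
    obtain ⟨c, hcc, huniq⟩ := (isPullback_act_iff (a' y) (φ' y)).1 (hpb y) |>.2 T u u' h1
    have hconv : ∀ d : T ⟶ G, lift d x' ≫ a.act = (lift d u' ≫ (a' y).act) ≫ pr y := by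
      intro d
      rw [Category.assoc, (hc y).act, ← Category.assoc, lift_whiskerLeft, hu']
    refine ⟨c, ?_, fun d hd => huniq d ?_⟩
    · change lift c x' ≫ a.act = x
      rw [hconv, hcc, hu]
    · change lift d u' ≫ (a' y).act = u
      rw [← cancel_mono (pr y), ← hconv, hd, hu]
  let O : Y.left → T.left.Opens := fun y =>
    haveI := (hc y).open_g
    (x ≫ φ).left ⁻¹ᵁ (g y).left.opensRange
  have hO : ∀ z : T.left, ∃ y, z ∈ O y := fun z => ⟨(x ≫ φ).left z, hy _⟩
  have hfac : ∀ (y : Y.left) (T' : Over S) (v : T' ⟶ T), Set.range v.left ⊆ O y →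
      ∃ t : T' ⟶ Y' y, v ≫ x ≫ φ = t ≫ g y := by
    intro y T' v hv
    have := (hc y).open_g
    have h1 : Set.range (v ≫ x ≫ φ).left ⊆ Set.range (g y).left := by
      rintro _ ⟨z, rfl⟩
      rw [Over.comp_left, Scheme.Hom.comp_apply]
      exact hv ⟨z, rfl⟩
    refine ⟨Over.homMk (IsOpenImmersion.lift (g y).left (v ≫ x ≫ φ).left h1) ?_, ?_⟩
    · rw [← Over.w (g y), IsOpenImmersion.lift_fac_assoc, Over.w]
    · ext1
      exact (IsOpenImmersion.lift_fac (g y).left (v ≫ x ≫ φ).left h1).symm
  have hrange : ∀ (V : T.left.Opens), Set.range (inc T V).left = V := fun V =>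
    Scheme.Opens.range_ι V
  have hex : ∀ y, ∃! c : op T (O y) ⟶ G, lift c (inc T (O y) ≫ x') ≫ a.act = inc T (O y) ≫ x := by
    intro y
    refine key y _ _ _ ?_ ?_
    · rw [Category.assoc, Category.assoc, hx]
    · obtain ⟨t, ht⟩ := hfac y _ (inc T (O y)) (hrange _).le
      exact ⟨t, by rw [Category.assoc]; exact ht⟩
  choose c hcc huniq using hex
  obtain ⟨s, hs⟩ := glue_over O hO c fun i j => by
    -- uniqueness on the overlap
    obtain ⟨t, ht⟩ := hfac i (op T (O i ⊓ O j)) (inc T (O i ⊓ O j)) (by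
      rw [hrange]; exact inf_le_left)
    have h1 := key i (op T (O i ⊓ O j)) (inc T (O i ⊓ O j) ≫ x) (inc T (O i ⊓ O j) ≫ x')
      (by rw [Category.assoc, Category.assoc, hx]) ⟨t, by rw [Category.assoc]; exact ht⟩
    refine h1.unique ?_ ?_
    · have h2 : incLE T (inf_le_left : O i ⊓ O j ≤ O i) ≫ inc T (O i) = inc T (O i ⊓ O j) :=
        incLE_inc _ _
      rw [← h2, Category.assoc, ← comp_lift, Category.assoc, Category.assoc, hcc]
    · have h2 : incLE T (inf_le_right : O i ⊓ O j ≤ O j) ≫ inc T (O j) = inc T (O i ⊓ O j) :=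
        incLE_inc _ _
      rw [← h2, Category.assoc, ← comp_lift, Category.assoc, Category.assoc, hcc]
  refine ⟨s, ?_, ?_⟩
  · change lift s x' ≫ a.act = x
    refine hom_ext_over O hO fun y => ?_
    rw [← Category.assoc, comp_lift, hs, hcc]
  · intro s' hs'
    refine hom_ext_over O hO fun y => ?_
    rw [hs]
    apply huniq
    rw [← comp_lift, Category.assoc, hs']

end Charts

section Stab

open K690.Torsor

variable {S : Scheme.{u}} {G X Y : Over S} [GrpObj G] (a : AlgGrp.Action G X)

theorem mono_psi {T : Over S} (x : T ⟶ X)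
    (h : ∀ (T' : Over S) (t : T' ⟶ T) (g g' : T' ⟶ G), sm a g (t ≫ x) = sm a g' (t ≫ x) → g = g') :
    Mono (GIT.psi a x) := by
  constructor
  intro T' u v huv
  have h1 := congrArg (fun t => t ≫ snd X T) huv
  have h2 := congrArg (fun t => t ≫ fst X T) huv
  simp only [Category.assoc, GIT.psi, lift_snd, lift_fst] at h1 h2
  have hu : u = lift (u ≫ fst G T) (u ≫ snd G T) := by
    apply CartesianMonoidalCategory.hom_ext <;> simp
  have hv : v = lift (v ≫ fst G T) (v ≫ snd G T) := by
    apply CartesianMonoidalCategory.hom_ext <;> simp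
  have aux : ∀ w : T' ⟶ G ⊗ T, w ≫ (G ◁ x) ≫ a.act = sm a (w ≫ fst G T) ((w ≫ snd G T) ≫ x) := by
    intro w
    rw [sm, ← Category.assoc]
    congr 1
    apply CartesianMonoidalCategory.hom_ext <;> simp
  have h3 : sm a (u ≫ fst G T) ((u ≫ snd G T) ≫ x) = sm a (v ≫ fst G T) ((u ≫ snd G T) ≫ x) := by
    rw [← aux u, h2, aux v, h1]
  rw [hu, hv, h _ _ _ _ h3, h1]

theorem isIso_stabTo {T : Over S} (x : T ⟶ X)
    (h : ∀ (T' : Over S) (t : T' ⟶ T) (g g' : T' ⟶ G), sm a g (t ≫ x) = sm a g' (t ≫ x) → g = g') :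
    IsIso (GLinSh.stabTo a x) := by
  have h1 := mono_psi a x h
  have h2 : Mono (GIT.psi a x).left := inferInstance
  have h3 : Mono (GLinSh.stabTo a x) :=
    inferInstanceAs (Mono (pullback.snd (GIT.psi a x).left (lift x (𝟙 T)).left))
  have h4 : lift (1 : T ⟶ G) (𝟙 T) ≫ GIT.psi a x = lift x (𝟙 T) := by
    apply CartesianMonoidalCategory.hom_ext
    · rw [Category.assoc, GIT.psi, lift_fst, lift_fst, ← Category.assoc, lift_whiskerLeft,
        Category.id_comp]
      exact one_sm a x
    · rw [Category.assoc, GIT.psi, lift_snd, lift_snd, lift_snd]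
  have h5 : IsSplitEpi (GLinSh.stabTo a x) := by
    refine ⟨⟨⟨pullback.lift (lift (1 : T ⟶ G) (𝟙 T)).left (𝟙 _) ?_, ?_⟩⟩⟩
    · rw [← Over.comp_left, h4, Category.id_comp]
    · exact pullback.lift_snd _ _ _
  exact isIso_of_mono_of_isSplitEpi _

theorem eq_of_isIso_stabTo {T : Over S} (x : T ⟶ X) (hiso : IsIso (GLinSh.stabTo a x))
    (T' : Over S) (t : T' ⟶ T) (g g' : T' ⟶ G) (h : sm a g (t ≫ x) = sm a g' (t ≫ x)) : g = g' := by
  have h1 : sm a (g'⁻¹ * g) (t ≫ x) = t ≫ x := by
    rw [mul_sm, h, ← mul_sm, inv_mul_cancel, one_sm]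
  have key : ∀ c : T' ⟶ G, sm a c (t ≫ x) = t ≫ x → ∃ u : T'.left ⟶ GLinSh.stab a x,
      u ≫ pullback.fst (GIT.psi a x).left (lift x (𝟙 T)).left = (lift c t).left ∧
      u ≫ GLinSh.stabTo a x = t.left := by
    intro c hc
    have h2 : lift c t ≫ GIT.psi a x = t ≫ lift x (𝟙 T) := by
      apply CartesianMonoidalCategory.hom_ext
      · rw [Category.assoc, GIT.psi, lift_fst, Category.assoc, lift_fst, ← Category.assoc,
          lift_whiskerLeft]
        exact hc
      · rw [Category.assoc, GIT.psi, lift_snd, Category.assoc, lift_snd, lift_snd, Category.comp_id]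
    exact ⟨pullback.lift (lift c t).left t.left (by rw [← Over.comp_left, h2, Over.comp_left]),
      pullback.lift_fst _ _ _, pullback.lift_snd _ _ _⟩
  obtain ⟨u, hu1, hu2⟩ := key (g'⁻¹ * g) h1
  obtain ⟨v, hv1, hv2⟩ := key 1 (one_sm a _)
  have huv : u = v := by rw [← cancel_mono (GLinSh.stabTo a x), hu2, hv2]
  have h3 : lift (g'⁻¹ * g) t = lift 1 t :=
    Over.OverMorphism.ext (by rw [← hu1, ← hv1, huv])
  have h4 := congrArg (fun s => s ≫ fst G T) h3
  simp only [lift_fst] at h4
  exact (inv_mul_eq_one.1 h4).symm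

/-- Stabilisers are trivial in a torsor. -/
theorem isIso_stabTo_of_isPullback {a : AlgGrp.Action G X} {φ : X ⟶ Y}
    (h : IsPullback a.act (snd G X) φ φ) {T : Over S} (x : T ⟶ X) : IsIso (GLinSh.stabTo a x) := by
  rw [isPullback_act_iff] at h
  refine isIso_stabTo a x fun T' t g g' hg => ?_
  have h1 : sm a g (t ≫ x) ≫ φ = (t ≫ x) ≫ φ := invariant_pt h.1 g (t ≫ x)
  exact (h.2 T' _ _ h1).unique rfl hg.symm

end Stab

section Field

variable {k : Type u} [Field k] [IsAlgClosed k] {G X : Over (Spec (CommRingCat.of k))} [GrpObj G]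
  [LocallyOfFiniteType G.hom] [QuasiCompact G.hom] [LocallyOfFiniteType X.hom] [QuasiCompact X.hom]
  (a : AlgGrp.Action G X) (x : 𝟙_ (Over (Spec (CommRingCat.of k))) ⟶ X)

/-- The orbit map of a point with trivial stabiliser and closed orbit is a closed immersion. -/
theorem isClosedImmersion_orbitMap (hcl : GIT.IsClosedAction a)
    (hiso : IsIso (GLinSh.stabTo a x)) : IsClosedImmersion (a.orbitMap x).left := by
  have h1 : IsClosed (Set.range (GIT.psi a x).left.base) := hcl k _ (Iso.refl _) x
  have hst : IsProper (pullback.snd (GIT.psi a x).left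
      (lift x (𝟙 (𝟙_ (Over (Spec (CommRingCat.of k)))))).left ≫
        (𝟙_ (Over (Spec (CommRingCat.of k)))).hom) := by
    have h2 : IsIso (𝟙_ (Over (Spec (CommRingCat.of k)))).hom := inferInstanceAs (IsIso (𝟙 _))
    have h3 : IsIso (pullback.snd (GIT.psi a x).left
      (lift x (𝟙 (𝟙_ (Over (Spec (CommRingCat.of k)))))).left) := hiso
    infer_instance
  have h2 := (OrbProper.main a x).2 ⟨h1, hst⟩
  have h3 : Mono (GIT.psi a x) := mono_psi a x (eq_of_isIso_stabTo a x hiso)
  have h4 : Mono (GIT.psi a x).left := inferInstance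
  have h5 : IsClosedImmersion (GIT.psi a x).left :=
    (IsClosedImmersion.iff_isProper_and_mono _).2 ⟨h2, h4⟩
  have h6 : a.orbitMap x = (ρ_ G).inv ≫ GIT.psi a x ≫ (ρ_ X).hom := by
    rw [OrbProper.psi_eq]
    simp
  rw [h6, Over.comp_left, Over.comp_left]
  have h7 : IsIso (ρ_ G).inv.left := inferInstance
  have h8 : IsIso (ρ_ X).hom.left := inferInstance
  infer_instance

end Field

end K690.FreeQuot
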