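import Groth.Agent.GIT.K690.Isotriv
import Groth.Agent.Sga3B.AffHopf
import Groth.Agent.Books.AffBridge
import Groth.Agent.S16480
import Groth.Agent.S3279
import Groth.Agent.AlgSp.K638.RedEt

/-!
# Quotients of `GL_n` by closed subgroups are locally isotrivial

* `exists_embedding`: an affine algebraic group over a field is a closed subgroup of `GL_n`.
* `exists_equivGLn`: a torsor has, locally on the base, an equivariant map to `GL_n`.
* `exists_translate`: transitivity on closed points.
-/

set_option autoImplicit false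

universe u

open CategoryTheory CategoryTheory.Limits MonoidalCategory CartesianMonoidalCategory MonObj
  AlgebraicGeometry

namespace K690.GLnEmb

open K690.LocSec K690.Torsor K690.TorsorTower K690.EqMat K690.GLnRep K690.Chart CoactBr AlgGrp.Action

section

variable (k : Type u) [Field k]

/-- An affine algebraic group is a closed subgroup of `GL_n`. -/
theorem exists_embedding (G : Over (Spec (CommRingCat.of k))) [GrpObj G] [IsAffine G.left]
    [LocallyOfFiniteType G.hom] :
    ∃ (n : ℕ) (i : G ⟶ sp k (CoordGrp.GLn n k)), IsMonHom i ∧ IsClosedImmersion i.left := by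
  obtain ⟨A, _, _, e, he⟩ := Groth.Agent.Sga3B.AffHopf.exists_hopf G
  have h1 : LocallyOfFiniteType (Spec.map (CommRingCat.ofHom (algebraMap k A))) := by
    have h2 : LocallyOfFiniteType (e.hom.left ≫ G.hom) := inferInstance
    rw [Over.w e.hom] at h2
    exact h2
  have hft : Algebra.FiniteType k A := by
    rw [HasRingHomProperty.Spec_iff (P := @LocallyOfFiniteType)] at h1
    exact RingHom.finiteType_algebraMap.1 h1
  obtain ⟨n, π, hπ⟩ := Groth.Agent.S16480.result k A
  have h3 : IsMonHom (pt (R := k) (π : CoordGrp.GLn n k →ₐ[k] A)) := Groth.Agent.Books.AffBridge.isMonHom_specMap k π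
  have h4 : IsClosedImmersion (pt (R := k) (π : CoordGrp.GLn n k →ₐ[k] A)).left :=
    IsClosedImmersion.spec_of_surjective _ hπ
  have h5 : IsIso e.inv.left := inferInstanceAs (IsIso ((Over.forget _).map e.inv))
  refine ⟨n, e.inv ≫ pt (R := k) (π : CoordGrp.GLn n k →ₐ[k] A), inferInstance, ?_⟩
  rw [Over.comp_left]
  infer_instance

lemma locallyOfFiniteType_GLn (n : ℕ) : LocallyOfFiniteType (sp k (CoordGrp.GLn n k)).hom := by
  have h1 : Algebra.FiniteType k (CoordGrp.GLn n k) := by
    have : Algebra.FiniteType k (CoordGrp.GLb n k) :=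
      inferInstanceAs (Algebra.FiniteType k (MvPolynomial (CoordGrp.GLPoly.Idx n) k))
    exact Algebra.FiniteType.of_surjective (CoordGrp.GLn.mk n k) Ideal.Quotient.mk_surjective
  have h2 : LocallyOfFiniteType (Spec.map (CommRingCat.ofHom (algebraMap k (CoordGrp.GLn n k)))) := by
    rw [HasRingHomProperty.Spec_iff (P := @LocallyOfFiniteType)]
    exact RingHom.finiteType_algebraMap.2 h1
  exact h2

variable {k}
variable {G X Y : Over (Spec (CommRingCat.of k))} [GrpObj G]
  {a : AlgGrp.Action G X} {φ : X ⟶ Y}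

/-- Locally on the base of a torsor there is an equivariant map to `GL_n`. -/
theorem exists_equivGLn (hcart : IsPullback a.act (snd G X) φ φ) {n : ℕ}
    (i : G ⟶ sp k (CoordGrp.GLn n k)) [IsMonHom i]
    [IsAffineHom φ.left] [Flat φ.left] [Surjective φ.left] (y : Y.left) :
    ∃ (B : Type u) (_ : CommRing B) (_ : Algebra k B) (R : Type u) (_ : CommRing R)
      (_ : Algebra k R) (β : B →ₐ[k] R) (j : sp k B ⟶ Y) (jX : sp k R ⟶ X)
      (N : sp k R ⟶ sp k (CoordGrp.GLn n k)), IsOpenImmersion j.left ∧ y ∈ Set.range j.left ∧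
      IsPullback jX (pt β) φ j ∧ LS (pt β).left ∧
      ∀ (T : Over (Spec (CommRingCat.of k))) (x x' : T ⟶ sp k R) (g : T ⟶ G),
        lift g (x' ≫ jX) ≫ a.act = x ≫ jX → (x ≫ N) * (g ≫ i) = x' ≫ N := by
  obtain ⟨B, _, _, R, _, _, β, j, jX, M, hj, hy, hpb, hM, heq⟩ :=
    exists_equivMat hcart (restr i (taut k n)) y
  have hleft := hpb.map (Over.forget _)
  have hfl : Flat (pt β).left := MorphismProperty.of_isPullback (P := @Flat) hleft ‹_›
  have hsu : Surjective (pt β).left :=
    MorphismProperty.of_isPullback (P := @Surjective) hleft ‹_›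
  have haff : QuasiCompact (pt β).left :=
    inferInstanceAs (QuasiCompact (Spec.map (CommRingCat.ofHom β.toRingHom)))
  have hLS : LS (pt β).left := K690.NormalTors.ls_of_flat _
  have hMi : IsUnit (M⁻¹).det := by
    rw [Matrix.det_nonsing_inv]
    exact hM.ringInverse
  obtain ⟨N, hN⟩ := exists_mat (k := k) hMi
  refine ⟨B, inferInstance, inferInstance, R, inferInstance, inferInstance, β, j, jX, N, hj, hy,
    hpb, hLS, ?_⟩
  intro T x x' g hg
  apply hom_ext_sp
  intro C _ _ t
  obtain ⟨z, hz⟩ := exists_pt (t ≫ x)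
  obtain ⟨z', hz'⟩ := exists_pt (t ≫ x')
  rw [comp_mul, ← Category.assoc, ← Category.assoc, ← Category.assoc, ← hz, ← hz']
  have h1 : lift (t ≫ g) (pt z' ≫ jX) ≫ a.act = pt z ≫ jX := by
    rw [hz, hz', Category.assoc, Category.assoc, ← hg, comp_lift_assoc]
  have h2 : mat ((t ≫ g) ≫ i) * M.map z' = M.map z := heq C (t ≫ g) z z' h1
  apply mat_injective
  rw [mat_mul, mat_comp, mat_comp, hN]
  have e1 : ∀ w : R →ₐ[k] C, (M⁻¹).map w = (M.map w)⁻¹ := by
    intro w
    symm
    apply Matrix.inv_eq_left_inv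
    rw [← Matrix.map_mul, Matrix.nonsing_inv_mul M hM]
    exact Matrix.map_one _ (map_zero w) (map_one w)
  have e2 : ∀ w : R →ₐ[k] C, IsUnit (M.map w).det := by
    intro w
    have : (M.map w).det = w M.det := (RingHom.map_det w.toRingHom M).symm
    rw [this]
    exact hM.map w
  rw [e1, e1]
  symm
  apply Matrix.inv_eq_left_inv
  rw [_root_.mul_assoc, h2, Matrix.nonsing_inv_mul _ (e2 z)]

end

section Translate

variable {k : Type u} [Field k] [IsAlgClosed k]

/-- The rational point of a closed point. -/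
lemma exists_ratPt (X : Over (Spec (CommRingCat.of k))) [LocallyOfFiniteType X.hom] (x : X.left)
    (hx : IsClosed {x}) : ∃ g : 𝟙_ (Over (Spec (CommRingCat.of k))) ⟶ X, ∀ z, g.left z = x :=
  ⟨Over.homMk (pointOfClosedPoint X.hom x hx) (pointOfClosedPoint_comp X.hom x hx),
    fun z => pointOfClosedPoint_apply X.hom x hx z⟩

/-- The translate of any point of a homogeneous space meets any non-empty open subset. -/
theorem exists_translate (H Q : Over (Spec (CommRingCat.of k))) [GrpObj H]
    [LocallyOfFiniteType H.hom] [LocallyOfFiniteType Q.hom] (aQ : AlgGrp.Action H Q)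
    (o : 𝟙_ (Over (Spec (CommRingCat.of k))) ⟶ Q) [hs : Surjective (aQ.orbitMap o).left]
    (V : Q.left.Opens) (hV : (V : Set Q.left).Nonempty) (q : Q.left) :
    ∃ g : 𝟙_ (Over (Spec (CommRingCat.of k))) ⟶ H,
      (lift (toUnit Q ≫ g) (𝟙 Q) ≫ aQ.act).left q ∈ V := by
  have hJH : JacobsonSpace H.left := LocallyOfFiniteType.jacobsonSpace H.hom
  have hJQ : JacobsonSpace Q.left := LocallyOfFiniteType.jacobsonSpace Q.hom
  obtain ⟨q₀, hq₀, hq₀'⟩ := nonempty_inter_closedPoints (Z := closure {q})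
    ⟨q, subset_closure rfl⟩ isClosed_closure.isLocallyClosed
  have hspec : q ⤳ q₀ := specializes_iff_mem_closure.2 hq₀
  obtain ⟨h₀, hh₀, hh₀'⟩ := nonempty_inter_closedPoints
    (Z := (aQ.orbitMap o).left ⁻¹' {q₀}) (Set.Nonempty.preimage (Set.singleton_nonempty _) hs.surj)
    ((IsClosed.preimage (aQ.orbitMap o).left.continuous hq₀').isLocallyClosed)
  obtain ⟨h₁, hh₁, hh₁'⟩ := nonempty_inter_closedPoints
    (Z := (aQ.orbitMap o).left ⁻¹' V) (Set.Nonempty.preimage hV hs.surj)
    ((V.isOpen.preimage (aQ.orbitMap o).left.continuous).isLocallyClosed)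
  obtain ⟨g₀, hg₀⟩ := exists_ratPt H h₀ hh₀'
  obtain ⟨g₁, hg₁⟩ := exists_ratPt H h₁ hh₁'
  refine ⟨g₁ * g₀⁻¹, ?_⟩
  set t := lift (toUnit Q ≫ (g₁ * g₀⁻¹)) (𝟙 Q) ≫ aQ.act with ht
  have h1 : (g₀ ≫ aQ.orbitMap o) ≫ t = g₁ ≫ aQ.orbitMap o := by
    rw [ht, comp_lift_assoc, Category.comp_id, ← Category.assoc,
      toUnit_unique ((g₀ ≫ aQ.orbitMap o) ≫ toUnit Q) (𝟙 _), Category.id_comp, comp_orbitMap,
      ← lift_mul_act, inv_mul_cancel_right, comp_orbitMap]
  have h2 : t.left q₀ ∈ V := by
    obtain ⟨z⟩ : Nonempty (𝟙_ (Over (Spec (CommRingCat.of k)))).left :=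
      inferInstanceAs (Nonempty (Spec (CommRingCat.of k)))
    have h3 : (aQ.orbitMap o).left (g₀.left z) = q₀ := by rw [hg₀ z]; exact hh₀
    have h4 : t.left q₀ = (aQ.orbitMap o).left (g₁.left z) := by
      have h5 := (Category.assoc g₀ (aQ.orbitMap o) t).symm.trans h1
      rw [← h3, ← Scheme.Hom.comp_apply, ← Scheme.Hom.comp_apply, ← Over.comp_left,
        ← Over.comp_left, h5, Over.comp_left, Scheme.Hom.comp_apply]
    rw [h4, hg₁ z]
    exact hh₁
  exact hspec.mem_open (V.isOpen.preimage t.left.continuous) h2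

end Translate

end K690.GLnEmb
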