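import Groth.Agent.GIT.K690.LocSec
import Groth.Agent.GIT.K690.Torsor
import Groth.Agent.EqInt.K957.Bundle

/-!
# Geometric quotients from fpqc local sections

* `isGeomQuot_of_LS`: an invariant morphism `φ` with fpqc local sections whose orbit map `PsiY` has
  fpqc local sections is a geometric quotient.
* `prop_of_torsor`: properties of `G` descend to `φ` for a torsor.
-/

set_option autoImplicit false

universe u

open CategoryTheory CategoryTheory.Limits MonoidalCategory CartesianMonoidalCategory MonObj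
  AlgebraicGeometry

namespace K690.GeomQuot

open K690.LocSec K957.Sections

/-- Sections over an open descend along effective epimorphisms, with the relation given up to
epimorphisms. -/
theorem exists_app_eq' {R X Y : Scheme.{u}} (f : X ⟶ Y) {p q : R ⟶ X}
    (H : ∀ {W : Scheme.{u}} (g₁ g₂ : W ⟶ X), g₁ ≫ f = g₂ ≫ f →
      ∃ (W' : Scheme.{u}) (c : W' ⟶ W) (_ : Epi c) (g : W' ⟶ R), g ≫ p = c ≫ g₁ ∧ g ≫ q = c ≫ g₂)
    (V : Y.Opens) [EffectiveEpi (f ∣_ V)] (t : Γ(X, f ⁻¹ᵁ V))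
    (ht : p.appLE (f ⁻¹ᵁ V) (p ⁻¹ᵁ (f ⁻¹ᵁ V) ⊓ q ⁻¹ᵁ (f ⁻¹ᵁ V)) inf_le_left t =
      q.appLE (f ⁻¹ᵁ V) (p ⁻¹ᵁ (f ⁻¹ᵁ V) ⊓ q ⁻¹ᵁ (f ⁻¹ᵁ V)) inf_le_right t) : ∃ s, f.app V s = t := by
  obtain ⟨s, hs⟩ := exists_appTop_eq_of_forall (f ∣_ V)
    (((f ⁻¹ᵁ V).ι.appLE (f ⁻¹ᵁ V) ⊤ (top_le_ι _)).hom t) (by
    intro W g₁ g₂ h
    have e1 : (g₁ ≫ (f ⁻¹ᵁ V).ι) ≫ f = (g₂ ≫ (f ⁻¹ᵁ V).ι) ≫ f := by
      have := congr($h ≫ V.ι)
      simpa using this
    obtain ⟨W', c, hc, g, h1, h2⟩ := H _ _ e1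
    apply appTop_injective_of_epi c
    have hcomp : ∀ (g₀ : W ⟶ f ⁻¹ᵁ V) (z : Γ(f ⁻¹ᵁ V, ⊤)),
        c.appTop.hom (g₀.appTop.hom z) = (c ≫ g₀).appTop.hom z := by
      intro g₀ z
      rw [Scheme.Hom.comp_appTop, CommRingCat.hom_comp, RingHom.comp_apply]
    rw [hcomp, hcomp]
    rw [← Category.assoc] at h1 h2
    have t1 := le_comp _ (c ≫ g₁)
    have t2 := le_comp _ (c ≫ g₂)
    rw [← h1] at t1
    rw [← h2] at t2
    rw [appTop_ι _ (c ≫ g₁) t h1.symm t1, appTop_ι _ (c ≫ g₂) t h2.symm t2]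
    have l : ⊤ ≤ g ⁻¹ᵁ (p ⁻¹ᵁ (f ⁻¹ᵁ V) ⊓ q ⁻¹ᵁ (f ⁻¹ᵁ V)) := fun x hx => ⟨t1 hx, t2 hx⟩
    have a1 := Scheme.Hom.appLE_comp_appLE g p (f ⁻¹ᵁ V) (p ⁻¹ᵁ (f ⁻¹ᵁ V) ⊓ q ⁻¹ᵁ (f ⁻¹ᵁ V)) ⊤ inf_le_left l
    have a2 := Scheme.Hom.appLE_comp_appLE g q (f ⁻¹ᵁ V) (p ⁻¹ᵁ (f ⁻¹ᵁ V) ⊓ q ⁻¹ᵁ (f ⁻¹ᵁ V)) ⊤ inf_le_right l
    rw [← a1, ← a2]
    exact congr((g.appLE _ _ l).hom $ht))
  have := isIso_ι_appLE V
  obtain ⟨s', rfl⟩ : ∃ s', (V.ι.appLE V ⊤ (top_le_ι V)).hom s' = s :=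
    ⟨(inv (V.ι.appLE V ⊤ (top_le_ι V))).hom s, by
      rw [← RingHom.comp_apply, ← CommRingCat.hom_comp, IsIso.inv_hom_id]; rfl⟩
  refine ⟨s', ?_⟩
  have := isIso_ι_appLE (f ⁻¹ᵁ V)
  have hinj : Function.Injective ((f ⁻¹ᵁ V).ι.appLE (f ⁻¹ᵁ V) ⊤ (top_le_ι _)).hom :=
    (ConcreteCategory.bijective_of_isIso ((f ⁻¹ᵁ V).ι.appLE (f ⁻¹ᵁ V) ⊤ (top_le_ι _))).1
  apply hinj
  rw [← hs]
  have e1 : ⊤ ≤ ((f ⁻¹ᵁ V).ι ≫ f) ⁻¹ᵁ V := fun x _ => x.2
  have a3 := Scheme.Hom.appLE_comp_appLE (f ⁻¹ᵁ V).ι f V (f ⁻¹ᵁ V) ⊤ le_rfl (top_le_ι _)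
  rw [appTop_ι V (f ∣_ V) s' (morphismRestrict_ι f V) e1, ← a3, Scheme.Hom.app_eq_appLE]
  rfl

section

variable {S : Scheme.{u}} {G X Y : Over S} [GrpObj G] (a : AlgGrp.Action G X) (φ : X ⟶ Y)

/-- An invariant morphism with fpqc local sections, whose map `G × X ⟶ X ×_Y X` has fpqc local
sections, is a geometric quotient. -/
theorem isGeomQuot_of_LS (h : GIT.IsInvariant a φ) (hφ : LS φ.left) (hΨ : LS (GIT.PsiY a φ h)) :
    GIT.IsGeomQuot a φ where
  inv := h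
  surj := hφ.surjective.1
  orbit := hΨ.surjective.1
  subm := hφ.isUnivSubmersive
  sections U := by
    have h2 : LS (φ.left ∣_ U) := LS.of_isPullback (isPullback_morphismRestrict φ.left U).flip hφ
    have : EffectiveEpi (φ.left ∣_ U) := h2.effectiveEpi
    refine ⟨app_injective φ.left U, Set.Subset.antisymm ?_ ?_⟩
    · rintro _ ⟨s, rfl⟩
      exact K957.Bundle.isInvSection_app a φ h U s
    · intro f hf
      refine exists_app_eq' φ.left (R := (G ⊗ X).left) (p := a.act.left) (q := (snd G X).left)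
        ?_ U f hf
      intro W g₁ g₂ hg
      have h3 : LS (pullback.snd (GIT.PsiY a φ h) (pullback.lift g₁ g₂ hg)) :=
        LS.of_isPullback (IsPullback.of_hasPullback _ _) hΨ
      have h4 := h3.effectiveEpi
      refine ⟨_, pullback.snd (GIT.PsiY a φ h) (pullback.lift g₁ g₂ hg), inferInstance,
        pullback.fst (GIT.PsiY a φ h) (pullback.lift g₁ g₂ hg), ?_, ?_⟩
      · rw [← K957.Bundle.psiY_fst a φ h, pullback.condition_assoc, pullback.lift_fst]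
      · rw [← K957.Bundle.psiY_snd a φ h, pullback.condition_assoc, pullback.lift_snd]

variable {a φ}

/-- The cartesian square on underlying schemes. -/
lemma isPullback_left (hcart : IsPullback a.act (snd G X) φ φ) :
    IsPullback a.act.left (snd G X).left φ.left φ.left :=
  hcart.map (Over.forget S)

/-- After base change along a section the torsor becomes the base change of `G`. -/
lemma prop_snd (P : MorphismProperty Scheme.{u}) [P.IsStableUnderBaseChange]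
    (hcart : IsPullback a.act (snd G X) φ φ) (hG : P G.hom) {T : Scheme.{u}} (s : T ⟶ X.left) :
    P (pullback.snd φ.left (s ≫ φ.left)) := by
  have h1 : P (snd G X).left := P.of_isPullback (IsPullback.of_hasPullback G.hom X.hom) hG
  have h2 : P (pullback.snd (snd G X).left s) := P.pullback_snd _ _ h1
  have h3 : IsPullback (pullback.fst (snd G X).left s ≫ a.act.left)
      (pullback.snd (snd G X).left s) φ.left (s ≫ φ.left) :=
    (IsPullback.of_hasPullback (snd G X).left s).paste_horiz (isPullback_left hcart)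
  exact (P.arrow_mk_iso_iff (Arrow.isoMk h3.isoPullback (Iso.refl _)
    ((h3.isoPullback_hom_snd).trans (Category.comp_id _).symm))).mp h2

/-- Properties local on the target and stable under faithfully flat descent pass from `G` to a
torsor under `G`. -/
theorem prop_of_torsor (P : MorphismProperty Scheme.{u}) [P.IsStableUnderBaseChange]
    [IsZariskiLocalAtTarget P] [P.DescendsAlong (@Surjective ⊓ @Flat ⊓ @QuasiCompact)]
    (hcart : IsPullback a.act (snd G X) φ φ) (hφ : LS φ.left) (hG : P G.hom) : P φ.left := by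
  apply IsZariskiLocalAtTarget.of_forall_exists_morphismRestrict
  intro y
  obtain ⟨V, hV, hyV⟩ := exists_affine_mem Y.left y
  refine ⟨V, hyV, ?_⟩
  obtain ⟨T, p, s, _, hp1, hp2, hp3, hsp⟩ := hφ.exists_affine V hV
  apply MorphismProperty.of_pullback_snd_of_descendsAlong (P := P)
    (Q := @Surjective ⊓ @Flat ⊓ @QuasiCompact) (g := p) ⟨⟨hp2, hp1⟩, hp3⟩
  have h1 := prop_snd P hcart hG s
  rw [hsp] at h1
  have h4 := (IsPullback.of_hasPullback (φ.left ∣_ V) p).paste_horiz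
    (isPullback_morphismRestrict φ.left V).flip
  exact (P.arrow_mk_iso_iff (Arrow.isoMk h4.isoPullback (Iso.refl _)
    ((h4.isoPullback_hom_snd).trans (Category.comp_id _).symm))).mpr h1

/-- For a torsor the map `G × X ⟶ X ×_Y X` is an isomorphism. -/
lemma isIso_PsiY (hcart : IsPullback a.act (snd G X) φ φ) :
    IsIso (GIT.PsiY a φ hcart.w) :=
  K957.Bundle.isIso_PsiY a φ hcart.w (isPullback_left hcart)

/-- Torsors are geometric quotients. -/
theorem isGeomQuot_of_torsor (hcart : IsPullback a.act (snd G X) φ φ) (hφ : LS φ.left) :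
    GIT.IsGeomQuot a φ := by
  have := isIso_PsiY hcart
  refine isGeomQuot_of_LS a φ hcart.w hφ (LS.of_section (s := inv (GIT.PsiY a φ hcart.w)) ?_)
  exact IsIso.inv_hom_id _

end

end K690.GeomQuot
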