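import Groth.Agent.GIT.K690.Orbits
import Mathlib.RingTheory.MvPolynomial.Homogeneous
import Mathlib.RingTheory.Spectrum.Prime.Topology
import Mathlib.Tactic

/-!
# Diagonal actions of the multiplicative group on affine space

The coaction multiplies the coordinate `X i` by `T (r i)`.
-/

set_option autoImplicit false

universe u

open TensorProduct LaurentPolynomial HopfRep GLin

namespace K690.GmDiag

variable {k : Type u} [Field k]
    {ι : Type u} [Fintype ι] [HopfRep.Comod k k[T;T⁻¹] (MvPolynomial ι k)]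
    [GLin.IsCoactAlg k k[T;T⁻¹] (MvPolynomial ι k)]
    {r : ι → ℤ}

/-- The weight of a monomial. -/
def wt (r : ι → ℤ) (m : ι →₀ ℕ) : ℤ := ∑ i, (m i : ℤ) * r i

omit [HopfRep.Comod k k[T;T⁻¹] (MvPolynomial ι k)]
    [GLin.IsCoactAlg k k[T;T⁻¹] (MvPolynomial ι k)] [Field k] in
lemma wt_add (m m' : ι →₀ ℕ) : wt r (m + m') = wt r m + wt r m' := by
  simp [wt, add_mul, Finset.sum_add_distrib]

lemma coact_monomial (hr : ∀ i : ι, HopfRep.Comod.coact (k := k) (A := k[T;T⁻¹])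
      (MvPolynomial.X i : MvPolynomial ι k) =
      (MvPolynomial.X i : MvPolynomial ι k) ⊗ₜ[k] (T (r i) : k[T;T⁻¹])) (m : ι →₀ ℕ) (c : k) :
    HopfRep.Comod.coact (k := k) (A := k[T;T⁻¹]) (MvPolynomial.monomial m c) =
      MvPolynomial.monomial m c ⊗ₜ[k] (T (wt r m) : k[T;T⁻¹]) := by
  rw [← coactAlgHom_apply, MvPolynomial.monomial_eq, map_mul, MvPolynomial.algHom_C,
    Finsupp.prod_fintype _ _ (by simp), map_prod]
  simp only [map_pow, coactAlgHom_apply, hr, Algebra.TensorProduct.tmul_pow]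
  have h1 : ∀ s : Finset ι, (∏ i ∈ s, ((MvPolynomial.X i : MvPolynomial ι k) ^ m i) ⊗ₜ[k]
      ((T (r i) : k[T;T⁻¹]) ^ m i)) = (∏ i ∈ s, (MvPolynomial.X i : MvPolynomial ι k) ^ m i) ⊗ₜ[k]
      (T (∑ i ∈ s, (m i : ℤ) * r i) : k[T;T⁻¹]) := by
    intro s
    classical
    induction s using Finset.induction_on with
    | empty => simp [Algebra.TensorProduct.one_def]
    | insert a s ha ih =>
      rw [Finset.prod_insert ha, Finset.prod_insert ha, Finset.sum_insert ha, ih,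
        Algebra.TensorProduct.tmul_mul_tmul, T_add, T_pow]
  rw [h1, Algebra.TensorProduct.algebraMap_apply, Algebra.TensorProduct.tmul_mul_tmul, one_mul]
  rfl

/-- Taking the coefficient at `m` in the first factor. -/
noncomputable def coeffL (m : ι →₀ ℕ) : MvPolynomial ι k ⊗[k] k[T;T⁻¹] →ₗ[k] k[T;T⁻¹] :=
  (TensorProduct.lid k _).toLinearMap ∘ₗ (MvPolynomial.lcoeff k m).rTensor _

omit [Fintype ι] [HopfRep.Comod k k[T;T⁻¹] (MvPolynomial ι k)]
    [GLin.IsCoactAlg k k[T;T⁻¹] (MvPolynomial ι k)] in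
lemma coeffL_tmul (m : ι →₀ ℕ) (F : MvPolynomial ι k) (a : k[T;T⁻¹]) :
    coeffL m (F ⊗ₜ a) = MvPolynomial.coeff m F • a := by
  simp [coeffL, MvPolynomial.lcoeff]

lemma coeffL_coact (hr : ∀ i : ι, HopfRep.Comod.coact (k := k) (A := k[T;T⁻¹])
      (MvPolynomial.X i : MvPolynomial ι k) =
      (MvPolynomial.X i : MvPolynomial ι k) ⊗ₜ[k] (T (r i) : k[T;T⁻¹])) (m : ι →₀ ℕ)
    (F : MvPolynomial ι k) :
    coeffL m (HopfRep.Comod.coact (k := k) (A := k[T;T⁻¹]) F) =
      MvPolynomial.coeff m F • (T (wt r m) : k[T;T⁻¹]) := by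
  classical
  induction F using MvPolynomial.induction_on' with
  | monomial m' c =>
    rw [coact_monomial hr, coeffL_tmul, MvPolynomial.coeff_monomial]
    split_ifs with h
    · rw [h]
    · simp
  | add p q hp hq => rw [map_add, map_add, hp, hq, MvPolynomial.coeff_add, add_smul]

lemma wt_eq_zero (hr : ∀ i : ι, HopfRep.Comod.coact (k := k) (A := k[T;T⁻¹])
      (MvPolynomial.X i : MvPolynomial ι k) =
      (MvPolynomial.X i : MvPolynomial ι k) ⊗ₜ[k] (T (r i) : k[T;T⁻¹]))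
    {F : MvPolynomial ι k} (hF : F ∈ GLin.invariants k k[T;T⁻¹] (MvPolynomial ι k))
    {m : ι →₀ ℕ} (hm : MvPolynomial.coeff m F ≠ 0) : wt r m = 0 := by
  have h1 := coeffL_coact hr m F
  rw [(mem_invariants_iff k _ _ F).1 hF, coeffL_tmul] at h1
  have h2 : (1 : k[T;T⁻¹]) = T (wt r m) := by
    have := congrArg (fun z => (MvPolynomial.coeff m F)⁻¹ • z) h1
    simpa [smul_smul, inv_mul_cancel₀ hm] using this
  rw [← T_zero] at h2
  have h3 := congrArg (fun z : k[T;T⁻¹] => z.coeff (0 : ℤ)) h2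
  by_contra hne
  simp only [T_apply, if_true, if_neg hne] at h3
  exact one_ne_zero h3

lemma monomial_mem_invariants (hr : ∀ i : ι, HopfRep.Comod.coact (k := k) (A := k[T;T⁻¹])
      (MvPolynomial.X i : MvPolynomial ι k) =
      (MvPolynomial.X i : MvPolynomial ι k) ⊗ₜ[k] (T (r i) : k[T;T⁻¹]))
    {m : ι →₀ ℕ} (c : k) (h : wt r m = 0) :
    MvPolynomial.monomial m c ∈ GLin.invariants k k[T;T⁻¹] (MvPolynomial ι k) := by
  rw [mem_invariants_iff, coact_monomial hr, h, T_zero]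

end K690.GmDiag
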