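import Groth.Agent.GIT.K690.EqSec
import Groth.Agent.Sga4h.LFinGalRing
import Groth.Agent.FlatA.EtaleSections
import Mathlib.LinearAlgebra.Matrix.MvPolynomial

/-!
# Generic isotriviality

* `isDomain_GLn`: the coordinate ring of `GL_n` over a domain is a domain.
* `exists_isotrivial_open`: a smooth surjective morphism to an integral scheme has a section over a
  finite étale covering of a non-empty open subset.
-/

set_option autoImplicit false

universe u

open CategoryTheory CategoryTheory.Limits MonoidalCategory CartesianMonoidalCategory MonObj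
  AlgebraicGeometry

namespace K690.Isotriv

open K690.LocSec K690.Torsor K690.TorsorTower AlgGrp.Action

section GLn

open CoordGrp MvPolynomial Matrix

variable (n : ℕ) (k : Type u) [CommRing k] [IsDomain k]

/-- The coordinate ring of `GL_n` embeds in a localisation of a polynomial ring. -/
noncomputable def toLoc : GLn n k →ₐ[k] Localization.Away (det (mvPolynomialX (Fin n) (Fin n) k)) :=
  GLn.pt n k ((mvPolynomialX (Fin n) (Fin n) k).map
      (algebraMap _ (Localization.Away (det (mvPolynomialX (Fin n) (Fin n) k)))))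
    (IsLocalization.Away.invSelf (det (mvPolynomialX (Fin n) (Fin n) k))) (by
      have h : ((mvPolynomialX (Fin n) (Fin n) k).map
        (algebraMap _ (Localization.Away (det (mvPolynomialX (Fin n) (Fin n) k))))).det =
          algebraMap _ _ (det (mvPolynomialX (Fin n) (Fin n) k)) :=
        (RingHom.map_det _ _).symm
      rw [h, IsLocalization.Away.mul_invSelf])

omit [IsDomain k] in
lemma toLoc_injective : Function.Injective (toLoc n k) := by
  let f₀ : MvPolynomial (Fin n × Fin n) k →ₐ[k] GLn n k := aeval fun p => GLn.X p.1 p.2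
  have hf₀ : f₀ (det (mvPolynomialX (Fin n) (Fin n) k)) = GLn.det := by
    rw [GLn.det_eq, AlgHom.map_det]
    congr 1
    ext i j
    simp [f₀, GLn.genMat, mvPolynomialX]
  have hu : IsUnit (f₀ (det (mvPolynomialX (Fin n) (Fin n) k))) := by
    rw [hf₀]
    exact IsUnit.of_mul_eq_one _ GLn.det_mul_Dinv
  let f : Localization.Away (det (mvPolynomialX (Fin n) (Fin n) k)) →+* GLn n k :=
    IsLocalization.Away.lift (det (mvPolynomialX (Fin n) (Fin n) k)) (g := f₀.toRingHom) hu
  have hf : ∀ x, f (algebraMap _ _ x) = f₀ x := fun x => IsLocalization.Away.lift_eq _ hu x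
  let f' : Localization.Away (det (mvPolynomialX (Fin n) (Fin n) k)) →ₐ[k] GLn n k :=
    { f with
      commutes' := fun r => by
        change f (algebraMap k _ r) = _
        rw [IsScalarTower.algebraMap_apply k (MvPolynomial (Fin n × Fin n) k) _ r, hf]
        exact f₀.commutes r }
  have key : f'.comp (toLoc n k) = AlgHom.id k _ := by
    have hX : ∀ i j, (f'.comp (toLoc n k)) (GLn.X i j) = GLn.X i j := by
      intro i j
      change f (toLoc n k (GLn.X i j)) = _
      rw [toLoc, GLn.pt_X, Matrix.map_apply, hf]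
      simp [f₀, mvPolynomialX]
    refine GLn.algHom_ext hX ?_
    have hdet : (f'.comp (toLoc n k)) GLn.det = GLn.det := by
      rw [GLn.det_eq, AlgHom.map_det]
      congr 1
      ext i j
      exact hX i j
    have h1 : (f'.comp (toLoc n k)) GLn.Dinv * GLn.det = 1 := by
      rw [← hdet, ← map_mul, GLn.Dinv_mul_det, map_one]
    calc (f'.comp (toLoc n k)) GLn.Dinv = (f'.comp (toLoc n k)) GLn.Dinv * (GLn.det * GLn.Dinv) := by
          rw [GLn.det_mul_Dinv, _root_.mul_one]
      _ = GLn.Dinv := by rw [← _root_.mul_assoc, h1, _root_.one_mul]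
  intro x y e
  have h := congrArg f' e
  have hx := DFunLike.congr_fun key x
  have hy := DFunLike.congr_fun key y
  simp only [AlgHom.comp_apply, AlgHom.id_apply] at hx hy
  rw [← hx, h, hy]

/-- The coordinate ring of `GL_n` over a domain is a domain. -/
lemma isDomain_GLn : IsDomain (GLn n k) := by
  have : IsDomain (Localization.Away (det (mvPolynomialX (Fin n) (Fin n) k))) :=
    IsLocalization.isDomain_localization
      (powers_le_nonZeroDivisors_of_noZeroDivisors (det_mvPolynomialX_ne_zero (Fin n) k))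
  exact (toLoc_injective n k).isDomain (toLoc n k).toRingHom

end GLn

/-- Generic isotriviality. -/
theorem exists_isotrivial_open {P Q : Scheme.{u}} (π : P ⟶ Q) [Smooth π] [Surjective π]
    [IsIntegral Q] :
    ∃ (V : Q.Opens) (V' : Scheme.{u}) (f : V' ⟶ V) (s : V' ⟶ P), (V : Set Q).Nonempty ∧
      IsFinite f ∧ Etale f ∧ Surjective f ∧ s ≫ π = f ≫ V.ι := by
  obtain ⟨q⟩ : Nonempty Q := inferInstance
  obtain ⟨S', g, s', hg, hs', h, hh⟩ :=
    Groth.Agent.FlatA.EtaleSections.exists_section π q (Surjective.surj q)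
  obtain ⟨V₀, hV₀, hqV₀⟩ := exists_affine_mem Q q
  obtain ⟨U₀, hU₀, hsU₀, hle⟩ := exists_isAffineOpen_mem_and_subset (X := S') (x := s')
    (U := g ⁻¹ᵁ V₀) (by change g s' ∈ V₀; rw [hs']; exact hqV₀)
  have hVne : Nonempty V₀ := ⟨⟨q, hqV₀⟩⟩
  have hUne : Nonempty U₀ := ⟨⟨s', hsU₀⟩⟩
  have hdom : IsDomain Γ(Q, V₀) := inferInstance
  have hnt : Nontrivial Γ(S', U₀) := inferInstance
  let _ : Algebra Γ(Q, V₀) Γ(S', U₀) := (g.appLE V₀ U₀ hle).hom.toAlgebra
  have het : Algebra.Etale Γ(Q, V₀) Γ(S', U₀) := g.etale_appLE hV₀ hU₀ hle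
  obtain ⟨b, hb, B, _, _, _, _, _, hinj, hfin, hetB, ⟨ψ⟩, -⟩ :=
    Groth.Agent.Sga4h.LFinGalRing.exists_gal_ring (A := Γ(Q, V₀)) Γ(S', U₀)
  let jb : Spec (CommRingCat.of (Localization.Away b)) ⟶ Q :=
    Spec.map (CommRingCat.ofHom (algebraMap Γ(Q, V₀) (Localization.Away b))) ≫ hV₀.fromSpec
  have hjb : IsOpenImmersion jb := inferInstance
  let fB : Spec (CommRingCat.of B) ⟶ Spec (CommRingCat.of (Localization.Away b)) :=
    Spec.map (CommRingCat.ofHom (algebraMap (Localization.Away b) B))
  have h1 : IsFinite fB := by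
    rw [IsFinite.SpecMap_iff]
    exact RingHom.finite_algebraMap.2 hfin
  have h2 : Etale fB := by
    rw [HasRingHomProperty.Spec_iff (P := @Etale)]
    exact RingHom.etale_algebraMap.2 hetB
  have h3 : Surjective fB := by
    constructor
    exact (algebraMap_isIntegral_iff.2
      (Algebra.IsIntegral.of_finite (Localization.Away b) B)).comap_surjective hinj
  refine ⟨jb.opensRange, Spec (CommRingCat.of B), fB ≫ (jb.isoOpensRange).hom,
    Spec.map (CommRingCat.ofHom ψ.toRingHom) ≫ hU₀.fromSpec ≫ h, ?_, ?_, ?_, ?_, ?_⟩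
  · have : Nontrivial (Localization.Away b) := (IsLocalization.isDomain_localization
      (powers_le_nonZeroDivisors_of_noZeroDivisors hb)).toNontrivial
    obtain ⟨z⟩ : Nonempty (Spec (CommRingCat.of (Localization.Away b))) := inferInstance
    exact ⟨jb z, z, rfl⟩
  · infer_instance
  · infer_instance
  · infer_instance
  · rw [Category.assoc, Category.assoc, hh, Category.assoc, Scheme.Hom.isoOpensRange_hom_ι,
      ← IsAffineOpen.SpecMap_appLE_fromSpec g hV₀ hU₀ hle, ← Category.assoc, ← Category.assoc,
      ← Spec.map_comp, ← Spec.map_comp]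
    congr 2
    ext x
    exact (ψ.commutes x).trans (IsScalarTower.algebraMap_apply Γ(Q, V₀) (Localization.Away b) B x)

end K690.Isotriv
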