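import Mathlib.Algebra.Module.ZLattice.Basic
import Mathlib.Analysis.InnerProductSpace.Basic
import Mathlib.Analysis.InnerProductSpace.Calculus
import Mathlib.Analysis.Calculus.LocalExtr.Basic
import Mathlib.Analysis.Calculus.Deriv.Mul
import Mathlib.Analysis.Calculus.Deriv.Pow
import Mathlib.LinearAlgebra.Dual.Lemmas
import Mathlib.LinearAlgebra.Basis.VectorSpace
import Mathlib.Topology.Order.Compact
import Mathlib.Topology.Algebra.Module.FiniteDimension
import Mathlib.Tactic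

/-!
# Maximising `min of linear forms / norm` on a polyhedral cone of a lattice

Key facts towards Kempf's rationality lemma.
-/

set_option autoImplicit false
universe u

namespace K690.LatMax

variable {E : Type u} [NormedAddCommGroup E] [InnerProductSpace ℝ E]

section Rat

variable {ι : Type*} [Fintype ι] (B : Module.Basis ι ℝ E)

/-- Apply a `ℚ`-linear map `ℝ → ℚ` to the coordinates. -/
noncomputable def Phi (φ : ℝ →ₗ[ℚ] ℚ) (v : E) : E := ∑ i, ((φ (B.repr v i) : ℚ) : ℝ) • B i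

lemma apply_Phi (φ : ℝ →ₗ[ℚ] ℚ) (h : E →ₗ[ℝ] ℝ) (hq : ∀ i, ∃ q : ℚ, h (B i) = (q : ℝ)) (v : E) :
    h (Phi B φ v) = ((φ (h v) : ℚ) : ℝ) := by
  choose q hq using hq
  have h1 : h v = ∑ i, (q i) • B.repr v i := by
    conv_lhs => rw [← B.sum_repr v]
    rw [map_sum]
    refine Finset.sum_congr rfl fun i _ => ?_
    rw [map_smul, hq, smul_eq_mul, Rat.smul_def, mul_comm]
  rw [h1, map_sum, Phi, map_sum]
  push_cast
  refine Finset.sum_congr rfl fun i _ => ?_
  rw [map_smul, hq, map_smul, smul_eq_mul, smul_eq_mul]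
  push_cast
  ring

/-- A real number killed by all `ℚ`-linear maps `ℝ → ℚ` that kill `1` is rational. -/
lemma exists_rat_of_forall (x : ℝ) (h : ∀ φ : ℝ →ₗ[ℚ] ℚ, φ 1 = 0 → φ x = 0) :
    ∃ q : ℚ, x = (q : ℝ) := by
  by_contra hcon
  have hx : x ∉ Submodule.span ℚ {(1 : ℝ)} := by
    intro hx
    obtain ⟨q, hq⟩ := Submodule.mem_span_singleton.1 hx
    exact hcon ⟨q, by rw [← hq, Rat.smul_def, mul_one]⟩
  obtain ⟨φ, hφ, hφ'⟩ := Submodule.exists_le_ker_of_notMem hx
  exact hφ (h φ (hφ' (Submodule.subset_span rfl)))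

/-- The rationality argument: a vector `w` such that every rational direction killed by the active
forms is orthogonal to `w` has rational coordinates. -/
lemma repr_rat (hB : ∀ i j, ∃ q : ℚ, inner ℝ (B i) (B j) = (q : ℝ)) (w : E)
    (h : ∀ φ : ℝ →ₗ[ℚ] ℚ, φ 1 = 0 → inner ℝ w (Phi B φ w) = 0) (i : ι) :
    ∃ q : ℚ, B.repr w i = (q : ℝ) := by
  classical
  apply exists_rat_of_forall
  intro φ hφ
  have h1 := h φ hφ
  set d := Phi B φ w with hd
  let hh : E →ₗ[ℝ] ℝ := (innerₗ E).flip d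
  have hhd : ∀ v, hh v = inner ℝ v d := fun v => rfl
  have h2 : hh d = ((φ (hh w) : ℚ) : ℝ) := by
    conv_lhs => rw [hd]
    apply apply_Phi
    intro j
    choose q hq using hB
    refine ⟨∑ l, φ (B.repr w l) * q j l, ?_⟩
    rw [hhd, hd, Phi, inner_sum]
    push_cast
    refine Finset.sum_congr rfl fun l _ => ?_
    rw [inner_smul_right, hq]
  rw [hhd, hhd, h1, map_zero, Rat.cast_zero, inner_self_eq_zero] at h2
  have h3 : B.repr d i = ((φ (B.repr w i) : ℚ) : ℝ) := by
    rw [hd, Phi, map_sum, Finsupp.finsetSum_apply, Finset.sum_eq_single i]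
    · simp
    · intro j _ hj
      simp [Finsupp.single_eq_of_ne (Ne.symm hj)]
    · simp
  rw [h2] at h3
  simpa using h3.symm

end Rat

section Orth

/-- If `‖w‖ ≤ ‖w + t d‖` for all small `t` then `w ⊥ d`. -/
lemma inner_eq_zero_of_eventually (w d : E)
    (h : ∀ᶠ t in nhds (0 : ℝ), ‖w‖ ≤ ‖w + t • d‖) : inner ℝ w d = 0 := by
  have h1 : ∀ t : ℝ, ‖w + t • d‖ ^ 2 = ‖w‖ ^ 2 + (2 * inner ℝ w d) * t + ‖d‖ ^ 2 * t ^ 2 := by
    intro t
    rw [norm_add_sq_real, inner_smul_right, norm_smul, mul_pow, Real.norm_eq_abs, sq_abs]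
    ring
  let f : ℝ → ℝ := fun t => ‖w‖ ^ 2 + (2 * inner ℝ w d) * t + ‖d‖ ^ 2 * t ^ 2
  have h2 : IsLocalMin f 0 := by
    filter_upwards [h] with t ht
    change f 0 ≤ f t
    have h3 : f 0 = ‖w‖ ^ 2 := by simp [f]
    have h4 : f t = ‖w + t • d‖ ^ 2 := (h1 t).symm
    rw [h3, h4]
    gcongr
  have h3 : HasDerivAt f (2 * inner ℝ w d) 0 := by
    have h4 : HasDerivAt f (0 + (2 * inner ℝ w d) * 1 + ‖d‖ ^ 2 * (2 * (0 : ℝ) ^ 1 * 1)) 0 := by
      apply HasDerivAt.add
      · apply HasDerivAt.add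
        · exact hasDerivAt_const _ _
        · exact HasDerivAt.const_mul _ (hasDerivAt_id' (0 : ℝ))
      · refine HasDerivAt.const_mul _ ?_
        simpa using hasDerivAt_pow 2 (0 : ℝ)
    convert h4 using 1
    ring
  have h4 := h2.hasDerivAt_eq_zero h3
  linarith

/-- Linear forms with `c ≤ f w`, equality implying `f d = 0`, stay `≥ c` near `w` along `d`. -/
lemma eventually_le (f : E →ₗ[ℝ] ℝ) (c : ℝ) (w d : E) (h : c ≤ f w) (h' : f w = c → f d = 0) :
    ∀ᶠ t in nhds (0 : ℝ), c ≤ f (w + t • d) := by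
  have h1 : ∀ t : ℝ, f (w + t • d) = f w + t * f d := by
    intro t; rw [map_add, map_smul, smul_eq_mul]
  simp only [h1]
  rcases h.eq_or_lt with h0 | h0
  · rw [h' h0.symm]
    simp [h0]
  · have hc : Continuous fun t : ℝ => f w + t * f d := by fun_prop
    have h2 : ∀ᶠ t in nhds (0 : ℝ), c < f w + t * f d := by
      apply (hc.tendsto 0).eventually_const_lt
      simpa using h0
    exact h2.mono fun t ht => ht.le

end Orth

end K690.LatMax
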