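import Groth.Prelude.Def_NonAbH2
import Groth.Prelude.Def_W4bk4git07Quot
import Groth.Agent.Desc.FpqcRefine
import Mathlib.AlgebraicGeometry.Sites.Fpqc
import Mathlib.AlgebraicGeometry.Morphisms.FlatDescent
import Mathlib.AlgebraicGeometry.Limits

/-!
# Morphisms of schemes with local sections for the fpqc topology

* `LS f`: `f` acquires sections on an fpqc covering family of the target.
* `LS.effectiveEpi`, `LS.surjective`, `LS.isUnivSubmersive`.
* `LS.exists_affine`: over an affine open `V` of the target there is a faithfully flat `T ⟶ V` with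
  `T` affine and a lift `T ⟶ X`.
* `prop_of_base`: descent of properties of `f` from its base changes.
-/

set_option autoImplicit false

universe u

open CategoryTheory CategoryTheory.Limits AlgebraicGeometry

namespace K690.LocSec

/-- The morphism `f` has sections on the members of an fpqc covering family. -/
abbrev LS {X Y : Scheme.{u}} (f : X ⟶ Y) : Prop :=
  NonAbH1.IsLocallyTrivialFor Scheme.fpqcPrecoverage (Over.mk f : Over Y)

variable {X Y : Scheme.{u}} {f : X ⟶ Y}

/-- Sections give local sections. -/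
lemma LS.of_section {s : Y ⟶ X} (h : s ≫ f = 𝟙 Y) : LS f := by
  refine ⟨Presieve.singleton (𝟙 Y), Precoverage.mem_coverings_of_isIso (𝟙 Y), ?_⟩
  rintro S' g ⟨⟩
  exact ⟨s, h⟩

/-- Stability under base change. -/
lemma LS.of_isPullback {X' Y' : Scheme.{u}} {f' : X' ⟶ Y'} {g' : X' ⟶ X} {g : Y' ⟶ Y}
    (H : IsPullback g' f' f g) (h : LS f) : LS f' := by
  obtain ⟨R, hR, hRs⟩ := h
  obtain ⟨I, V, v, rfl⟩ := R.exists_eq_ofArrows
  have ht : ∀ i : I, ∃ t : V i ⟶ X, t ≫ f = v i := fun i => hRs (v i) (Presieve.ofArrows.mk i)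
  choose t ht using ht
  refine ⟨_, Precoverage.mem_coverings_of_isPullback v hR g (fun i => pullback.fst g (v i))
    (fun i => pullback.snd g (v i)) (fun i => IsPullback.of_hasPullback _ _), ?_⟩
  rintro S' h ⟨i⟩
  refine ⟨H.lift (pullback.snd g (v i) ≫ t i) (pullback.fst g (v i)) ?_, H.lift_snd _ _ _⟩
  rw [Category.assoc, ht, pullback.condition]

/-- The sieve generated by a morphism with local sections is covering. -/
lemma LS.generate_mem (h : LS f) :
    Sieve.generate (Presieve.singleton f) ∈ Scheme.fpqcTopology Y := by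
  obtain ⟨R, hR, hRs⟩ := h
  refine GrothendieckTopology.superset_covering _ ?_
    (Precoverage.generate_mem_toGrothendieck hR)
  rw [Sieve.generate_le_iff]
  intro Z g hg
  obtain ⟨s, hs⟩ := hRs g hg
  exact ⟨X, s, f, Presieve.singleton.mk, hs⟩

/-- Morphisms with local sections are effective epimorphisms. -/
lemma LS.effectiveEpi (h : LS f) : EffectiveEpi f := by
  rw [← Sieve.effectiveEpimorphic_singleton,
    Presieve.EffectiveEpimorphic.iff_forall_isSheafFor_yoneda]
  intro Z
  exact (GrothendieckTopology.Subcanonical.isSheaf_of_isRepresentable _).isSheafFor _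
    h.generate_mem

/-- Over an affine open of the target there is a faithfully flat affine cover with a lift. -/
lemma LS.exists_affine (h : LS f) (V : Y.Opens) (hV : IsAffineOpen V) :
    ∃ (T : Scheme.{u}) (p : T ⟶ (V : Scheme.{u})) (s : T ⟶ X), IsAffine T ∧ Flat p ∧
      Surjective p ∧ QuasiCompact p ∧ s ≫ f = p ≫ V.ι := by
  obtain ⟨R, hR, hRs⟩ := h
  obtain ⟨I, U, v, rfl⟩ := R.exists_eq_ofArrows
  have ht : ∀ i : I, ∃ t : U i ⟶ X, t ≫ f = v i := fun i => hRs (v i) (Presieve.ofArrows.mk i)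
  choose t ht using ht
  have hR' := Precoverage.mem_coverings_of_isPullback v hR V.ι (fun i => pullback.fst V.ι (v i))
    (fun i => pullback.snd V.ι (v i)) (fun i => IsPullback.of_hasPullback _ _)
  have : IsAffine (V : Scheme.{u}) := hV
  obtain ⟨n, W, α, p, hp, hW, hpf, hsurj⟩ :=
    Groth.Agent.Desc.FpqcRefine.exists_refine (fun i => pullback.fst V.ι (v i)) hR'
  refine ⟨∐ W, Sigma.desc fun k => p k ≫ pullback.fst V.ι (v (α k)),
    Sigma.desc fun k => p k ≫ pullback.snd V.ι (v (α k)) ≫ t (α k), inferInstance, ?_, ?_, ?_, ?_⟩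
  · infer_instance
  · constructor
    intro y
    obtain ⟨k, w, hw⟩ := hsurj y
    refine ⟨Sigma.ι W k w, ?_⟩
    rw [← Scheme.Hom.comp_apply, Sigma.ι_desc]
    exact hw
  · infer_instance
  · apply Sigma.hom_ext
    intro k
    rw [Sigma.ι_desc_assoc, Sigma.ι_desc_assoc, Category.assoc, Category.assoc, ht, Category.assoc,
      pullback.condition]

lemma exists_affine_mem (Y : Scheme.{u}) (y : Y) : ∃ V : Y.Opens, IsAffineOpen V ∧ y ∈ V := by
  obtain ⟨_, ⟨V, hV, rfl⟩, hyV, -⟩ :=
    Y.isBasis_affineOpens.exists_subset_of_mem_open (Set.mem_univ y) isOpen_univ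
  exact ⟨V, hV, hyV⟩

lemma LS.surjective (h : LS f) : Surjective f := by
  constructor
  intro y
  obtain ⟨V, hV, hyV⟩ := exists_affine_mem Y y
  obtain ⟨T, p, s, -, -, hp, -, hsp⟩ := h.exists_affine V hV
  obtain ⟨t, ht⟩ := hp.1 ⟨y, hyV⟩
  refine ⟨s t, ?_⟩
  rw [← Scheme.Hom.comp_apply, hsp, Scheme.Hom.comp_apply, ht]
  rfl

lemma LS.isQuotientMap (h : LS f) : Topology.IsQuotientMap f := by
  rw [Topology.isQuotientMap_iff, Topology.isCoinducing_iff]
  refine ⟨fun Z => ⟨fun hZ => ?_, fun hZ => hZ.preimage f.continuous⟩, h.surjective.1⟩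
  rw [isOpen_iff_forall_mem_open]
  intro y hy
  obtain ⟨V, hV, hyV⟩ := exists_affine_mem Y y
  obtain ⟨T, p, s, _, _, _, _, hsp⟩ := h.exists_affine V hV
  have hq := Flat.isQuotientMap_of_surjective p
  have h1 : IsOpen ((V.ι : V.toScheme → Y) ⁻¹' Z) := by
    rw [← hq.isOpen_preimage]
    have h2 : (p : T → V.toScheme) ⁻¹' ((V.ι : V.toScheme → Y) ⁻¹' Z) =
        (s : T → X) ⁻¹' ((f : X → Y) ⁻¹' Z) := by
      ext t
      simp only [Set.mem_preimage]
      rw [← Scheme.Hom.comp_apply, ← Scheme.Hom.comp_apply, hsp]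
    rw [h2]
    exact hZ.preimage s.continuous
  refine ⟨V.ι '' ((V.ι : V.toScheme → Y) ⁻¹' Z), ?_, ?_, ⟨⟨y, hyV⟩, hy, rfl⟩⟩
  · rintro _ ⟨x, hx, rfl⟩
    exact hx
  · exact V.ι.isOpenEmbedding.isOpenMap _ h1

lemma LS.isUnivSubmersive (h : LS f) : GIT.IsUnivSubmersive f := by
  intro X' Y' i₁ i₂ f' H
  exact (LS.of_isPullback H.flip h).isQuotientMap

end K690.LocSec
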