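import Groth.Prelude.Def_GLin
import Groth.Agent.Books.ComodInv
import Mathlib.RingTheory.HopfAlgebra.Basic
import Mathlib.RingTheory.HopfAlgebra.Convolution
import Mathlib.RingTheory.Nullstellensatz
import Mathlib.FieldTheory.IsAlgClosed.Basic
import Mathlib.RingTheory.Spectrum.Prime.Topology

/-!
# Orbits of rational points of affine schemes with a coaction

* `orbitHom_actPt`: the orbit map of a moved point.
* `isComodHom_orbitHom`, `isSubcomod_ker_orbitHom`.
* `exists_actPt_of_mem_range`: rational points in the image of the orbit map are moved points.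
* `exists_invariant_sub_mem`: for a linearly reductive group, disjoint invariant closed subsets are
  separated by an invariant function.
-/

set_option autoImplicit false

universe u v w

open TensorProduct HopfRep GLin

namespace K690.Orbits

section Basic

variable {k : Type u} [CommRing k] {A : Type v} [CommRing A] [Bialgebra k A]
  {R : Type w} [CommRing R] [Algebra k R] [HopfRep.Comod k A R] [IsCoactAlg k A R]

lemma orbitHom_apply (x : R →ₐ[k] k) (f : R) :
    orbitHom k A x f = TensorProduct.lid k A (x.toLinearMap.rTensor A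
      (Comod.coact (k := k) (A := A) f)) := by
  simp only [orbitHom, AlgHom.comp_apply, coactAlgHom_apply]
  generalize Comod.coact (k := k) (A := A) f = z
  induction z with
  | zero => simp
  | tmul a b => simp
  | add a b ha hb => simp only [map_add, ha, hb]

/-- The counit recovers the point from its orbit map. -/
lemma counit_orbitHom (x : R →ₐ[k] k) (f : R) :
    Coalgebra.counit (R := k) (orbitHom k A x f) = x f := by
  rw [orbitHom_apply]
  have h1 : ∀ z : R ⊗[k] A, Coalgebra.counit (R := k) (TensorProduct.lid k A
      (x.toLinearMap.rTensor A z)) = TensorProduct.lid k k (x.toLinearMap.rTensor k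
        ((CoalgebraStruct.counit (R := k) (A := A)).lTensor R z)) := by
    intro z
    induction z with
    | zero => simp
    | tmul a b => simp
    | add a b ha hb => simp only [map_add, ha, hb]
  have h3 := LinearMap.congr_fun (Comod.counit_comp (k := k) (A := A) (V := R)) f
  simp only [LinearMap.comp_apply] at h3
  rw [h1, h3]
  simp

lemma counitAlgHom_comp_orbitHom (x : R →ₐ[k] k) :
    (Bialgebra.counitAlgHom k A).comp (orbitHom k A x) = x :=
  AlgHom.ext fun f => counit_orbitHom x f

/-- Moving by the neutral element. -/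
lemma actPt_counit (x : R →ₐ[k] k) : actPt k (Bialgebra.counitAlgHom k A) x = x :=
  counitAlgHom_comp_orbitHom x

instance : IsCoactAlg k A A where
  coact_one := Bialgebra.comul_one
  coact_mul := Bialgebra.comul_mul

/-- Translation by a rational point of the group on the coordinate ring: `a ↦ ∑ g(a₁) a₂`. -/
noncomputable def trans (g : A →ₐ[k] k) : A →ₐ[k] A := orbitHom k A g

lemma trans_apply (g : A →ₐ[k] k) (a : A) :
    trans g a = TensorProduct.lid k A (g.toLinearMap.rTensor A
      (Coalgebra.comul (R := k) a)) := orbitHom_apply g a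

/-- The orbit map of a moved point. -/
lemma orbitHom_actPt (g : A →ₐ[k] k) (x : R →ₐ[k] k) :
    orbitHom k A (actPt k g x) = (trans g).comp (orbitHom k A x) := by
  apply AlgHom.ext
  intro f
  rw [AlgHom.comp_apply, orbitHom_apply, trans_apply, orbitHom_apply]
  have h1 : ∀ y : R ⊗[k] A, (actPt k g x).toLinearMap.rTensor A y =
      g.toLinearMap.rTensor A ((TensorProduct.lid k (A ⊗[k] A)) (x.toLinearMap.rTensor (A ⊗[k] A)
        ((TensorProduct.assoc k R A A) ((Comod.coact (k := k) (A := A)).rTensor A y)))) := by
    intro y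
    induction y with
    | zero => simp
    | tmul r a =>
      rw [LinearMap.rTensor_tmul, LinearMap.rTensor_tmul]
      have : (actPt k g x).toLinearMap r = g (TensorProduct.lid k A (x.toLinearMap.rTensor A
        (Comod.coact (k := k) (A := A) r))) := by
        rw [← orbitHom_apply]; rfl
      rw [this]
      generalize Comod.coact (k := k) (A := A) r = z
      induction z with
      | zero => simp
      | tmul x' a' => simp [TensorProduct.smul_tmul']
      | add z z' hz hz' => simp only [map_add, add_tmul, hz, hz']
    | add y y' hy hy' => simp only [map_add, hy, hy']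
  have h2 : ∀ y : R ⊗[k] A, (TensorProduct.lid k (A ⊗[k] A)) (x.toLinearMap.rTensor (A ⊗[k] A)
      ((CoalgebraStruct.comul (R := k) (A := A)).lTensor R y)) =
      Coalgebra.comul (R := k) (TensorProduct.lid k A (x.toLinearMap.rTensor A y)) := by
    intro y
    induction y with
    | zero => simp
    | tmul x a => simp
    | add y y' hy hy' => simp only [map_add, hy, hy']
  have h3 := LinearMap.congr_fun (Comod.coassoc (k := k) (A := A) (V := R)) f
  simp only [LinearMap.comp_apply, LinearEquiv.coe_coe] at h3
  rw [h1, h3, h2]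

/-- The product of two rational points of the group. -/
noncomputable def mulPt (g h : A →ₐ[k] k) : A →ₐ[k] k := actPt k h g

lemma actPt_actPt (g h : A →ₐ[k] k) (x : R →ₐ[k] k) :
    actPt k h (actPt k g x) = actPt k (mulPt g h) x := by
  rw [actPt, orbitHom_actPt]
  rfl

end Basic

section Hopf

variable {k : Type u} [CommRing k] {A : Type v} [CommRing A] [HopfAlgebra k A]
  {R : Type w} [CommRing R] [Algebra k R] [HopfRep.Comod k A R] [IsCoactAlg k A R]

/-- The inverse of a rational point of the group. -/
noncomputable def invPt (g : A →ₐ[k] k) : A →ₐ[k] k := g.comp (HopfAlgebra.antipodeAlgHom k A)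

lemma mulPt_invPt (g : A →ₐ[k] k) : mulPt g (invPt g) = Bialgebra.counitAlgHom k A := by
  apply AlgHom.ext
  intro a
  change g (HopfAlgebra.antipode k (orbitHom k A g a)) = Coalgebra.counit (R := k) a
  rw [orbitHom_apply]
  have h1 : ∀ y : A ⊗[k] A, g (HopfAlgebra.antipode k (TensorProduct.lid k A
      (g.toLinearMap.rTensor A y))) =
      g (LinearMap.mul' k A ((HopfAlgebra.antipode k).lTensor A y)) := by
    intro y
    induction y with
    | zero => simp
    | tmul x a => simp
    | add y y' hy hy' => simp only [map_add, hy, hy']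
  rw [h1]
  have h2 := HopfAlgebra.mul_antipode_lTensor_comul_apply (R := k) a
  have h3 : Comod.coact (k := k) (A := A) a = Coalgebra.comul (R := k) a := rfl
  rw [h3, h2]
  simp

lemma actPt_invPt_actPt (g : A →ₐ[k] k) (x : R →ₐ[k] k) :
    actPt k (invPt g) (actPt k g x) = x := by
  rw [actPt_actPt, mulPt_invPt, actPt_counit]

end Hopf

section Field

variable {k : Type u} [Field k] {A : Type v} [CommRing A] [Bialgebra k A]
  {R : Type w} [CommRing R] [Algebra k R] [HopfRep.Comod k A R] [IsCoactAlg k A R]

open Groth.Agent.Books.ComodBasic Groth.Agent.Books.ComodHom Groth.Agent.Books.ComodInv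

lemma orbitHom_eq_coeffMap (x : R →ₐ[k] k) :
    (orbitHom k A x).toLinearMap = coeffMap A x.toLinearMap :=
  LinearMap.ext fun f => orbitHom_apply x f

lemma isComodHom_orbitHom (x : R →ₐ[k] k) : IsComodHom k A (orbitHom k A x).toLinearMap := by
  rw [orbitHom_eq_coeffMap]
  exact isComodHom_coeffMap _

lemma isSubcomod_ker_orbitHom (x : R →ₐ[k] k) :
    IsSubcomod (k := k) (A := A) ((RingHom.ker (orbitHom k A x)).restrictScalars k) := by
  have := (isComodHom_orbitHom (A := A) x).isSubcomod_ker
  convert this using 1
  ext r
  simp [RingHom.mem_ker]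

end Field

section Closed

variable {k : Type u} [Field k] [IsAlgClosed k] {A : Type v} [CommRing A] [Bialgebra k A]
  [Algebra.FiniteType k A]
  {R : Type w} [CommRing R] [Algebra k R] [HopfRep.Comod k A R] [IsCoactAlg k A R]

/-- A nonzero finitely generated algebra over an algebraically closed field has a rational
point. -/
lemma exists_point_of_ne_top {B : Type*} [CommRing B] [Algebra k B] [Algebra.FiniteType k B]
    (I : Ideal B) (hI : I ≠ ⊤) : ∃ x : B →ₐ[k] k, I ≤ RingHom.ker x := by
  obtain ⟨M, hM, hIM⟩ := Ideal.exists_le_maximal I hI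
  let : Field (B ⧸ M) := Ideal.Quotient.field M
  have hft : Algebra.FiniteType k (B ⧸ M) := inferInstance
  have hfin : Module.Finite k (B ⧸ M) := finite_of_finite_type_of_isJacobsonRing k (B ⧸ M)
  have hbij : Function.Bijective (algebraMap k (B ⧸ M)) :=
    IsAlgClosed.algebraMap_bijective_of_isIntegral
  let e : k ≃ₐ[k] (B ⧸ M) := AlgEquiv.ofBijective (Algebra.ofId k (B ⧸ M)) hbij
  refine ⟨(e.symm : (B ⧸ M) →ₐ[k] k).comp (Ideal.Quotient.mkₐ k M), ?_⟩
  intro b hb
  rw [RingHom.mem_ker]
  have : Ideal.Quotient.mkₐ k M b = 0 := Ideal.Quotient.eq_zero_iff_mem.2 (hIM hb)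
  simp only [AlgHom.comp_apply]
  rw [this, map_zero]

/-- If the rational point `z` lies in the image of the orbit morphism of `x`, then `z` is `x` moved
by a rational point of the group. -/
lemma exists_actPt_of_mem_range {x z : R →ₐ[k] k} [Nontrivial R]
    (h : (⟨RingHom.ker z, RingHom.ker_isPrime z⟩ : PrimeSpectrum R) ∈
      Set.range (PrimeSpectrum.comap (orbitHom k A x).toRingHom)) :
    ∃ g : A →ₐ[k] k, z = actPt k g x := by
  obtain ⟨p, hp⟩ := h
  have hp' : p.asIdeal.comap (orbitHom k A x).toRingHom = RingHom.ker z :=
    congrArg PrimeSpectrum.asIdeal hp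
  have hle : (RingHom.ker z).map (orbitHom k A x).toRingHom ≤ p.asIdeal := by
    rw [Ideal.map_le_iff_le_comap, hp']
  have hne : (RingHom.ker z).map (orbitHom k A x).toRingHom ≠ ⊤ :=
    fun h => p.2.ne_top (top_le_iff.1 (h ▸ hle))
  obtain ⟨g, hg⟩ := exists_point_of_ne_top (k := k) _ hne
  refine ⟨g, ?_⟩
  have hker : RingHom.ker z ≤ RingHom.ker (g.comp (orbitHom k A x)) := by
    intro r hr
    rw [RingHom.mem_ker, AlgHom.comp_apply]
    exact hg (Ideal.mem_map_of_mem _ hr)
  apply AlgHom.ext
  intro r
  have : r - algebraMap k R (z r) ∈ RingHom.ker z := by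
    rw [RingHom.mem_ker, map_sub, AlgHom.commutes]
    simp
  have h2 := hker this
  rw [RingHom.mem_ker, map_sub, AlgHom.commutes, sub_eq_zero] at h2
  exact h2.symm

/-- For a closed orbit, membership of a rational point in the orbit closure means that the point is
moved from the base point. -/
lemma exists_actPt_of_ker_le {x z : R →ₐ[k] k} (hx : IsClosedOrbit k A x)
    (h : RingHom.ker (orbitHom k A x) ≤ RingHom.ker z) :
    ∃ g : A →ₐ[k] k, z = actPt k g x := by
  have : Nontrivial R := z.toRingHom.domain_nontrivial
  apply exists_actPt_of_mem_range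
  rw [← IsClosed.closure_eq hx, PrimeSpectrum.closure_range_comap]
  exact h

end Closed

section Reductive

variable {k : Type u} [Field k] {A : Type v} [CommRing A] [Bialgebra k A]
  {R : Type v} [CommRing R] [Algebra k R] [HopfRep.Comod k A R] [IsCoactAlg k A R]

open Groth.Agent.Books.ComodBasic Groth.Agent.Books.ComodHom Groth.Agent.Books.ComodInv

lemma one_mem_fixedPts : (1 : R) ∈ fixedPts k A R := by
  rw [mem_fixedPts_iff, IsCoactAlg.coact_one (k := k) (A := A) (R := R),
    Algebra.TensorProduct.one_def]

/-- For a linearly reductive group, two disjoint invariant closed subschemes are separated by an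
invariant function: there is an invariant `a ∈ I` with `1 - a ∈ J`. -/
theorem exists_invariant_sub_mem (hG : IsLinearlyReductive k A) (I J : Ideal R)
    (hI : IsSubcomod (k := k) (A := A) (I.restrictScalars k))
    (hJ : IsSubcomod (k := k) (A := A) (J.restrictScalars k)) (hIJ : I ⊔ J = ⊤) :
    ∃ a ∈ invariants k A R, a ∈ I ∧ 1 - a ∈ J := by
  let _ := subComod (k := k) (A := A) (I.restrictScalars k) hI
  let _ := quotComod (k := k) (A := A) (J.restrictScalars k) hJ
  have hs := isComodHom_subtype (k := k) (A := A) (I.restrictScalars k) hI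
  have hq := isComodHom_mkQ (k := k) (A := A) (J.restrictScalars k) hJ
  have hone : (1 : R) ∈ I ⊔ J := by rw [hIJ]; trivial
  obtain ⟨a, ha, b, hb, hab⟩ := Submodule.mem_sup.1 hone
  have hf := hq.comp hs
  have hw : (J.restrictScalars k).mkQ (1 : R) ∈ fixedPts k A (R ⧸ J.restrictScalars k) :=
    IsComodHom.map_mem_fixedPts hq one_mem_fixedPts
  have hva : ((J.restrictScalars k).mkQ ∘ₗ (I.restrictScalars k).subtype) ⟨a, ha⟩ =
      (J.restrictScalars k).mkQ (1 : R) := by
    simp only [LinearMap.comp_apply, Submodule.subtype_apply, Submodule.mkQ_apply]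
    rw [Submodule.Quotient.eq, ← hab]
    simpa using hb
  obtain ⟨v', hv', hv''⟩ := exists_fixed_lift hG hf hw hva
  refine ⟨(v' : R), IsComodHom.map_mem_fixedPts hs hv', v'.2, ?_⟩
  simp only [LinearMap.comp_apply, Submodule.subtype_apply, Submodule.mkQ_apply] at hv''
  have h3 := (Submodule.Quotient.eq _).1 hv''.symm
  exact h3

end Reductive

end K690.Orbits
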