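import Groth.Prelude.Def_QuotSh
import Groth.Prelude.Def_ChGrp
import Groth.Prelude.Def_W4bk4git07Quot
import Groth.Prelude.Def_NonAbH2
import Mathlib.CategoryTheory.Sites.LocallyBijective
import Mathlib.CategoryTheory.Sites.EpiMono

/-!
# Quotient sheaves by group actions: local sections

If `q : X ⟶ Y` is a quotient of `X` by the action of `G` for the topology generated by a
precoverage `K` (stable under base change and composition), then `q` has sections `K`-locally and
two points of `X` with the same image differ `K`-locally by a point of `G`.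
-/

set_option autoImplicit false

universe u

open CategoryTheory CategoryTheory.Limits MonoidalCategory CartesianMonoidalCategory MonObj
  AlgebraicGeometry Opposite

namespace K690.QuotShLoc

open AlgGrp.Action

section Presheaf

variable {S : Scheme.{u}} {G X Y : Over S} [GrpObj G] (a : AlgGrp.Action G X)

/-- The orbit relation on `T`-points. -/
def orbSetoid (T : Over S) : Setoid (T ⟶ X) where
  r x x' := ∃ g : T ⟶ G, x = lift g x' ≫ a.act
  iseqv := by
    refine ⟨fun x => ⟨1, (lift_one_act a x).symm⟩, ?_, ?_⟩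
    · rintro x x' ⟨g, hg⟩
      refine ⟨g⁻¹, ?_⟩
      rw [hg, ← lift_mul_act, inv_mul_cancel, lift_one_act]
    · rintro x x' x'' ⟨g, hg⟩ ⟨g', hg'⟩
      exact ⟨g * g', by rw [hg, hg', lift_mul_act]⟩

/-- The presheaf of orbits. -/
def orbPre : (Over S)ᵒᵖ ⥤ Type (u + 1) where
  obj T := ULift.{u + 1} (Quotient (orbSetoid a T.unop))
  map {T T'} f := ↾fun z => ⟨Quotient.map (fun x : T.unop ⟶ X => f.unop ≫ x) (by
    rintro x x' ⟨g, hg⟩
    refine ⟨f.unop ≫ g, ?_⟩
    change f.unop ≫ x = lift (f.unop ≫ g) (f.unop ≫ x') ≫ a.act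
    rw [hg, comp_lift_assoc]) z.down⟩
  map_id T := by
    ext ⟨z⟩
    obtain ⟨x, rfl⟩ := Quotient.exists_rep z
    change Quotient.mk (orbSetoid a T.unop) (𝟙 _ ≫ x) = Quotient.mk _ x
    rw [Category.id_comp]
  map_comp {T T' T''} f g := by
    ext ⟨z⟩
    obtain ⟨x, rfl⟩ := Quotient.exists_rep z
    change Quotient.mk (orbSetoid a T''.unop) ((g.unop ≫ f.unop) ≫ x) =
      Quotient.mk _ (g.unop ≫ f.unop ≫ x)
    rw [Category.assoc]

/-- The projection to orbits. -/
def orbπ : yoneda.obj X ⋙ uliftFunctor.{u + 1, u} ⟶ orbPre a where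
  app T := ↾fun z => ⟨Quotient.mk (orbSetoid a T.unop) z.down⟩
  naturality {T T'} f := by
    ext ⟨z⟩
    rfl

lemma orbπ_condition :
    Functor.whiskerRight (yoneda.map a.act) uliftFunctor.{u + 1, u} ≫ orbπ a =
      Functor.whiskerRight (yoneda.map (snd G X)) uliftFunctor.{u + 1, u} ≫ orbπ a := by
  ext T ⟨z⟩
  change ULift.up (Quotient.mk (orbSetoid a T.unop) (z ≫ a.act)) =
    ULift.up (Quotient.mk (orbSetoid a T.unop) (z ≫ snd G X))
  congr 1
  apply Quotient.sound
  refine ⟨z ≫ fst G X, ?_⟩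
  rw [← comp_lift, lift_fst_snd, Category.comp_id]

end Presheaf

variable (K : Precoverage Scheme.{u}) {S : Scheme.{u}} {G X Y : Over S} [GrpObj G]
  (a : AlgGrp.Action G X) (q : X ⟶ Y)

/-- The map from the quotient sheaf to the sheafified presheaf of orbits. -/
noncomputable def toOrb : QuotSh.quot K a.act (snd G X) ⟶
    (presheafToSheaf (QuotSh.J K S) (Type (u + 1))).obj (orbPre a) :=
  coequalizer.desc ((presheafToSheaf (QuotSh.J K S) (Type (u + 1))).map (orbπ a)) (by
    rw [← Functor.map_comp, ← Functor.map_comp, orbπ_condition])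

lemma quotπ_toOrb : QuotSh.quotπ K a.act (snd G X) ≫ toOrb K a =
    (presheafToSheaf (QuotSh.J K S) (Type (u + 1))).map (orbπ a) :=
  coequalizer.π_desc _ _

/-- Two points with the same image differ locally by the group. -/
theorem orbit_sieve_mem (hq : QuotSh.IsQuotient K a.act (snd G X) q) {T : Over S} (x x' : T ⟶ X)
    (hx : x ≫ q = x' ≫ q) :
    ∃ R : Sieve T, R ∈ QuotSh.J K S T ∧ ∀ ⦃W : Over S⦄ (f : W ⟶ T), R f →
      ∃ g : W ⟶ G, f ≫ x = lift g (f ≫ x') ≫ a.act := by
  obtain ⟨w, hw⟩ := hq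
  let J := QuotSh.J K S
  let F : (Over S)ᵒᵖ ⥤ Type (u + 1) := yoneda.obj X ⋙ uliftFunctor.{u + 1, u}
  let FY : (Over S)ᵒᵖ ⥤ Type (u + 1) := yoneda.obj Y ⋙ uliftFunctor.{u + 1, u}
  let e : (T ⟶ X) → F.obj (op T) := fun x => ULift.up x
  let m : F ⟶ FY := Functor.whiskerRight (yoneda.map q) uliftFunctor.{u + 1, u}
  have h1 : m.app (op T) (e x) = m.app (op T) (e x') := by
    change ULift.up (x ≫ q) = ULift.up (x' ≫ q)
    rw [hx]
  have h2 : (QuotSh.repMap K q).hom.app (op T) ((toSheafify J F).app (op T) (e x)) =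
      (QuotSh.repMap K q).hom.app (op T) ((toSheafify J F).app (op T) (e x')) := by
    have h3 : ∀ y : F.obj (op T), (QuotSh.repMap K q).hom.app (op T)
        ((toSheafify J F).app (op T) y) = (toSheafify J FY).app (op T) (m.app (op T) y) := by
      intro y
      have := NatTrans.congr_app (toSheafify_naturality J m) (op T)
      exact (ConcreteCategory.congr_hom this y).symm
    rw [h3, h3, h1]
  have h3 : QuotSh.repMap K q = QuotSh.quotπ K a.act (snd G X) ≫ QuotSh.quotDesc K q w :=
    (coequalizer.π_desc _ _).symm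
  have h4 : (QuotSh.quotπ K a.act (snd G X)).hom.app (op T)
      ((toSheafify J F).app (op T) (e x)) =
      (QuotSh.quotπ K a.act (snd G X)).hom.app (op T)
        ((toSheafify J F).app (op T) (e x')) := by
    have h5 : QuotSh.repMap K q ≫ inv (QuotSh.quotDesc K q w) =
        QuotSh.quotπ K a.act (snd G X) := by
      rw [h3, Category.assoc, IsIso.hom_inv_id, Category.comp_id]
    rw [← h5]
    exact congrArg (fun z => (inv (QuotSh.quotDesc K q w)).hom.app (op T) z) h2
  have h6 : (toSheafify J (orbPre a)).app (op T) ((orbπ a).app (op T) (e x)) =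
      (toSheafify J (orbPre a)).app (op T) ((orbπ a).app (op T) (e x')) := by
    have h7 : ∀ y : F.obj (op T), (toSheafify J (orbPre a)).app (op T) ((orbπ a).app (op T) y) =
        (toOrb K a).hom.app (op T) ((QuotSh.quotπ K a.act (snd G X)).hom.app (op T)
          ((toSheafify J F).app (op T) y)) := by
      intro y
      have h8 := NatTrans.congr_app (toSheafify_naturality J (orbπ a)) (op T)
      have h9 := ConcreteCategory.congr_hom h8 y
      refine Eq.trans h9 ?_
      have h10 : sheafifyMap J (orbπ a) =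
          (QuotSh.quotπ K a.act (snd G X) ≫ toOrb K a).hom := by
        rw [quotπ_toOrb]
      rw [h10]
      rfl
    rw [h7, h7, h4]
  refine ⟨_, Presheaf.equalizerSieve_mem J (toSheafify J (orbPre a)) _ _ h6, ?_⟩
  intro W f hf
  have h11 : (orbPre a).map f.op ((orbπ a).app (op T) (e x)) =
      (orbPre a).map f.op ((orbπ a).app (op T) (e x')) := hf
  have h12 := congrArg ULift.down h11
  obtain ⟨g, hg⟩ := Quotient.exact h12
  exact ⟨g, hg⟩

/-- The quotient map has sections locally. -/
theorem section_sieve_mem (hq : QuotSh.IsQuotient K a.act (snd G X) q) :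
    ∃ R : Sieve Y, R ∈ QuotSh.J K S Y ∧ ∀ ⦃W : Over S⦄ (f : W ⟶ Y), R f →
      ∃ s : W ⟶ X, s ≫ q = f := by
  obtain ⟨w, hw⟩ := hq
  let J := QuotSh.J K S
  let F : (Over S)ᵒᵖ ⥤ Type (u + 1) := yoneda.obj X ⋙ uliftFunctor.{u + 1, u}
  let FY : (Over S)ᵒᵖ ⥤ Type (u + 1) := yoneda.obj Y ⋙ uliftFunctor.{u + 1, u}
  let m : F ⟶ FY := Functor.whiskerRight (yoneda.map q) uliftFunctor.{u + 1, u}
  have h3 : QuotSh.repMap K q = QuotSh.quotπ K a.act (snd G X) ≫ QuotSh.quotDesc K q w :=
    (coequalizer.π_desc _ _).symm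
  have h4 : Epi (QuotSh.repMap K q) := by
    have : Epi (QuotSh.quotπ K a.act (snd G X)) := coequalizer.π_epi
    rw [h3]
    infer_instance
  have h5 : Sheaf.IsLocallySurjective (QuotSh.repMap K q) :=
    (Sheaf.isLocallySurjective_iff_epi _).2 h4
  have h6 : Presheaf.IsLocallySurjective J m :=
    (Presheaf.isLocallySurjective_presheafToSheaf_map_iff J m).1 h5
  let y : FY.obj (op Y) := ULift.up (𝟙 Y)
  refine ⟨_, Presheaf.imageSieve_mem J m y, ?_⟩
  rintro W f ⟨s, hs⟩
  have h7 : s.down ≫ q = f ≫ 𝟙 Y := congrArg ULift.down hs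
  exact ⟨s.down, by rw [h7, Category.comp_id]⟩

variable {K} in
/-- Extracting a covering family from a covering sieve of the over-topology. -/
theorem exists_covering [K.IsStableUnderComposition] [K.IsStableUnderBaseChange] [K.HasIsos]
    {T : Over S} {R : Sieve T} (hR : R ∈ QuotSh.J K S T) :
    ∃ Q ∈ K T.left, ∀ ⦃W : Scheme.{u}⦄ (f : W ⟶ T.left), Q f →
      R (Over.homMk f : Over.mk (f ≫ T.hom) ⟶ T) := by
  rw [GrothendieckTopology.mem_over_iff] at hR
  rw [Precoverage.mem_toGrothendieck_iff_of_isStableUnderComposition] at hR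
  obtain ⟨Q, hQ, hle⟩ := hR
  refine ⟨Q, hQ, fun W f hf => ?_⟩
  exact (Sieve.overEquiv_iff R f).1 (hle _ _ hf)

end K690.QuotShLoc
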