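import Groth.Agent.AGF.K798.LinRed
import Groth.Agent.Sga3B.RG.BrRed2
import Groth.Agent.Sga3B.RadOpen.Transport
import Groth.Agent.Sga3B.Parab.OppK172

/-!
# Coordinate rings of reductive groups over an algebraically closed field of characteristic zero
-/

set_option autoImplicit false
universe u
open CategoryTheory MonoidalCategory CartesianMonoidalCategory MonObj AlgebraicGeometry
open Groth.Agent.Books.AffBridge

namespace K690.RedLin

/-- A reductive group over an algebraically closed field of characteristic zero is `Spec` of a linearly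
reductive Hopf algebra. -/
theorem exists_linRed {k : Type u} [Field k] [IsAlgClosed k] [CharZero k]
    {G : Over (Spec (CommRingCat.of k))} [GrpObj G] (hG : Red.IsReductiveOver k G) :
    ∃ (C : Type u) (_ : CommRing C) (_ : HopfAlgebra k C) (e : SpecOver k C ≅ G),
      IsMonHom e.hom ∧ Algebra.FiniteType k C ∧ IsDomain C ∧ HopfRep.IsLinearlyReductive k C := by
  have haff : IsAffine G.left := hG.1
  have hsm : Smooth G.hom := hG.2.1
  obtain ⟨C, _, _, e, he, hft, hred, hdom⟩ := Groth.Agent.Sga3B.Parab.OppK172.exists_chartK G
  have h1 := Groth.Agent.Sga3B.RadOpen.isReductiveOver_of_iso e hG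
  obtain ⟨h2, h3⟩ := Groth.Agent.Sga3B.RG.BrRed2.isReductiveOver_iff.1 h1
  have he' : IsMonHom e.symm.hom := inferInstanceAs (IsMonHom e.inv)
  exact ⟨C, inferInstance, inferInstance, e.symm, he', hft, h2,
    K798.LinRed.isLinearlyReductive h3⟩

end K690.RedLin
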