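import Groth.Agent.GIT.K690.AddNear
import Groth.Agent.S3263
import Groth.Agent.S3264
import Groth.Agent.HopfRep.K188.TrigUnip
import Groth.Agent.HopfRep.K188.SubGa
import Groth.Agent.TateLoc.K798.CharFG
import Groth.Agent.MiscA.HopfFlat
import Groth.Agent.Sga3.H814.CentralD
import Groth.Agent.Books.CharZeroUnip3
import Groth.Agent.Books.AffBridge2

/-!
# Unipotent groups in characteristic zero and trigonalizable connected groups are special
-/

set_option autoImplicit false

universe u

open CategoryTheory CategoryTheory.Limits MonoidalCategory CartesianMonoidalCategory MonObj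
  AlgebraicGeometry TensorProduct

namespace K690.SolvSpecial

open K690.LocSec K690.Torsor K690.TorsorTower K690.Chart CoactBr
  AlgGrp.Action K690.EqNear K690.AddNear

variable {k : Type u} [Field k]

/-- Extensions of special groups are special. -/
theorem special_ext {G N Q : Over (Spec (CommRingCat.of k))} [GrpObj G] [GrpObj N] [GrpObj Q]
    [IsAffine G.left] [IsAffine Q.left] (iN : N ⟶ G) [IsMonHom iN]
    (q : G ⟶ Q) [IsMonHom q] (hLS : LS q.left) (hker : AlgGrp.IsKernel iN q)
    (hN : Special N) (hQ : Special Q) : Special G := by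
  intro X Y a φ hcart hloc
  have hG : IsAffineHom G.hom := inferInstance
  have hGf : Flat G.hom := inferInstance
  have hφ1 : IsAffineHom φ.left := K690.GeomQuot.prop_of_torsor @IsAffineHom hcart hloc hG
  have := Groth.Agent.S18976.flat_descends
  have hφ2 : Flat φ.left := K690.GeomQuot.prop_of_torsor @Flat hcart hloc hGf
  obtain ⟨W, ρ, r, aW, hρr, hρC, hρL, hrC, hrL, -⟩ :=
    K690.TorsorTower.exists_tower hker hLS hcart hloc
  have h3 := K690.Torsor.isLocallyTrivialFor_comp (hN _ _ _ ρ hρC hρL) (hQ _ _ _ r hrC hrL)
  rw [← Over.comp_left, hρr] at h3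
  exact h3

/-- Transport along isomorphisms of groups. -/
theorem special_of_iso {G H : Over (Spec (CommRingCat.of k))} [GrpObj G] [GrpObj H]
    (e : G ≅ H) [IsMonHom e.hom] (hG : Special G) : Special H := by
  intro X Y a φ hcart hloc
  refine hG X Y (a.restrict e.hom) φ ?_ hloc
  rw [isPullback_act_iff] at hcart ⊢
  refine ⟨?_, fun T x x' h => ?_⟩
  · apply hom_ext_lift₂
    intro T g x
    rw [lift_restrict_act_assoc, lift_snd_assoc]
    exact invariant_pt hcart.1 _ _
  · obtain ⟨g, hg, hg'⟩ := hcart.2 T x x' h
    refine ⟨g ≫ e.inv, ?_, fun g₁ h₁ => ?_⟩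
    · change lift (g ≫ e.inv) x' ≫ (a.restrict e.hom).act = x
      rw [lift_restrict_act, Category.assoc, e.inv_hom_id, Category.comp_id]
      exact hg
    · change lift g₁ x' ≫ (a.restrict e.hom).act = x at h₁
      rw [lift_restrict_act] at h₁
      rw [← hg' _ h₁, Category.assoc, e.hom_inv_id, Category.comp_id]

/-- Extensions of special groups are special, in Hopf form. -/
theorem special_hopf_ext {A B : Type u} [CommRing A] [HopfAlgebra k A] [CommRing B]
    [HopfAlgebra k B] (ψ : B →ₐc[k] A) (hψ : Function.Injective ψ) (J : Ideal A) [J.IsHopfIdeal k]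
    (hJ : J = Ideal.map (ψ : B →+* A) (RingHom.ker (Bialgebra.counitAlgHom k B)))
    (hN : Special (sp k (A ⧸ J))) (hQ : Special (sp k B)) : Special (sp k A) := by
  have h1 : IsAffine (sp k A).left := inferInstanceAs (IsAffine (Spec (CommRingCat.of A)))
  have h2 : IsAffine (sp k B).left := inferInstanceAs (IsAffine (Spec (CommRingCat.of B)))
  have h3 : IsMonHom (pt (R := k) (ψ : B →ₐ[k] A)) :=
    Groth.Agent.Books.AffBridge.isMonHom_specMap k ψ
  have h4 : IsMonHom (pt (R := k) (Ideal.Quotient.mkₐ k J)) :=
    Groth.Agent.Books.AffBridge.isMonHom_specMap k (Bialgebra.Quotient.mkBialgHom (R := k) J)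
  have h5 : AlgGrp.IsKernel (pt (R := k) (Ideal.Quotient.mkₐ k J))
      (pt (R := k) (ψ : B →ₐ[k] A)) :=
    Groth.Agent.Books.AffBridge2.isKernel_specMap k (ψ : B →ₐ[k] A) J hJ
  have h6 : (ψ : B →+* A).FaithfullyFlat := Groth.Agent.MiscA.HopfFlat.faithfullyFlat ψ hψ
  have h7 : Flat (pt (R := k) (ψ : B →ₐ[k] A)).left := Flat.SpecMap_iff.2 h6.flat
  have h8 : Surjective (pt (R := k) (ψ : B →ₐ[k] A)).left :=
    ((flat_and_surjective_SpecMap_iff (CommRingCat.ofHom (ψ : B →+* A))).2 h6).2
  have h9 : QuasiCompact (pt (R := k) (ψ : B →ₐ[k] A)).left :=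
    inferInstanceAs (QuasiCompact (Spec.map (CommRingCat.ofHom (ψ : B →+* A))))
  exact special_ext (pt (R := k) (Ideal.Quotient.mkₐ k J)) (pt (R := k) (ψ : B →ₐ[k] A))
    (K690.NormalTors.ls_of_flat _) h5 hN hQ

/-- Trivial groups are special. -/
theorem special_of_trivial {A : Type u} [CommRing A] [HopfAlgebra k A]
    (h : ∀ a : A, a ∈ Submodule.span k {(1 : A)}) : Special (sp k A) := by
  refine special_of_groupLike (r := 0) (fun i => i.elim0) (fun i => i.elim0) ?_ ?_
  · intro C _ _ u
    exact ⟨(Algebra.ofId k C).comp (Bialgebra.counitAlgHom k A), fun i => i.elim0⟩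
  · intro C _ _ f f' _
    ext a
    obtain ⟨c, rfl⟩ := Submodule.mem_span_singleton.1 (h a)
    rw [map_smul, map_smul, map_one, map_one]

open Groth.Agent.Books Groth.Agent.Books.ComodSocle in
/-- Unipotent groups in characteristic zero are special. -/
theorem special_of_unipotent [CharZero k] {A : Type u} [CommRing A] [HopfAlgebra k A]
    [Algebra.FiniteType k A] (hU : HopfRep.IsUnipotent k A) : Special (sp k A) := by
  have hnoeth : IsNoetherianRing A := Algebra.FiniteType.isNoetherianRing k A
  suffices h : ∀ (I : Ideal A) (A' : Type u) [CommRing A'] [HopfAlgebra k A'] (π : A →ₐc[k] A'),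
      Function.Surjective π → RingHom.ker (π : A →+* A') = I → Special (sp k A') from
    h _ A (BialgHom.id k A) Function.surjective_id rfl
  intro I
  induction I using IsWellFounded.induction (fun I J : Ideal A => I > J) with
  | ind I ih =>
    intro A' _ _ π hπ hI
    have hft : Algebra.FiniteType k A' := Algebra.FiniteType.of_surjective (π : A →ₐ[k] A') hπ
    have hU' : HopfRep.IsUnipotent k A' :=
      Groth.Agent.Sga3.H814.CentralD.isUnipotent_of_surjective π hπ hU
    obtain ⟨C, hmono, h0, htop, hco⟩ := (Groth.Agent.S3263.result k A').1 hU'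
    by_cases hne : C 0 = ⊤
    · refine special_of_trivial fun a => ?_
      rw [← h0, hne]
      exact Submodule.mem_top
    obtain ⟨x, hx0, hx⟩ := Groth.Agent.S3264.exists_prim C hmono h0 htop hco hne
    have hx' : CoalgebraStruct.comul (R := k) x = x ⊗ₜ[k] (1 : A') + (1 : A') ⊗ₜ[k] x := hx
    have hxc : CoalgebraStruct.counit (R := k) x = 0 := hx.counit
    let ψ := K188.SubGa.ofPrimitive x hx' hxc
    have hψι : ψ (SymmetricAlgebra.ι k k 1) = x := K188.SubGa.ofPrimitive_ι x hx' hxc
    have hψ : Function.Injective ψ := by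
      have hai := CharZeroUnip3.algebraicIndependent_of_isPrim
        (isUnipotent_iff.1 hU') (fun _ : Unit => x) (fun _ => hx)
        (linearIndependent_unique_iff.2 hx0)
      have htr : Function.Injective (Polynomial.aeval x : Polynomial k →ₐ[k] A') := by
        have h1 := algebraicIndependent_unique_type_iff.1 hai
        exact transcendental_iff_injective.1 h1
      intro s t hst
      obtain ⟨p, rfl⟩ := (K188.SubGa.bijective_aeval_ι (k := k)).2 s
      obtain ⟨q, rfl⟩ := (K188.SubGa.bijective_aeval_ι (k := k)).2 t
      have h2 : ∀ p : Polynomial k,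
          ψ (Polynomial.aeval (SymmetricAlgebra.ι k k 1) p) = Polynomial.aeval x p := by
        intro p
        rw [← hψι]
        exact (Polynomial.aeval_algHom_apply (ψ : SymmetricAlgebra k k →ₐ[k] A') _ p).symm
      rw [h2, h2] at hst
      rw [htr hst]
    have hJh := K188.TrigUnip.isHopfIdeal_map ψ
    refine special_hopf_ext ψ hψ _ rfl ?_ ?_
    · set J := Ideal.map (ψ : SymmetricAlgebra k k →+* A')
        (RingHom.ker (Bialgebra.counitAlgHom k (SymmetricAlgebra k k))) with hJ
      refine ih _ ?_ (A' ⧸ J) ((Bialgebra.Quotient.mkBialgHom (R := k) J).comp π) ?_ rfl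
      · have hxJ : x ∈ J := by
          have h9 : SymmetricAlgebra.ι k k 1 ∈
              RingHom.ker (Bialgebra.counitAlgHom k (SymmetricAlgebra k k)) := by
            rw [RingHom.mem_ker]
            change CoalgebraStruct.counit (R := k) (SymmetricAlgebra.ι k k 1) = 0
            simp
          have h10 := Ideal.mem_map_of_mem (ψ : SymmetricAlgebra k k →+* A') h9
          have h11 : (ψ : SymmetricAlgebra k k →+* A') (SymmetricAlgebra.ι k k 1) = x := hψι
          rw [h11] at h10
          exact h10
        obtain ⟨z, hz⟩ := hπ x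
        refine lt_of_le_of_ne ?_ ?_
        · intro w hw
          rw [← hI] at hw
          have hw' : π w = 0 := hw
          change Ideal.Quotient.mk J (π w) = 0
          rw [hw', map_zero]
        · intro heq
          have hzI : z ∈ I := by
            rw [heq]
            change Ideal.Quotient.mk J (π z) = 0
            rw [hz]
            exact Ideal.Quotient.eq_zero_iff_mem.2 hxJ
          rw [← hI] at hzI
          have hz0 : π z = 0 := hzI
          exact hx0 (hz.symm.trans hz0)
      · exact (Ideal.Quotient.mk_surjective).comp hπ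
    · refine special_of_primitive (SymmetricAlgebra.ι k k 1) ?_ ?_ ?_
      · simp
      · intro C _ _ u
        exact ⟨SymmetricAlgebra.lift (LinearMap.toSpanSingleton k C u), by simp⟩
      · intro C _ _ f f' h
        apply SymmetricAlgebra.algHom_ext
        ext
        exact h

/-- The group-like elements of a connected group form a torsion-free group. -/
lemma groupLike_torsionFree [IsAlgClosed k] {A : Type u} [CommRing A] [IsDomain A]
    [HopfAlgebra k A] (g : GroupLike k A) (n : ℕ) (hn : n ≠ 0) (h : g ^ n = 1) : g = 1 := by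
  have h1 : g.val ^ n = 1 := by
    rw [← GroupLike.val_pow, h, GroupLike.val_one]
  have hint : IsIntegral k g.val := ⟨Polynomial.X ^ n - Polynomial.C 1,
    Polynomial.monic_X_pow_sub_C (1 : k) hn, by simp [h1]⟩
  have hdeg : (minpoly k g.val).degree = 1 :=
    IsAlgClosed.degree_eq_one_of_irreducible k (minpoly.irreducible hint)
  obtain ⟨c, hc⟩ := minpoly.mem_range_of_degree_eq_one k g.val hdeg
  have h2 : CoalgebraStruct.counit (R := k) g.val = 1 := g.2.counit_eq_one
  rw [← hc] at h2
  have h3 : CoalgebraStruct.counit (R := k) (algebraMap k A c) = c :=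
    Bialgebra.counit_algebraMap c
  apply GroupLike.val_injective (R := k) (A := A)
  rw [GroupLike.val_one, ← hc, ← h3, h2, map_one]

/-- Trigonalizable connected groups in characteristic zero are special. -/
theorem special_of_isTrigonalizable [IsAlgClosed k] [CharZero k] {A : Type u} [CommRing A]
    [IsDomain A] [HopfAlgebra k A] [Algebra.FiniteType k A]
    (hT : HopfRep.IsTrigonalizable k A) : Special (sp k A) := by
  obtain ⟨J, hJh, hinj, -, hJ, hU⟩ := K188.TrigUnip.exists_of_isTrigonalizable hT
  refine special_hopf_ext _ hinj J hJ (special_of_unipotent hU) ?_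
  have hfg : Group.FG (GroupLike k A) := Groth.Agent.TateLoc.K798.CharFG.fg_groupLike
  let M := Additive (GroupLike k A)
  have hM : Module.Finite ℤ M := Module.Finite.iff_addGroup_fg.2 inferInstance
  have hM' : Module.IsTorsionFree ℤ M := by
    rw [Module.isTorsionFree_int_iff_isAddTorsionFree]
    refine ⟨fun n hn x y hxy => ?_⟩
    have hxy' : (Additive.toMul (α := GroupLike k A) x) ^ n =
      (Additive.toMul (α := GroupLike k A) y) ^ n := hxy
    have h1 : ((Additive.toMul (α := GroupLike k A) x) /
        (Additive.toMul (α := GroupLike k A) y)) ^ n = 1 := by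
      rw [div_pow, div_eq_one]
      exact hxy'
    exact (Additive.toMul (α := GroupLike k A)).injective
      (div_eq_one.1 (groupLike_torsionFree _ n hn h1))
  have hfree : Module.Free ℤ M := inferInstance
  let b := Module.finBasis ℤ M
  refine special_of_groupLike (fun i => MonoidAlgebra.of k (GroupLike k A) (b i).toMul) ?_ ?_ ?_
  · intro i
    exact MonoidAlgebra.isGroupLikeElem_of (R := k) (A := k) _
  · intro C _ _ u
    let f₀ : M →+ Additive Cˣ := (b.constr ℤ (fun i => Additive.ofMul (u i))).toAddMonoidHom
    let f₁ : GroupLike k A →* Cˣ :=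
      { toFun := fun g => (f₀ (Additive.ofMul g)).toMul
        map_one' := by
          rw [ofMul_one, map_zero, toMul_zero]
        map_mul' := fun g g' => by
          rw [ofMul_mul, map_add, toMul_add] }
    refine ⟨MonoidAlgebra.lift k C (GroupLike k A) ((Units.coeHom C).comp f₁), fun i => ?_⟩
    rw [MonoidAlgebra.lift_of]
    change ((f₀ (b i)).toMul : C) = u i
    have h1 : f₀ (b i) = Additive.ofMul (u i) := b.constr_basis ℤ _ i
    rw [h1, toMul_ofMul]
  · intro C _ _ f f' h
    have key : ∀ m : M, f (MonoidAlgebra.of k (GroupLike k A) (Additive.toMul m)) =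
        f' (MonoidAlgebra.of k (GroupLike k A) (Additive.toMul m)) := by
      intro m
      let φ₁ : GroupLike k A →* C := (f : _ →* C).comp (MonoidAlgebra.of k (GroupLike k A))
      let φ₂ : GroupLike k A →* C := (f' : _ →* C).comp (MonoidAlgebra.of k (GroupLike k A))
      have h2 : φ₁.toHomUnits = φ₂.toHomUnits := by
        have h3 : (MonoidHom.toAdditive φ₁.toHomUnits).toIntLinearMap =
            (MonoidHom.toAdditive φ₂.toHomUnits).toIntLinearMap := by
          apply b.ext
          intro i
          apply Additive.toMul.injective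
          apply Units.ext
          exact h i
        ext g
        have h4 := LinearMap.congr_fun h3 (Additive.ofMul g)
        exact congrArg (fun z : Additive Cˣ => (z.toMul : C)) h4
      exact congrArg Units.val (DFunLike.congr_fun h2 (Additive.toMul m))
    apply MonoidAlgebra.algHom_ext
    · intro g
      exact key (Additive.ofMul g)
    · ext

end K690.SolvSpecial
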