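import Groth.Agent.AGF.K501.BcPts
import Groth.Agent.AGF.K494.BcDict
import Groth.Agent.AGF.K492.Descend
import Groth.Agent.Sga3B.DSPts
import Groth.Agent.NRGIT.K850.StabFin
import Groth.Agent.GIT.K690.FreeQuot

/-!
# Geometric points of an affine group scheme as the group of points of the base changed Hopf algebra

`pi e j : Pt K (K ⊗ A) ≃* (P ⟶ G)` for `P ≅ Spec K`; points of subgroups (`mem_gmPts_iff`), of
homomorphisms (`pi_map`), and closedness of the stabiliser of a geometric point (`isCl_fix`).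
-/

set_option autoImplicit false
set_option linter.unusedSectionVars false

universe u

open CategoryTheory MonoidalCategory CartesianMonoidalCategory MonObj GrpObj AlgebraicGeometry Limits
open Groth.Agent.Books.AffBridge Groth.Agent.Books.AffBridge2
open TensorProduct WithConv
open Groth.Agent.Sga3B Groth.Agent.Sga3B.RG Groth.Agent.Sga3B.RG.BrPts Groth.Agent.Sga3B.RootBridge989
  Groth.Agent.Sga3B.RG.BcPt
open Groth.Agent.Agf.H604.BcSub

namespace K690.StabPts

noncomputable section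

variable {k K : Type u} [Field k] [Field K] [Algebra k K] {A : Type u} [CommRing A]
  [HopfAlgebra k A] {G H : Over (Spec (CommRingCat.of k))} [GrpObj G] [GrpObj H]

variable (k K) in
/-- The geometric point as an object over `k`. -/
abbrev PK : Over (Spec (CommRingCat.of k)) :=
  (Over.map (sm k K)).obj (𝟙_ (Over (Spec (CommRingCat.of K))))

variable {P : Over (Spec (CommRingCat.of k))}

/-- Geometric points. -/
def pi (e : G ≅ SpecOver k A) [IsMonHom e.hom] (j : P ≅ PK k K) : Pt K (K ⊗[k] A) ≃* (P ⟶ G) where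
  toFun g := j.hom ≫ (DSPts.bcEquiv (sm k K) (𝟙_ _) G).symm (ptEquiv K (K ⊗[k] A) g ≫ (eK K e).inv)
  invFun x := (ptEquiv K (K ⊗[k] A)).symm
    (DSPts.bcEquiv (sm k K) (𝟙_ _) G (j.inv ≫ x) ≫ (eK K e).hom)
  left_inv g := by
    simp
  right_inv x := by
    simp
  map_mul' g h := by
    rw [map_mul, MonObj.mul_comp, map_mul, MonObj.comp_mul]

lemma pi_apply (e : G ≅ SpecOver k A) [IsMonHom e.hom] (j : P ≅ PK k K) (g : Pt K (K ⊗[k] A)) :
    pi e j g = j.hom ≫ (DSPts.bcEquiv (sm k K) (𝟙_ _) G).symm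
      (ptEquiv K (K ⊗[k] A) g ≫ (eK K e).inv) := rfl

lemma ptEquiv_eq (e : G ≅ SpecOver k A) [IsMonHom e.hom] (j : P ≅ PK k K) (g : Pt K (K ⊗[k] A)) :
    ptEquiv K (K ⊗[k] A) g =
      DSPts.bcEquiv (sm k K) (𝟙_ _) G (j.inv ≫ pi e j g) ≫ (eK K e).hom := by
  rw [pi_apply, Iso.inv_hom_id_assoc, MulEquiv.apply_symm_apply, Category.assoc, Iso.inv_hom_id,
    Category.comp_id]

lemma bc_comp (e : G ≅ SpecOver k A) [IsMonHom e.hom] (i : H ⟶ G) [IsMonHom i] (h : PK k K ⟶ H) :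
    DSPts.bcEquiv (sm k K) (𝟙_ _) H h ≫ gm K e i =
      DSPts.bcEquiv (sm k K) (𝟙_ _) G (h ≫ i) ≫ (eK K e).hom := by
  rw [gm, ← Category.assoc, DSPts.bcEquiv_comp]

/-- The points of a subgroup. -/
theorem mem_gmPts_iff (e : G ≅ SpecOver k A) [IsMonHom e.hom] (j : P ≅ PK k K) (i : H ⟶ G)
    [IsMonHom i] (g : Pt K (K ⊗[k] A)) : g ∈ gmPts K e i ↔ ∃ h : P ⟶ H, h ≫ i = pi e j g := by
  rw [gmPts, mem_ptsSub]
  constructor
  · rintro ⟨n, hn⟩
    obtain ⟨h, rfl⟩ := (DSPts.bcEquiv (sm k K) (𝟙_ _) H).surjective n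
    refine ⟨j.hom ≫ h, ?_⟩
    rw [bc_comp, ptEquiv_eq e j, cancel_mono] at hn
    have h1 := (DSPts.bcEquiv (sm k K) (𝟙_ _) G).injective hn
    rw [Category.assoc, h1, Iso.hom_inv_id_assoc]
  · rintro ⟨h, hh⟩
    refine ⟨DSPts.bcEquiv (sm k K) (𝟙_ _) H (j.inv ≫ h), ?_⟩
    rw [bc_comp, ptEquiv_eq e j, Category.assoc, hh]

/-- Homomorphisms on points. -/
theorem pi_map (e : G ≅ SpecOver k A) [IsMonHom e.hom] (j : P ≅ PK k K) (q : G ⟶ G) [IsMonHom q]
    (φ : A →ₐc[k] A) (hφ : q ≫ e.hom = e.hom ≫ specMap k (φ : A →ₐ[k] A)) (g : Pt K (K ⊗[k] A)) :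
    pi e j (Pt.map (Groth.Agent.Sga3A.BCIso.mapBialg K φ) g) = pi e j g ≫ q := by
  have h1 : (Over.pullback (sm k K)).map q ≫ (eK K e).hom =
      (eK K e).hom ≫ specMap K (Groth.Agent.Sga3A.BCIso.mapBialg K φ : K ⊗[k] A →ₐ[K] K ⊗[k] A) := by
    change _ ≫ (Over.pullback (sm k K)).map e.hom ≫ (bcIso K A).hom =
      ((Over.pullback (sm k K)).map e.hom ≫ (bcIso K A).hom) ≫ _
    rw [← Category.assoc, ← Functor.map_comp, hφ, Functor.map_comp, Category.assoc,
      bcIso_naturality, Category.assoc]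
  have h2 : ptEquiv K (K ⊗[k] A) (Pt.map (Groth.Agent.Sga3A.BCIso.mapBialg K φ) g) ≫ (eK K e).inv =
      (ptEquiv K (K ⊗[k] A) g ≫ (eK K e).inv) ≫ (Over.pullback (sm k K)).map q := by
    rw [← cancel_mono (eK K e).hom, Category.assoc, Iso.inv_hom_id, Category.comp_id,
      Category.assoc, h1, ptEquiv_map, Category.assoc, Iso.inv_hom_id_assoc]
  have h3 : (DSPts.bcEquiv (sm k K) (𝟙_ _) G).symm
      ((ptEquiv K (K ⊗[k] A) g ≫ (eK K e).inv) ≫ (Over.pullback (sm k K)).map q) =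
      (DSPts.bcEquiv (sm k K) (𝟙_ _) G).symm (ptEquiv K (K ⊗[k] A) g ≫ (eK K e).inv) ≫ q := by
    apply (DSPts.bcEquiv (sm k K) (𝟙_ _) G).injective
    rw [MulEquiv.apply_symm_apply, ← DSPts.bcEquiv_comp, MulEquiv.apply_symm_apply]
  rw [pi_apply, h2, h3, pi_apply, Category.assoc]

section Stab

variable {X : Over (Spec (CommRingCat.of k))} (a : AlgGrp.Action G X)

/-- A point of `Spec B` factors through a closed subscheme iff it kills its ideal. -/
theorem exists_ideal {B : Type u} [CommRing B] [HopfAlgebra K B] {E : Scheme.{u}}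
    (i : E ⟶ Spec (CommRingCat.of B)) [IsClosedImmersion i] :
    ∃ I : Ideal B, ∀ g : Pt K B, g ∈ zeros (K := K) I ↔
      ∃ t : Spec (CommRingCat.of K) ⟶ E, t ≫ i = Spec.map (CommRingCat.ofHom g.ofConv.toRingHom) := by
  obtain ⟨I, e, he⟩ := IsClosedImmersion.Spec_iff.1 ‹IsClosedImmersion i›
  refine ⟨I, fun g => ⟨fun hg => ?_, ?_⟩⟩
  · let ψ : B ⧸ I →+* K := Ideal.Quotient.lift I g.ofConv.toRingHom hg
    refine ⟨Spec.map (CommRingCat.ofHom ψ) ≫ e.inv, ?_⟩
    rw [he, Category.assoc, Iso.inv_hom_id_assoc, ← Spec.map_comp]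
    rfl
  · rintro ⟨t, ht⟩ b hb
    obtain ⟨ψ, hψ⟩ := Spec.map_surjective (t ≫ e.hom)
    rw [he, ← Category.assoc, ← hψ, ← Spec.map_comp] at ht
    have h1 := Spec.map_injective ht
    have h2 : ψ.hom (Ideal.Quotient.mk I b) = g.ofConv b := congr($(h1).hom b)
    change g.ofConv b = 0
    rw [← h2, Ideal.Quotient.eq_zero_iff_mem.2 hb, map_zero]

/-- **The stabiliser of a geometric point is closed.** -/
theorem isCl_fix [IsSeparated X.hom] (e : G ≅ SpecOver k A) [IsMonHom e.hom] (j : P ≅ PK k K)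
    (x : P ⟶ X) : IsCl {g : Pt K (K ⊗[k] A) | lift (pi e j g) x ≫ a.act = x} := by
  let gU : (Over.map (sm k K)).obj (SpecOver K (K ⊗[k] A)) ⟶ G :=
    (DSPts.bcEquiv (sm k K) (SpecOver K (K ⊗[k] A)) G).symm (eK K e).inv
  let ξ : (Over.map (sm k K)).obj (SpecOver K (K ⊗[k] A)) ⟶ X :=
    (Over.map (sm k K)).map (toUnit _) ≫ j.inv ≫ x
  have h1 : ∀ g : Pt K (K ⊗[k] A), (Over.map (sm k K)).map (ptEquiv K (K ⊗[k] A) g) ≫ gU =
      j.inv ≫ pi e j g := fun g => by
    rw [pi_apply, Iso.inv_hom_id_assoc]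
    exact DSPts.bcEquiv_symm_naturality (sm k K) G _ _
  have h2 : ∀ g : Pt K (K ⊗[k] A), (Over.map (sm k K)).map (ptEquiv K (K ⊗[k] A) g) ≫ ξ =
      j.inv ≫ x := fun g => by
    change _ ≫ (Over.map (sm k K)).map (toUnit _) ≫ j.inv ≫ x = _
    rw [← Category.assoc, ← Functor.map_comp]
    have : ptEquiv K (K ⊗[k] A) g ≫ toUnit _ = 𝟙 _ := toUnit_unique _ _
    rw [this, CategoryTheory.Functor.map_id, Category.id_comp]
  let E := equalizer (lift gU ξ ≫ a.act) ξ
  let ε : E ⟶ _ := equalizer.ι (lift gU ξ ≫ a.act) ξ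
  have hE : IsClosedImmersion ε.left :=
    inferInstanceAs (IsClosedImmersion (equalizer.ι (lift gU ξ ≫ a.act) ξ).left)
  let ε' : E.left ⟶ Spec (CommRingCat.of (K ⊗[k] A)) := ε.left
  have hE' : IsClosedImmersion ε' := hE
  obtain ⟨I, hI⟩ := exists_ideal (K := K) (B := K ⊗[k] A) (E := E.left) ε'
  have h3 : {g : Pt K (K ⊗[k] A) | lift (pi e j g) x ≫ a.act = x} = zeros (K := K) I := by
    ext g
    rw [hI, Set.mem_ofPred_eq]
    have h4 : lift (pi e j g) x ≫ a.act = x ↔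
        (Over.map (sm k K)).map (ptEquiv K (K ⊗[k] A) g) ≫ (lift gU ξ ≫ a.act) =
          (Over.map (sm k K)).map (ptEquiv K (K ⊗[k] A) g) ≫ ξ := by
      rw [← Category.assoc, comp_lift, h1, h2, ← comp_lift, Category.assoc, cancel_epi]
    have h5 : ((Over.map (sm k K)).map (ptEquiv K (K ⊗[k] A) g)).left =
        Spec.map (CommRingCat.ofHom g.ofConv.toRingHom) := K501.BcPts.ptEquiv_left K g
    rw [h4]
    constructor
    · intro h
      refine ⟨(equalizer.lift _ h).left, ?_⟩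
      exact (congrArg (fun m => m.left) (equalizer.lift_ι _ h)).trans h5
    · rintro ⟨t, ht⟩
      let t0 : ((Over.map (sm k K)).obj (𝟙_ (Over (Spec (CommRingCat.of K))))).left ⟶ E.left := t
      have ht0 : t0 ≫ ε.left = ((Over.map (sm k K)).map (ptEquiv K (K ⊗[k] A) g)).left :=
        ht.trans h5.symm
      let t' : (Over.map (sm k K)).obj (𝟙_ (Over (Spec (CommRingCat.of K)))) ⟶ E :=
        Over.homMk t0 (by
          rw [← Over.w ε, ← Category.assoc, ht0, Over.w])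
      have h6 : t' ≫ ε = (Over.map (sm k K)).map (ptEquiv K (K ⊗[k] A) g) :=
        Over.OverMorphism.ext ht0
      rw [← h6, Category.assoc, Category.assoc]
      congr 1
      exact equalizer.condition _ _
  rw [h3]
  exact isCl_zeros I

end Stab

end

end K690.StabPts
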