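import Groth.Agent.GIT.K690.StabTor
import Groth.Agent.GIT.K690.StabPts

/-!
# Stabilisers in `U ⋊ T` are finite iff the stabilisers in `T` of the `U`-translates are

`isUnip_gmPts`: geometric points of a smooth connected group without subtori are unipotent;
`finite_fix_iff`: the points version of the finiteness criterion.
-/

set_option autoImplicit false
set_option linter.unusedSectionVars false

universe u

open CategoryTheory MonoidalCategory CartesianMonoidalCategory MonObj GrpObj AlgebraicGeometry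
open Groth.Agent.Books.AffBridge Groth.Agent.Books.AffBridge2
open TensorProduct WithConv
open Groth.Agent.Sga3B Groth.Agent.Sga3B.RG Groth.Agent.Sga3B.RG.BrPts Groth.Agent.Sga3B.RootBridge989
  Groth.Agent.Sga3B.RG.BcPt
open Groth.Agent.Agf.H604.BcSub Groth.Agent.Books.BorelOrb
open K690.StabPts K850.StabFin

namespace K690.StabMain

section Unip

variable {k K : Type u} [Field k] [IsAlgClosed k] [Field K] [IsAlgClosed K] [Algebra k K]
  {A : Type u} [CommRing A] [HopfAlgebra k A] [Algebra.FiniteType k A]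
  {G U : Over (Spec (CommRingCat.of k))} [GrpObj G] [GrpObj U]

/-- Geometric points of a closed smooth connected subgroup without subtori are unipotent. -/
theorem isUnip_gmPts (e : G ≅ SpecOver k A) [IsMonHom e.hom] (i : U ⟶ G) [IsMonHom i]
    [IsClosedImmersion i.left] [Smooth U.hom] [ConnectedSpace U.left]
    [Smooth G.hom] (hU : Red.HasNoSubtorus k U) : ∀ g ∈ gmPts K e i, IsUnip g := by
  have hred : _root_.IsReduced (K ⊗[k] A) := K501.BcPts.isReduced_tensor_of_smooth e
  have h0 : IsIso e.hom.left := inferInstanceAs (IsIso ((Over.forget _).map e.hom))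
  have h1 : IsClosedImmersion (i ≫ e.hom).left := by
    rw [Over.comp_left]
    infer_instance
  obtain ⟨I, hI, c, hc, hci⟩ := exists_hopfIdeal k (i ≫ e.hom)
  let φ : A →ₐc[k] (A ⧸ I) := Bialgebra.Quotient.mkBialgHom I
  have h2 : gmPts K e i = (Pt.map (Groth.Agent.Sga3A.BCIso.mapBialg K φ)).range :=
    gmPts_eq e φ c i hci.symm
  have h3 : Smooth (SpecOver k (A ⧸ I)).hom := by
    rw [hom_eq_of_iso c.symm]
    infer_instance
  have h4 : ConnectedSpace (SpecOver k (A ⧸ I)).left := by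
    exact (Groth.Agent.Books.AlgPtsIrred.homeo c).surjective.connectedSpace
      (Groth.Agent.Books.AlgPtsIrred.homeo c).continuous
  have hB : Algebra.FiniteType k (A ⧸ I) :=
    Algebra.FiniteType.of_surjective (Ideal.Quotient.mkₐ k I) Ideal.Quotient.mk_surjective
  have hD : IsDomain (A ⧸ I) := (isDomain_iff (A ⧸ I)).1 ⟨h3, h4⟩
  have h5 : IsIso c.hom.left := inferInstanceAs (IsIso ((Over.forget _).map c.hom))
  have h6 : ∀ g : Pt k (A ⧸ I), IsUnip g := fun g =>
    K494.BcDict.isUnip_of_hasNoSubtorus c.hom hU g ⟨ptEquiv k (A ⧸ I) g ≫ c.inv, by simp⟩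
  have h7 : ∀ g : Pt K (K ⊗[k] (A ⧸ I)), IsUnip g := fun g => by
    refine isUnip_ext (L := K) (φ := BialgHom.id k (A ⧸ I)) Function.surjective_id
      (fun g _ => h6 g) g ⟨g, ?_⟩
    apply Pt.ext'
    intro z
    rw [Pt.map_apply]
    congr 1
    induction z with
    | zero => rw [map_zero]
    | add p q hp hq => rw [map_add, hp, hq]
    | tmul l a => rfl
  intro g hg
  rw [h2] at hg
  obtain ⟨y, rfl⟩ := hg
  exact (h7 y).map _

end Unip

section Main

variable {k K : Type u} [Field k] [IsAlgClosed k] [Field K] [IsAlgClosed K] [Algebra k K]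
  {A : Type u} [CommRing A] [HopfAlgebra k A] [Algebra.FiniteType k A]
  {G U T X : Over (Spec (CommRingCat.of k))} [GrpObj G] [GrpObj U] [GrpObj T]
  {P : Over (Spec (CommRingCat.of k))}

theorem sm_restrict (a : AlgGrp.Action G X) (i : U ⟶ G) [IsMonHom i] (u : P ⟶ U) (x : P ⟶ X) :
    lift u x ≫ (a.restrict i).act = sm a (u ≫ i) x :=
  AlgGrp.Action.lift_restrict_act i a u x

theorem finite_fix_torus (a : AlgGrp.Action G X) (iT : T ⟶ G) [IsMonHom iT] [Mono iT] (g : P ⟶ G)
    (x : P ⟶ X) (h : Finite (Fix a x)) : Finite (Fix (a.restrict iT) (lift g x ≫ a.act)) := by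
  let f : Fix (a.restrict iT) (lift g x ≫ a.act) → Fix a x := fun t =>
    ⟨g⁻¹ * (t.1 ≫ iT) * g, by
      have h1 : sm a (t.1 ≫ iT) (sm a g x) = sm a g x := by
        rw [← sm_restrict]
        exact t.2
      change sm a (g⁻¹ * (t.1 ≫ iT) * g) x = x
      rw [mul_sm, mul_sm, h1, ← mul_sm, inv_mul_cancel, one_sm]⟩
  refine Finite.of_injective f fun t t' htt' => ?_
  have h1 : g⁻¹ * (t.1 ≫ iT) * g = g⁻¹ * (t'.1 ≫ iT) * g := congrArg Subtype.val htt'
  have h2 : t.1 ≫ iT = t'.1 ≫ iT := mul_left_cancel (mul_right_cancel h1)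
  exact Subtype.ext ((cancel_mono iT).1 h2)

/-- **Finiteness of the stabiliser in `U ⋊ T`.** -/
theorem finite_fix (e : G ≅ SpecOver k A) [IsMonHom e.hom] (j : P ≅ PK k K) [Smooth G.hom]
    (iU : U ⟶ G) [IsMonHom iU] [IsClosedImmersion iU.left] (hnorm : AlgGrp.IsNormalHom iU)
    [Smooth U.hom] [ConnectedSpace U.left] (hU : Red.HasNoSubtorus k U)
    (hT : Red.IsTorus T) (p : G ⟶ T) [IsMonHom p] (hker : AlgGrp.IsKernel iU p)
    (iT : T ⟶ G) [IsMonHom iT] (hsplit : iT ≫ p = 𝟙 T) [IsSeparated X.hom]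
    (a : AlgGrp.Action G X) (x : P ⟶ X) (hfree : IsIso (GLinSh.stabTo (a.restrict iU) x))
    (hfin : ∀ u : P ⟶ U, Finite (Fix (a.restrict iT) (lift (u ≫ iU) x ≫ a.act))) :
    Finite (Fix a x) := by
  have hmT : Mono iT := by
    have : IsSplitMono iT := ⟨⟨⟨p, hsplit⟩⟩⟩
    infer_instance
  have hred : _root_.IsReduced (K ⊗[k] A) := K501.BcPts.isReduced_tensor_of_smooth e
  have hclU : IsClosedImmersion (gm K e iU).left := isClosedImmersion_gm e iU inferInstance
  let e1 := pi (K := K) e j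
  let Hs : Subgroup (Pt K (K ⊗[k] A)) :=
    { carrier := {g | lift (pi e j g) x ≫ a.act = x}
      mul_mem' := by
        intro g h hg hh
        change sm a (pi e j (g * h)) x = x
        rw [map_mul, mul_sm]
        have hh' : sm a (pi e j h) x = x := hh
        rw [hh']
        exact hg
      one_mem' := by
        change sm a (pi e j 1) x = x
        rw [map_one, one_sm]
      inv_mem' := by
        intro g hg
        have hg' : sm a (pi e j g) x = x := hg
        change sm a (pi e j g⁻¹) x = x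
        conv_lhs => rw [← hg']
        rw [map_inv, ← mul_sm, inv_mul_cancel, one_sm] }
  have hHs : ∀ g, g ∈ Hs ↔ sm a (pi e j g) x = x := fun g => Iff.rfl
  obtain ⟨φ, hφ⟩ := exists_bialgHom_of_isMonHom k (e.inv ≫ (p ≫ iT) ≫ e.hom)
  have hφ' : (p ≫ iT) ≫ e.hom = e.hom ≫ specMap k (φ : A →ₐ[k] A) := by
    rw [hφ, Iso.hom_inv_id_assoc]
  have hσ : ∀ g : Pt K (K ⊗[k] A),
      pi e j (Pt.map (Groth.Agent.Sga3A.BCIso.mapBialg K φ) g) = pi e j g ≫ p ≫ iT := fun g =>
    pi_map e j (p ≫ iT) φ hφ' g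
  have hp : ∀ g h : P ⟶ G, (g * h) ≫ p = (g ≫ p) * (h ≫ p) := fun g h => MonObj.mul_comp _ _ _
  have hclN : IsCl ((gmPts K e iU : Subgroup (Pt K (K ⊗[k] A))) : Set (Pt K (K ⊗[k] A))) := by
    rw [gmPts]
    exact K501.BcPts.isCl_ptsSub (B := K ⊗[k] A) (gm K e iU)
  have hfinH : Finite Hs := by
    refine K690.StabTor.finite_of_forall_torus (K := K) (A := K ⊗[k] A) (N := gmPts K e iU)
      (S := gmPts K e iT) (H := Hs) ?_ ?_ (isUnip_gmPts e iU hU)
      (K492.Descend.isTorusSub_gmPts e iT hT) (Groth.Agent.Sga3A.BCIso.mapBialg K φ) ?_ ?_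
      (isCl_fix a e j x) ?_ ?_
    · constructor
      intro n hn g
      rw [mem_gmPts_iff e j] at hn ⊢
      obtain ⟨h, hh⟩ := hn
      obtain ⟨n', hn'⟩ := hnorm P (pi e j g) h
      exact ⟨n', by rw [← hn', hh, map_mul, map_mul, map_inv]⟩
    · exact hclN
    · intro g
      rw [mem_gmPts_iff e j, hσ]
      exact ⟨pi e j g ≫ p, by rw [Category.assoc]⟩
    · intro g
      rw [mem_gmPts_iff e j, map_mul, map_inv, hσ]
      have h1 : ((pi e j g ≫ p ≫ iT)⁻¹ * pi e j g) ≫ p = toUnit P ≫ η[T] := by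
        rw [hp, GrpObj.inv_comp, Category.assoc, Category.assoc, hsplit, Category.comp_id,
          inv_mul_cancel, Hom.one_def]
      exact ⟨hker.lift _ _ h1, hker.lift_fst _ _ h1⟩
    · intro g hg hgN
      rw [mem_gmPts_iff e j] at hgN
      obtain ⟨h, hh⟩ := hgN
      rw [hHs, ← hh, ← sm_restrict] at hg
      have h1 : h = 1 := by
        refine K690.FreeQuot.eq_of_isIso_stabTo (a.restrict iU) x hfree P (𝟙 P) h 1 ?_
        rw [Category.id_comp, one_sm]
        exact hg
      have h2 : pi e j g = 1 := by rw [← hh, h1, MonObj.one_comp]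
      exact (pi e j).injective (by rw [h2, map_one])
    · intro c hc
      rw [mem_gmPts_iff e j] at hc
      obtain ⟨u, hu⟩ := hc
      have hf := hfin u
      let f : Fix (a.restrict iT) (lift (u ≫ iU) x ≫ a.act) → Pt K (K ⊗[k] A) := fun t =>
        (pi e j).symm (t.1 ≫ iT)
      refine (Set.finite_range f).subset ?_
      rintro s ⟨hs1, hs2⟩
      rw [mem_gmPts_iff e j] at hs1
      obtain ⟨t, ht⟩ := hs1
      rw [hHs] at hs2
      refine ⟨⟨t, ?_⟩, ?_⟩
      · change lift t (sm a (u ≫ iU) x) ≫ (a.restrict iT).act = sm a (u ≫ iU) x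
        rw [sm_restrict, ht, hu, ← mul_sm, ← map_mul]
        have h1 : s * c = c * (c⁻¹ * s * c) := by group
        rw [h1, map_mul, mul_sm, hs2]
      · change (pi e j).symm (t ≫ iT) = s
        rw [ht, MulEquiv.symm_apply_apply]
  refine Finite.of_injective (fun g : Fix a x => (⟨(pi e j).symm g.1, by
    rw [hHs, MulEquiv.apply_symm_apply]
    exact g.2⟩ : Hs)) fun g g' hgg' => ?_
  exact Subtype.ext ((pi e j).symm.injective (congrArg Subtype.val hgg'))

end Main

end K690.StabMain
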