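import Groth.Agent.Sga3B.RG.SsCrit989
import Groth.Agent.Sga3B.RG.TorConj
import Groth.Agent.Sga3B.RG.IdComp
import Groth.Agent.Sga3B.RG.Rel885
import Groth.Agent.Sga3B.MT.Levi

/-!
# Finiteness of a closed subgroup of `N ⋊ S` through its intersections with conjugates of the torus `S`

`N` closed normal unipotent, `S` a torus, `σ : G → S` a homomorphism with `g ∈ σ(g) N`.
`finite_of_forall_torus`: a closed subgroup `H` with `H ∩ N = 1` is finite as soon as all the
intersections of `H` with the conjugates of `S` by elements of `N` are finite.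
-/

set_option autoImplicit false

universe u

open Groth.Agent.Sga3B.RG

namespace K690.StabTor

variable {K : Type u} [Field K] [IsAlgClosed K] {A : Type u} [CommRing A] [HopfAlgebra K A]
  [Algebra.FiniteType K A] [IsReduced A]

/-- A closed subgroup without nontrivial tori and without unipotent points is finite. -/
theorem finite_of_torus_unip {H : Subgroup (Pt K A)} (hH : IsCl (H : Set (Pt K A)))
    (hT : ∀ T : Subgroup (Pt K A), IsTorusSub T → T ≤ H → T = ⊥)
    (hU : ∀ g ∈ H, IsUnip g → g = 1) : Finite H := by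
  have h1 : ∀ g ∈ idComp H, IsUnip g :=
    SsCrit989.isUnip_of_forall_isTorusSub (isCl_idComp H) (isConn_idComp H)
      fun T hT' hle => hT T hT' (hle.trans (idComp_le hH))
  have h2 : idComp H = ⊥ := by
    rw [eq_bot_iff]
    intro g hg
    rw [Subgroup.mem_bot]
    exact hU g (idComp_le hH hg) (h1 g hg)
  have h3 := relIndex_idComp_ne_zero hH
  rw [h2, Subgroup.relIndex_bot_left] at h3
  exact Nat.finite_of_card_ne_zero h3

theorem finite_of_forall_torus {N S H : Subgroup (Pt K A)} (hNn : N.Normal)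
    (hN : IsCl (N : Set (Pt K A))) (hNu : ∀ g ∈ N, IsUnip g) (hS : IsTorusSub S)
    (σ : A →ₐc[K] A) (hσ : ∀ g : Pt K A, Pt.map σ g ∈ S)
    (hσN : ∀ g : Pt K A, (Pt.map σ g)⁻¹ * g ∈ N)
    (hH : IsCl (H : Set (Pt K A))) (hHN : ∀ g ∈ H, g ∈ N → g = 1)
    (hfin : ∀ c ∈ N, {s : Pt K A | s ∈ S ∧ c⁻¹ * s * c ∈ H}.Finite) : Finite H := by
  have hunip : ∀ g : Pt K A, IsUnip g → g ∈ N := by
    intro g hg
    have h1 : Pt.map σ g = 1 :=
      Groth.Agent.Sga3B.MT.Levi.eq_one_of_isUnip_of_mem hS (hσ g) (hg.map σ)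
    have h2 := hσN g
    rwa [h1, inv_one, one_mul] at h2
  refine finite_of_torus_unip hH (fun T hT hTH => ?_) fun g hg hu => hHN g hg (hunip g hu)
  have hSN : S ⊓ N = ⊥ := by
    rw [eq_bot_iff]
    rintro g ⟨hg1, hg2⟩
    rw [Subgroup.mem_bot]
    exact Groth.Agent.Sga3B.MT.Levi.eq_one_of_isUnip_of_mem hS hg1 (hNu g hg2)
  obtain ⟨c, hc, hcT⟩ := exists_conj_of_torus (G := ⊤) (N := N) (S := S) (T := T) le_top
    (by rw [Subgroup.normalizer_eq_top_iff.2 hNn]) hN hNu le_top hS.isCl hSN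
    (fun g _ => ⟨Pt.map σ g, hσ g, hσN g⟩) hT le_top
  have h1 : ((fun s : Pt K A => c⁻¹ * s * c) '' {s : Pt K A | s ∈ S ∧ c⁻¹ * s * c ∈ H}).Finite :=
    (hfin c hc).image _
  have h2 : (T : Set (Pt K A)).Finite := by
    refine h1.subset fun t ht => ⟨c * t * c⁻¹, ⟨hcT t ht, ?_⟩, ?_⟩
    · have : c⁻¹ * (c * t * c⁻¹) * c = t := by group
      rw [this]
      exact hTH ht
    · change c⁻¹ * (c * t * c⁻¹) * c = t
      group
  exact SsCrit989.eq_bot_of_finite hT.isConn h2

end K690.StabTor
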